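import Groth.Prelude.Def_Magnet2
import Mathlib.AlgebraicGeometry.Morphisms.SchemeTheoreticallyDominant

/-!
# `A(M)_S ×_S T ⟶ A(N)_S ×_S T` is scheme-theoretically dominant for injective `N →+ M` (helper2)

Main result: `isSchemeTheoreticallyDominant_whiskerRight`.  The ring map `ℤ[N] → ℤ[M]` has a
`ℤ`-linear retraction, hence stays injective after any base change; affine-locally on `T` the
morphism is `Spec` of such a base change (`isIso_pushoutSection_of_isAffineOpen`).
-/

set_option autoImplicit false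
set_option synthInstance.maxHeartbeats 400000
set_option maxHeartbeats 4000000
set_option linter.style.haveILetI false
set_option linter.unusedSectionVars false
set_option linter.unusedVariables false
set_option linter.unusedSimpArgs false
set_option linter.unnecessarySimpa false

universe u
open CategoryTheory Limits AlgebraicGeometry TensorProduct MonoidalCategory CartesianMonoidalCategory
open Magnet

namespace Groth.Agent.Helper2.MagnetDom

theorem injective_of_isPushout_of_retraction {R₀ A A' R Q Q' : CommRingCat.{u}}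
    {a : R₀ ⟶ A} {a' : R₀ ⟶ A'} {r : R₀ ⟶ R} {i₁ : A ⟶ Q} {i₂ : R ⟶ Q} {i₁' : A' ⟶ Q'}
    {i₂' : R ⟶ Q'} (h : IsPushout a r i₁ i₂) (h' : IsPushout a' r i₁' i₂')
    (u : A ⟶ A') (θ : Q ⟶ Q') (h1 : i₁ ≫ θ = u ≫ i₁') (h2 : i₂ ≫ θ = i₂')
    (ρ : A' →+ A) (hρ : ∀ (c : R₀) (x : A'), ρ (a' c * x) = a c * ρ x)
    (hρu : ∀ x : A, ρ (u x) = x) : Function.Injective θ := by
  algebraize [a.hom, a'.hom, r.hom]
  let ρL : A' →ₗ[R₀] A :=
    { toFun := ρ
      map_add' := map_add ρ
      map_smul' := fun c x => by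
        simp only [Algebra.smul_def, RingHom.id_apply]
        exact hρ c x }
  have hT := CommRingCat.isPushout_tensorProduct R₀ A R
  have hT' := CommRingCat.isPushout_tensorProduct R₀ A' R
  let e := h.isoIsPushout _ _ hT
  let e' := h'.isoIsPushout _ _ hT'
  let θ' : CommRingCat.of (A ⊗[R₀] R) ⟶ CommRingCat.of (A' ⊗[R₀] R) := e.inv ≫ θ ≫ e'.hom
  have hl : CommRingCat.ofHom (S := A ⊗[R₀] R) Algebra.TensorProduct.includeLeftRingHom ≫ θ' =
      u ≫ CommRingCat.ofHom (S := A' ⊗[R₀] R) Algebra.TensorProduct.includeLeftRingHom := by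
    have e1 : CommRingCat.ofHom (S := A ⊗[R₀] R) Algebra.TensorProduct.includeLeftRingHom ≫ e.inv
        = i₁ := IsPushout.inl_isoIsPushout_inv _ _ h hT
    have e2 : i₁' ≫ e'.hom =
        CommRingCat.ofHom (S := A' ⊗[R₀] R) Algebra.TensorProduct.includeLeftRingHom :=
      IsPushout.inl_isoIsPushout_hom _ _ h' hT'
    calc _ = (CommRingCat.ofHom (S := A ⊗[R₀] R) Algebra.TensorProduct.includeLeftRingHom ≫ e.inv)
          ≫ θ ≫ e'.hom := by simp only [θ', Category.assoc]
      _ = u ≫ (i₁' ≫ e'.hom) := by rw [e1, reassoc_of% h1]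
      _ = _ := by rw [e2]
  have hr : CommRingCat.ofHom (S := A ⊗[R₀] R) Algebra.TensorProduct.includeRight.toRingHom ≫ θ' =
      CommRingCat.ofHom (S := A' ⊗[R₀] R) Algebra.TensorProduct.includeRight.toRingHom := by
    have e1 : CommRingCat.ofHom (S := A ⊗[R₀] R) Algebra.TensorProduct.includeRight.toRingHom
        ≫ e.inv = i₂ := IsPushout.inr_isoIsPushout_inv _ _ h hT
    have e2 : i₂' ≫ e'.hom =
        CommRingCat.ofHom (S := A' ⊗[R₀] R) Algebra.TensorProduct.includeRight.toRingHom :=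
      IsPushout.inr_isoIsPushout_hom _ _ h' hT'
    calc _ = (CommRingCat.ofHom (S := A ⊗[R₀] R) Algebra.TensorProduct.includeRight.toRingHom
          ≫ e.inv) ≫ θ ≫ e'.hom := by simp only [θ', Category.assoc]
      _ = i₂' ≫ e'.hom := by rw [e1, reassoc_of% h2]
      _ = _ := by rw [e2]
  have hl' : ∀ x : A, θ' (x ⊗ₜ[R₀] (1 : R)) = (u x) ⊗ₜ[R₀] (1 : R) := fun x =>
    congr($hl x)
  have hr' : ∀ y : R, θ' ((1 : A) ⊗ₜ[R₀] y) = (1 : A') ⊗ₜ[R₀] y := fun y =>
    congr($hr y)
  have key : ∀ x : A ⊗[R₀] R, (ρL.rTensor R) (θ' x) = x := by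
    intro x
    induction x using TensorProduct.induction_on with
    | zero => simp
    | tmul x y =>
      have : x ⊗ₜ[R₀] y = (x ⊗ₜ[R₀] (1 : R)) * ((1 : A) ⊗ₜ[R₀] y) := by
        rw [Algebra.TensorProduct.tmul_mul_tmul, mul_one, one_mul]
      rw [this, map_mul, hl', hr', Algebra.TensorProduct.tmul_mul_tmul, mul_one, one_mul,
        LinearMap.rTensor_tmul]
      change (ρ (u x)) ⊗ₜ[R₀] y = _
      rw [hρu]
      exact this
    | add x y hx hy => rw [map_add, map_add, hx, hy]
  have hθ' : Function.Injective θ' := by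
    intro x y hxy
    rw [← key x, ← key y, hxy]
  have hθ : θ = e.hom ≫ θ' ≫ e'.inv := by
    simp only [θ', Category.assoc, Iso.hom_inv_id, Category.comp_id, Iso.hom_inv_id_assoc]
  rw [hθ]
  have he : Function.Injective e.hom := (ConcreteCategory.bijective_of_isIso e.hom).1
  have he' : Function.Injective e'.inv := (ConcreteCategory.bijective_of_isIso e'.inv).1
  intro x y hxy
  apply he
  apply hθ'
  apply he'
  exact hxy

section Retraction

variable {R : Type u} [CommRing R] {M' N' : Type} [CommMonoid M'] [CommMonoid N'] (g : N' →* M')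

theorem bialg_apply (x : MonoidAlgebra R N') :
    (MonoidAlgebra.mapDomainBialgHom R g).toAlgHom.toRingHom x = MonoidAlgebra.mapDomain g x := rfl

theorem comap_map (hg : Function.Injective g) (x : MonoidAlgebra R N') :
    MonoidAlgebra.comapDomain g hg (MonoidAlgebra.mapDomain g x) = x := by
  ext : 1
  simp only [MonoidAlgebra.coeff_comapDomain, MonoidAlgebra.coeff_mapDomain]
  exact Finsupp.comapDomain_mapDomain _ hg _

theorem comap_algebraMap_mul (hg : Function.Injective g) (c : R) (x : MonoidAlgebra R M') :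
    MonoidAlgebra.comapDomain g hg (algebraMap R (MonoidAlgebra R M') c * x) =
      algebraMap R (MonoidAlgebra R N') c * MonoidAlgebra.comapDomain g hg x := by
  rw [← Algebra.smul_def, ← Algebra.smul_def]
  ext : 1
  simp only [MonoidAlgebra.coeff_comapDomain, MonoidAlgebra.coeff_smul]
  exact Finsupp.comapDomain_smul_of_injective hg _ _

theorem appLE_top_top {X Y : Scheme.{u}} (f : X ⟶ Y) (e : (⊤ : X.Opens) ≤ f ⁻¹ᵁ ⊤) :
    f.appLE ⊤ ⊤ e = f.appTop := by
  simp [Scheme.Hom.appLE, Scheme.Hom.appTop]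

theorem spec_retraction (hg : Function.Injective g) :
    ∃ ρ : Γ(Spec (CommRingCat.of (MonoidAlgebra R M')), ⊤) →+
        Γ(Spec (CommRingCat.of (MonoidAlgebra R N')), ⊤),
      (∀ (c : Γ(Spec (CommRingCat.of R), ⊤)) (x : Γ(Spec (CommRingCat.of (MonoidAlgebra R M')), ⊤)),
        ρ ((Spec.map (CommRingCat.ofHom (algebraMap R (MonoidAlgebra R M')))).appTop c * x) =
          (Spec.map (CommRingCat.ofHom (algebraMap R (MonoidAlgebra R N')))).appTop c * ρ x) ∧
      (∀ x : Γ(Spec (CommRingCat.of (MonoidAlgebra R N')), ⊤),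
        ρ ((Spec.map (CommRingCat.ofHom
          (MonoidAlgebra.mapDomainBialgHom R g).toAlgHom.toRingHom)).appTop x) = x) := by
  let eN := Scheme.ΓSpecIso (CommRingCat.of (MonoidAlgebra R N'))
  let eM := Scheme.ΓSpecIso (CommRingCat.of (MonoidAlgebra R M'))
  let e₀ := Scheme.ΓSpecIso (CommRingCat.of R)
  refine ⟨eN.inv.hom.toAddMonoidHom.comp
    ((MonoidAlgebra.comapDomainAddMonoidHom g hg).comp eM.hom.hom.toAddMonoidHom), ?_, ?_⟩
  · intro c x
    have n1 : eM.hom ((Spec.map (CommRingCat.ofHom (algebraMap R (MonoidAlgebra R M')))).appTop c) =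
        algebraMap R (MonoidAlgebra R M') (e₀.hom c) :=
      congr($(Scheme.ΓSpecIso_naturality (CommRingCat.ofHom (algebraMap R (MonoidAlgebra R M')))) c)
    have n2 : eN.inv (algebraMap R (MonoidAlgebra R N') (e₀.hom c)) =
        (Spec.map (CommRingCat.ofHom (algebraMap R (MonoidAlgebra R N')))).appTop c := by
      have := congr($(Scheme.ΓSpecIso_inv_naturality
        (CommRingCat.ofHom (algebraMap R (MonoidAlgebra R N')))) (e₀.hom c))
      refine this.trans ?_
      change (Spec.map (CommRingCat.ofHom (algebraMap R (MonoidAlgebra R N')))).appTop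
        (e₀.inv (e₀.hom c)) = _
      congr 1
      exact congr($(e₀.hom_inv_id) c)
    change eN.inv (MonoidAlgebra.comapDomain g hg (eM.hom (_ * x))) = _ * eN.inv
      (MonoidAlgebra.comapDomain g hg (eM.hom x))
    rw [map_mul, n1, comap_algebraMap_mul, map_mul, n2]
  · intro x
    have n1 : eM.hom ((Spec.map (CommRingCat.ofHom
          (MonoidAlgebra.mapDomainBialgHom R g).toAlgHom.toRingHom)).appTop x) =
        MonoidAlgebra.mapDomain g (eN.hom x) :=
      congr($(Scheme.ΓSpecIso_naturality (CommRingCat.ofHom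
          (MonoidAlgebra.mapDomainBialgHom R g).toAlgHom.toRingHom)) x)
    change eN.inv (MonoidAlgebra.comapDomain g hg (eM.hom _)) = x
    rw [n1, comap_map]
    exact congr($(eN.hom_inv_id) x)

end Retraction

section Squares

variable (S : Scheme.{u}) {M N : Type} [AddCommMonoid M] [AddCommMonoid N]

/-- the structure map `S ⟶ Spec ℤ` -/
noncomputable abbrev tau : S ⟶ Spec (CommRingCat.of (ULift.{u} ℤ)) :=
  Limits.IsTerminal.from specULiftZIsTerminal S

/-- projection `A(N)_S ×_S T ⟶ T` -/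
noncomputable abbrev pT (N : Type) [AddCommMonoid N] (T : Over S) : (AMonS S N ⊗ T).left ⟶ T.left :=
  (snd (AMonS S N) T).left

/-- projection `A(N)_S ×_S T ⟶ A(N)_ℤ` -/
noncomputable abbrev qA (N : Type) [AddCommMonoid N] (T : Over S) :
    (AMonS S N ⊗ T).left ⟶ (AMon (ULift.{u} ℤ) N).left :=
  (fst (AMonS S N) T).left ≫ pullback.fst (AMon (ULift.{u} ℤ) N).hom (tau S)

theorem isPullback_qA_pT (N : Type) [AddCommMonoid N] (T : Over S) :
    IsPullback (qA S N T) (pT S N T) (AMon (ULift.{u} ℤ) N).hom (T.hom ≫ tau S) :=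
  (IsPullback.of_hasPullback (AMonS S N).hom T.hom).paste_horiz
    (IsPullback.of_hasPullback (AMon (ULift.{u} ℤ) N).hom (tau S))

theorem map_pT (f : N →+ M) (T : Over S) : (AMonS.map S f ▷ T).left ≫ pT S N T = pT S M T := by
  exact Over.whiskerRight_left_snd _

theorem map_qA (f : N →+ M) (T : Over S) :
    (AMonS.map S f ▷ T).left ≫ qA S N T = qA S M T ≫ (AMon.map (ULift.{u} ℤ) f).left := by
  simp only [qA, AMonS.map]
  rw [Over.fst_left, Over.whiskerRight_left_fst_assoc, Category.assoc]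
  congr 1
  exact pullback.lift_fst _ _ _

end Squares


section Main

variable (S : Scheme.{u}) {M N : Type} [AddCommMonoid M] [AddCommMonoid N]

theorem app_injective (f : N →+ M) (hf : Function.Injective f) (T : Over S) {V : T.left.Opens}
    (hV : IsAffineOpen V) :
    Function.Injective ((AMonS.map S f ▷ T).left.app (pT S N T ⁻¹ᵁ V)) := by
  have hpN := isPullback_qA_pT S N T
  have hpM := isPullback_qA_pT S M T
  have hUN : pT S N T ⁻¹ᵁ V = qA S N T ⁻¹ᵁ ⊤ ⊓ pT S N T ⁻¹ᵁ V := by simp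
  have hUM : (AMonS.map S f ▷ T).left ⁻¹ᵁ (pT S N T ⁻¹ᵁ V) =
      qA S M T ⁻¹ᵁ ⊤ ⊓ pT S M T ⁻¹ᵁ V := by
    rw [← Scheme.Hom.comp_preimage, map_pT]; simp
  have hST : V ≤ (T.hom ≫ tau S) ⁻¹ᵁ ⊤ := le_top
  have hSXN : (⊤ : (AMon (ULift.{u} ℤ) N).left.Opens) ≤ (AMon (ULift.{u} ℤ) N).hom ⁻¹ᵁ ⊤ := le_top
  have hSXM : (⊤ : (AMon (ULift.{u} ℤ) M).left.Opens) ≤ (AMon (ULift.{u} ℤ) M).hom ⁻¹ᵁ ⊤ := le_top
  haveI : IsAffine (AMon (ULift.{u} ℤ) N).left :=
    inferInstanceAs (IsAffine (Spec _))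
  haveI : IsAffine (AMon (ULift.{u} ℤ) M).left :=
    inferInstanceAs (IsAffine (Spec _))
  have PN := (isIso_pushoutSection_iff hpN hST hSXN hUN).mp
    (isIso_pushoutSection_of_isAffineOpen hpN hST hSXN hUN (isAffineOpen_top _) hV
      (isAffineOpen_top _))
  have PM := (isIso_pushoutSection_iff hpM hST hSXM hUM).mp
    (isIso_pushoutSection_of_isAffineOpen hpM hST hSXM hUM (isAffineOpen_top _) hV
      (isAffineOpen_top _))
  obtain ⟨ρ, hρ1, hρ2⟩ := spec_retraction (R := ULift.{u} ℤ) (AddMonoidHom.toMultiplicative f)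
    (fun x y h => hf h)
  refine injective_of_isPushout_of_retraction PN PM
    ((AMon.map (ULift.{u} ℤ) f).left.appLE ⊤ ⊤ le_top) _ ?_ ?_ ρ ?_ ?_
  · rw [Scheme.Hom.app_eq_appLE, Scheme.Hom.appLE_comp_appLE, Scheme.Hom.appLE_comp_appLE]
    simp only [map_qA]
  · rw [Scheme.Hom.app_eq_appLE, Scheme.Hom.appLE_comp_appLE]
    simp only [map_pT]
  · intro c x
    rw [appLE_top_top, appLE_top_top]
    exact hρ1 c x
  · intro x
    rw [appLE_top_top]
    exact hρ2 x

theorem isSchemeTheoreticallyDominant_whiskerRight (f : N →+ M) (hf : Function.Injective f)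
    (T : Over S) : IsSchemeTheoreticallyDominant (AMonS.map S f ▷ T).left := by
  have hpN := isPullback_qA_pT S N T
  have hpM := isPullback_qA_pT S M T
  haveI hN : IsAffineHom (pT S N T) := MorphismProperty.of_isPullback (P := @IsAffineHom) hpN
    (inferInstanceAs (IsAffineHom (Spec.map _)))
  haveI hM : IsAffineHom (pT S M T) := MorphismProperty.of_isPullback (P := @IsAffineHom) hpM
    (inferInstanceAs (IsAffineHom (Spec.map _)))
  haveI : IsAffineHom ((AMonS.map S f ▷ T).left ≫ pT S N T) := by rw [map_pT]; exact hM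
  haveI : IsAffineHom (AMonS.map S f ▷ T).left := IsAffineHom.of_comp _ (pT S N T)
  rw [isSchemeTheoreticallyDominant_iff]
  refine Scheme.IdealSheafData.ext_of_iSup_eq_top
    (fun V : T.left.affineOpens => ⟨pT S N T ⁻¹ᵁ V.1, V.2.preimage (pT S N T)⟩) ?_ ?_
  · show ⨆ V : T.left.affineOpens, pT S N T ⁻¹ᵁ V.1 = ⊤
    rw [← Scheme.Hom.preimage_iSup, iSup_affineOpens_eq_top, Scheme.Hom.preimage_top]
  · intro V
    rw [Scheme.Hom.ker_apply, Scheme.IdealSheafData.ideal_bot, Pi.bot_apply,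
      ← RingHom.injective_iff_ker_eq_bot]
    exact app_injective S f hf T V.2

end Main

end Groth.Agent.Helper2.MagnetDom
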