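import Groth.Prelude.Def_Magnet
import Mathlib.CategoryTheory.Limits.Shapes.Pullback.IsPullback.Basic
import Mathlib.CategoryTheory.Limits.Types.Pullbacks

/-!
# General categorical lemmas on functors of equivariant maps (helper2)

`B` a monoid object, `A` acting on `B` through a monoid morphism `ψ : A ⟶ B`.
* `precomp_eq_orbit`: an equivariant `φ : B ⊗ T ⟶ X` restricted along `ψ ▷ T` is the orbit map of
  its value at the unit section.
* `evalAt_injective`: if `ψ ▷ T` is "epi with respect to `X`", evaluation at the unit is injective.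
* `isPullback_postcomp_evalAt`: the square `D_Z → D_X`, `D_Z → Z`, `D_X → X`, `Z → X` is cartesian for
  a monomorphism `j : Z ⟶ X` as soon as morphisms `B ⊗ T ⟶ X` whose restriction along `ψ ▷ T`
  factors through `j` factor through `j`.
-/

set_option autoImplicit false
set_option synthInstance.maxHeartbeats 400000
set_option maxHeartbeats 4000000
set_option linter.style.haveILetI false
set_option linter.unusedSectionVars false
set_option linter.unusedVariables false
set_option linter.unusedSimpArgs false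
set_option linter.unnecessarySimpa false

universe v₁ u₁
open CategoryTheory MonoidalCategory CartesianMonoidalCategory MonObj Opposite
open Magnet Magnet.MonAct

namespace Groth.Agent.Helper2.MagnetCat

variable {C : Type u₁} [Category.{v₁} C] [CartesianMonoidalCategory C]
variable {A B X Z : C} [MonObj A] [MonObj B]

theorem precomp_eq_orbit (ψ : A ⟶ B) [IsMonHom ψ] (a : MonAct A X) {T : C} (φ : B ⊗ T ⟶ X)
    (hφ : IsEquivariant (((regular B).restrict ψ).prod (trivial A T)) a φ) :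
    (ψ ▷ T) ≫ φ = (A ◁ (lift (toUnit T ≫ η[B]) (𝟙 T) ≫ φ)) ≫ a.act := by
  rw [mem_eqvHom_iff] at hφ
  apply hom_ext_lift₂
  intro T' p q
  have h := hφ T' p (toUnit T' ≫ η[B]) q
  rw [lift_restrict_act, lift_regular_act] at h
  have h1 : (p ≫ ψ) * (toUnit T' ≫ η[B]) = p ≫ ψ := by
    rw [← Hom.one_def]
    exact mul_one _
  rw [h1] at h
  rw [lift_whiskerRight_assoc, h, lift_whiskerLeft_assoc]
  congr 2
  rw [← Category.assoc, comp_lift, Category.comp_id, ← Category.assoc]
  congr 3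
  exact toUnit_unique _ _

theorem evalAt_injective (ψ : A ⟶ B) [IsMonHom ψ] (a : MonAct A X) (T : C)
    (hcancel : ∀ φ₁ φ₂ : B ⊗ T ⟶ X, (ψ ▷ T) ≫ φ₁ = (ψ ▷ T) ≫ φ₂ → φ₁ = φ₂) :
    Function.Injective
      (fun φ => (eqvHom.evalAt ((regular B).restrict ψ) a η[B]).app (op T) φ) := by
  intro φ₁ φ₂ h
  have h' : lift (toUnit T ≫ η[B]) (𝟙 T) ≫ φ₁.1 = lift (toUnit T ≫ η[B]) (𝟙 T) ≫ φ₂.1 := h
  apply Subtype.ext
  apply hcancel
  rw [precomp_eq_orbit ψ a φ₁.1 φ₁.2, precomp_eq_orbit ψ a φ₂.1 φ₂.2, h']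

theorem isPullback_postcomp_evalAt (ψ : A ⟶ B) [IsMonHom ψ] (aX : MonAct A X) (aZ : MonAct A Z)
    (j : Z ⟶ X) [Mono j] (hj : IsEquivariant aZ aX j)
    (hlift : ∀ (T : C) (φ : B ⊗ T ⟶ X) (e : A ⊗ T ⟶ Z), (ψ ▷ T) ≫ φ = e ≫ j →
      ∃ χ : B ⊗ T ⟶ Z, χ ≫ j = φ) :
    IsPullback (eqvHom.postcomp ((regular B).restrict ψ) j hj)
      (eqvHom.evalAt ((regular B).restrict ψ) aZ η[B])
      (eqvHom.evalAt ((regular B).restrict ψ) aX η[B]) (yoneda.map j) := by
  apply IsPullback.of_forall_isPullback_app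
  intro T
  rw [CategoryTheory.Limits.Types.isPullback_iff]
  refine ⟨?_, ?_, ?_⟩
  · ext φ
    change lift (toUnit (unop T) ≫ η[B]) (𝟙 (unop T)) ≫ (φ.1 ≫ j) =
      (lift (toUnit (unop T) ≫ η[B]) (𝟙 (unop T)) ≫ φ.1) ≫ j
    rw [Category.assoc]
  · rintro φ φ' ⟨h1, h2⟩
    have h1' : φ.1 ≫ j = φ'.1 ≫ j := congrArg Subtype.val h1
    apply Subtype.ext
    exact (cancel_mono j).1 h1'
  · intro φ z h
    have h' : lift (toUnit (unop T) ≫ η[B]) (𝟙 (unop T)) ≫ φ.1 = z ≫ j := h
    have horb := precomp_eq_orbit ψ aX φ.1 φ.2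
    rw [h', MonoidalCategory.whiskerLeft_comp, Category.assoc, ← hj] at horb
    obtain ⟨χ, hχ⟩ := hlift (unop T) φ.1 ((A ◁ z) ≫ aZ.act) (by rw [horb, Category.assoc])
    have hχeq : IsEquivariant (((regular B).restrict ψ).prod (trivial A (unop T))) aZ χ := by
      have e1 := φ.2
      unfold IsEquivariant at e1 hj ⊢
      rw [← cancel_mono j, Category.assoc, hχ, e1, Category.assoc, hj, ← hχ,
        MonoidalCategory.whiskerLeft_comp, Category.assoc]
    refine ⟨⟨χ, hχeq⟩, ?_, ?_⟩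
    · apply Subtype.ext
      exact hχ
    · change lift (toUnit (unop T) ≫ η[B]) (𝟙 (unop T)) ≫ χ = z
      rw [← cancel_mono j, Category.assoc, hχ, h']

end Groth.Agent.Helper2.MagnetCat
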