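import Groth.Prelude.Def_Magnet
import Groth.Agent.Lib.Helper2.Magnet.Cat

/-!
# More categorical lemmas on functors of equivariant maps (helper2)

* `isEquivariant_of_precomp_eq_orbit`: a map `φ : B ⊗ T ⟶ X` whose restriction along `ψ ▷ T` is an
  orbit map is equivariant, provided `A ◁ (ψ ▷ T)` is "epi with respect to `X`".
* `evalAt_eq_of_precomp_eq_orbit`: its value at the unit is the point of the orbit map.
* `exists_representableBy`: representability of `eqvHom` from a universal element.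
-/

set_option autoImplicit false
set_option synthInstance.maxHeartbeats 400000
set_option maxHeartbeats 4000000
set_option linter.style.haveILetI false
set_option linter.unusedSectionVars false
set_option linter.unusedVariables false
set_option linter.unusedSimpArgs false
set_option linter.unnecessarySimpa false

universe v₁ u₁
open CategoryTheory MonoidalCategory CartesianMonoidalCategory MonObj Opposite
open Magnet Magnet.MonAct

namespace Groth.Agent.Helper2.MagnetCat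

variable {C : Type u₁} [Category.{v₁} C] [CartesianMonoidalCategory C]
variable {A B X Z : C} [MonObj A]

section TwoMonoids

variable [MonObj B]

theorem isEquivariant_of_precomp_eq_orbit (ψ : A ⟶ B) [IsMonHom ψ] (a : MonAct A X) {T : C}
    (φ : B ⊗ T ⟶ X) (x : T ⟶ X) (h : (ψ ▷ T) ≫ φ = (A ◁ x) ≫ a.act)
    (hcancel : ∀ f₁ f₂ : A ⊗ (B ⊗ T) ⟶ X,
      (A ◁ (ψ ▷ T)) ≫ f₁ = (A ◁ (ψ ▷ T)) ≫ f₂ → f₁ = f₂) :
    IsEquivariant (((regular B).restrict ψ).prod (trivial A T)) a φ := by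
  unfold IsEquivariant
  apply hcancel
  apply hom_ext_lift₂
  intro T' g z
  rw [← lift_comp_fst_snd z]
  generalize z ≫ fst A T = h'
  generalize z ≫ snd A T = t
  have L1 : lift g (lift h' t) ≫ (A ◁ (ψ ▷ T)) = lift g (lift (h' ≫ ψ) t) := by
    rw [lift_whiskerLeft, lift_whiskerRight]
  have key : lift (h' ≫ ψ) t ≫ φ = lift h' (t ≫ x) ≫ a.act := by
    rw [← lift_whiskerRight_assoc, h, lift_whiskerLeft_assoc]
  have key2 : lift ((g * h') ≫ ψ) t ≫ φ = lift (g * h') (t ≫ x) ≫ a.act := by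
    rw [← lift_whiskerRight_assoc, h, lift_whiskerLeft_assoc]
  calc lift g (lift h' t) ≫ (A ◁ (ψ ▷ T)) ≫
        (((regular B).restrict ψ).prod (trivial A T)).act ≫ φ
      = lift g (lift (h' ≫ ψ) t) ≫ (((regular B).restrict ψ).prod (trivial A T)).act ≫ φ := by
        rw [← Category.assoc, L1]
    _ = lift ((g ≫ ψ) * (h' ≫ ψ)) t ≫ φ := by
        rw [lift_prod_act_assoc, lift_restrict_act, lift_regular_act, lift_trivial_act]
    _ = lift ((g * h') ≫ ψ) t ≫ φ := by rw [MonObj.mul_comp]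
    _ = lift (g * h') (t ≫ x) ≫ a.act := key2
    _ = lift g (lift h' (t ≫ x) ≫ a.act) ≫ a.act := a.lift_mul_act g h' (t ≫ x)
    _ = lift g (lift (h' ≫ ψ) t ≫ φ) ≫ a.act := by rw [key]
    _ = lift g (lift (h' ≫ ψ) t) ≫ (A ◁ φ) ≫ a.act := by rw [lift_whiskerLeft_assoc]
    _ = lift g (lift h' t) ≫ (A ◁ (ψ ▷ T)) ≫ (A ◁ φ) ≫ a.act := by
        rw [← Category.assoc _ (A ◁ (ψ ▷ T)), L1]

theorem evalAt_eq_of_precomp_eq_orbit (ψ : A ⟶ B) [IsMonHom ψ] (a : MonAct A X) {T : C}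
    (φ : B ⊗ T ⟶ X) (x : T ⟶ X) (h : (ψ ▷ T) ≫ φ = (A ◁ x) ≫ a.act) :
    lift (toUnit T ≫ η[B]) (𝟙 T) ≫ φ = x := by
  have h1 : toUnit T ≫ η[B] = (toUnit T ≫ η[A]) ≫ ψ := by
    rw [Category.assoc, IsMonHom.one_hom]
  rw [h1, ← lift_whiskerRight_assoc, h, lift_whiskerLeft_assoc, Category.id_comp, ← Hom.one_def]
  exact a.lift_one_act x

end TwoMonoids

theorem exists_representableBy (ρ : MonAct A B) (a : MonAct A X) (e₀ : 𝟙_ C ⟶ B)
    (j : Z ⟶ X) [Mono j] (u : (eqvHom ρ a).obj (op Z))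
    (hu : (eqvHom.evalAt ρ a e₀).app (op Z) u = j)
    (hinj : ∀ T : C, Function.Injective (fun φ => (eqvHom.evalAt ρ a e₀).app (op T) φ))
    (H : ∀ (T : C) (φ : (eqvHom ρ a).obj (op T)),
      ∃ z : T ⟶ Z, z ≫ j = (eqvHom.evalAt ρ a e₀).app (op T) φ) :
    ∃ e : (eqvHom ρ a).RepresentableBy Z, ∀ (T : C) (z : T ⟶ Z),
      (eqvHom.evalAt ρ a e₀).app (op T) (e.homEquiv z) = z ≫ j := by
  have hnat : ∀ {T : C} (z : T ⟶ Z),
      (eqvHom.evalAt ρ a e₀).app (op T) ((eqvHom ρ a).map z.op u) = z ≫ j := by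
    intro T z
    rw [← hu]
    change lift (toUnit T ≫ e₀) (𝟙 T) ≫ (B ◁ z) ≫ u.1 = z ≫ lift (toUnit Z ≫ e₀) (𝟙 Z) ≫ u.1
    have e1 : lift (toUnit T ≫ e₀) (𝟙 T) ≫ (B ◁ z) = z ≫ lift (toUnit Z ≫ e₀) (𝟙 Z) := by
      apply CartesianMonoidalCategory.hom_ext <;> simp
    rw [← Category.assoc, e1, Category.assoc]
  let E : ∀ T : C, (T ⟶ Z) ≃ (eqvHom ρ a).obj (op T) := fun T =>
    { toFun := fun z => (eqvHom ρ a).map z.op u
      invFun := fun φ => (H T φ).choose
      left_inv := fun z => by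
        rw [← cancel_mono j, (H T _).choose_spec, hnat]
      right_inv := fun φ => by
        apply hinj T
        change (eqvHom.evalAt ρ a e₀).app (op T) ((eqvHom ρ a).map (H T φ).choose.op u) =
          (eqvHom.evalAt ρ a e₀).app (op T) φ
        rw [hnat, (H T φ).choose_spec] }
  refine ⟨⟨fun {T} => E T, ?_⟩, fun T z => hnat z⟩
  intro T T' f g
  apply Subtype.ext
  change (B ◁ (f ≫ g)) ≫ u.1 = (B ◁ f) ≫ (B ◁ g) ≫ u.1
  rw [MonoidalCategory.whiskerLeft_comp, Category.assoc]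

end Groth.Agent.Helper2.MagnetCat
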