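import Mathlib.AlgebraicGeometry.Morphisms.SchemeTheoreticallyDominant
import Mathlib.AlgebraicGeometry.Morphisms.Separated
import Mathlib.AlgebraicGeometry.Morphisms.ClosedImmersion

/-!
# Scheme-theoretically dominant morphisms in `Over S` (helper2)

* `eq_of_comp_eq_of_dominant`: morphisms to a separated `S`-scheme agreeing after a schematically
  dominant morphism are equal.
* `exists_lift_of_dominant`: if `g ≫ φ` factors through a closed immersion `j` and `g` is
  schematically dominant, then `φ` factors through `j`.
-/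

set_option autoImplicit false
set_option synthInstance.maxHeartbeats 400000
set_option maxHeartbeats 4000000
set_option linter.style.haveILetI false
set_option linter.unusedSectionVars false
set_option linter.unusedVariables false
set_option linter.unusedSimpArgs false
set_option linter.unnecessarySimpa false

universe u
open CategoryTheory Limits AlgebraicGeometry

namespace Groth.Agent.Helper2.MagnetDom

theorem eq_of_comp_eq_of_dominant {S : Scheme.{u}} {P' P X : Over S} [IsSeparated X.hom]
    (g : P' ⟶ P) [IsSchemeTheoreticallyDominant g.left] (φ₁ φ₂ : P ⟶ X)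
    (h : g ≫ φ₁ = g ≫ φ₂) : φ₁ = φ₂ := by
  have hι : IsIso (equalizer.ι φ₁ φ₂).left := by
    rw [IsClosedImmersion.isIso_iff_ker_eq_bot, ← le_bot_iff]
    have h1 : g.left = (equalizer.lift g h).left ≫ (equalizer.ι φ₁ φ₂).left := by
      rw [← Over.comp_left, equalizer.lift_ι]
    have h2 := Scheme.Hom.le_ker_comp (equalizer.lift g h).left (equalizer.ι φ₁ φ₂).left
    rw [← h1, Scheme.Hom.ker_eq_bot g.left] at h2
    exact h2
  apply Over.OverMorphism.ext
  rw [← cancel_epi (equalizer.ι φ₁ φ₂).left, ← Over.comp_left, ← Over.comp_left,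
    equalizer.condition]

theorem exists_lift_of_dominant {S : Scheme.{u}} {P' P X Z : Over S} (g : P' ⟶ P)
    [IsSchemeTheoreticallyDominant g.left] (j : Z ⟶ X) [IsClosedImmersion j.left]
    (φ : P ⟶ X) (e : P' ⟶ Z) (h : g ≫ φ = e ≫ j) : ∃ χ : P ⟶ Z, χ ≫ j = φ := by
  have hk : j.left.ker ≤ φ.left.ker := by
    have h1 : (g.left ≫ φ.left).ker = φ.left.ker := by
      rw [Scheme.Hom.ker_comp, Scheme.Hom.ker_eq_bot g.left, Scheme.IdealSheafData.map_bot]
    rw [← h1, ← Over.comp_left, h, Over.comp_left]
    exact Scheme.Hom.le_ker_comp _ _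
  refine ⟨Over.homMk (IsClosedImmersion.lift j.left φ.left hk) ?_, ?_⟩
  · rw [← Over.w j, ← Category.assoc, IsClosedImmersion.lift_fac, Over.w]
  · apply Over.OverMorphism.ext
    rw [Over.comp_left]
    exact IsClosedImmersion.lift_fac _ _ _

end Groth.Agent.Helper2.MagnetDom
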