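import Groth.Prelude.Def_Magnet2
import Mathlib.AlgebraicGeometry.PullbackCarrier
import Mathlib.AlgebraicGeometry.ResidueField
import Mathlib.CategoryTheory.Limits.Types.Pullbacks

/-!
# Equivariant maps out of a monoid with zero: open stable subschemes (helper2)
-/

set_option autoImplicit false
set_option synthInstance.maxHeartbeats 400000
set_option maxHeartbeats 4000000
set_option linter.style.haveILetI false
set_option linter.unusedSectionVars false
set_option linter.unusedVariables false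
set_option linter.unusedSimpArgs false
set_option linter.unnecessarySimpa false

universe v₁ u₁ u
open CategoryTheory Limits MonoidalCategory CartesianMonoidalCategory MonObj AlgebraicGeometry Opposite
open Magnet Magnet.MonAct

namespace Groth.Agent.Helper2.MagnetOpen

section Cat

variable {C : Type u₁} [Category.{v₁} C] [CartesianMonoidalCategory C]
variable {A B X Z : C} [MonObj A]

theorem isPullback_postcomp_evalAt' (ρ : MonAct A B) (aX : MonAct A X) (aZ : MonAct A Z)
    (j : Z ⟶ X) [Mono j] (hj : IsEquivariant aZ aX j) (e : 𝟙_ C ⟶ B)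
    (hlift : ∀ (T : C) (φ : B ⊗ T ⟶ X), IsEquivariant (ρ.prod (trivial A T)) aX φ →
      ∀ z : T ⟶ Z, lift (toUnit T ≫ e) (𝟙 T) ≫ φ = z ≫ j → ∃ χ : B ⊗ T ⟶ Z, χ ≫ j = φ) :
    IsPullback (eqvHom.postcomp ρ j hj) (eqvHom.evalAt ρ aZ e) (eqvHom.evalAt ρ aX e)
      (yoneda.map j) := by
  apply IsPullback.of_forall_isPullback_app
  intro T
  rw [CategoryTheory.Limits.Types.isPullback_iff]
  refine ⟨?_, ?_, ?_⟩
  · ext φ
    change lift (toUnit (unop T) ≫ e) (𝟙 (unop T)) ≫ (φ.1 ≫ j) =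
      (lift (toUnit (unop T) ≫ e) (𝟙 (unop T)) ≫ φ.1) ≫ j
    rw [Category.assoc]
  · rintro φ φ' ⟨h1, h2⟩
    have h1' : φ.1 ≫ j = φ'.1 ≫ j := congrArg Subtype.val h1
    apply Subtype.ext
    exact (cancel_mono j).1 h1'
  · intro φ z h
    have h' : lift (toUnit (unop T) ≫ e) (𝟙 (unop T)) ≫ φ.1 = z ≫ j := h
    obtain ⟨χ, hχ⟩ := hlift (unop T) φ.1 φ.2 z h'
    have hχeq : IsEquivariant (ρ.prod (trivial A (unop T))) aZ χ := by
      have e1 := φ.2
      unfold IsEquivariant at e1 hj ⊢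
      rw [← cancel_mono j, Category.assoc, hχ, e1, Category.assoc, hj, ← hχ,
        MonoidalCategory.whiskerLeft_comp, Category.assoc]
    refine ⟨⟨χ, hχeq⟩, ?_, ?_⟩
    · apply Subtype.ext
      exact hχ
    · change lift (toUnit (unop T) ≫ e) (𝟙 (unop T)) ≫ χ = z
      rw [← cancel_mono j, Category.assoc, hχ, h']

end Cat

section Geom

variable {S : Scheme.{u}}

theorem range_fst_of_isPullback {P X Y B : Scheme.{u}} {fst' : P ⟶ X} {snd' : P ⟶ Y} {f : X ⟶ B}
    {g : Y ⟶ B} (H : IsPullback fst' snd' f g) :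
    Set.range fst' = f ⁻¹' Set.range g := by
  rw [← Scheme.Pullback.range_fst f g, ← H.isoPullback_hom_fst, Scheme.Hom.comp_base,
    TopCat.coe_comp, Set.range_comp, Set.range_eq_univ.2, Set.image_univ]
  exact (ConcreteCategory.bijective_of_isIso H.isoPullback.hom.base).2

theorem isPullback_whiskerLeft (M : Over S) {T₀ T : Over S} (τ : T₀ ⟶ T) :
    IsPullback (M ◁ τ).left (snd M T₀).left (snd M T).left τ.left := by
  refine IsPullback.of_right (h₁₂ := (fst M T).left) (h₂₂ := T.hom) (v₁₃ := M.hom) ?_ ?_ ?_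
  · have e1 : (M ◁ τ).left ≫ (fst M T).left = (fst M T₀).left := Over.whiskerLeft_left_fst _
    have e2 : τ.left ≫ T.hom = T₀.hom := Over.w τ
    rw [e1, e2]
    exact IsPullback.of_hasPullback M.hom T₀.hom
  · exact Over.whiskerLeft_left_snd _
  · exact IsPullback.of_hasPullback M.hom T.hom

theorem preimage_left_comp {A B C : Over S} (f : A ⟶ B) (g : B ⟶ C) (U : C.left.Opens) :
    (f ≫ g).left ⁻¹ᵁ U = f.left ⁻¹ᵁ (g.left ⁻¹ᵁ U) := by
  rw [Over.comp_left, Scheme.Hom.comp_preimage]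

theorem stable_open {G X U : Over S} (actX : G ⊗ X ⟶ X) (actU : G ⊗ U ⟶ U) (j : U ⟶ X)
    [IsOpenImmersion j.left] (hj : actU ≫ j = (G ◁ j) ≫ actX) :
    (snd G X).left ⁻¹ᵁ j.left.opensRange ≤ actX.left ⁻¹ᵁ j.left.opensRange := by
  intro q hq
  have hq' : q ∈ (snd G X).left ⁻¹' Set.range j.left := hq
  rw [← range_fst_of_isPullback (isPullback_whiskerLeft G j)] at hq'
  obtain ⟨q', rfl⟩ := hq'
  change actX.left ((G ◁ j).left q') ∈ Set.range j.left
  refine ⟨actU.left q', ?_⟩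
  rw [← Scheme.Hom.comp_apply, ← Scheme.Hom.comp_apply, ← Over.comp_left, ← Over.comp_left, hj]

/-- the residue field point of `T` over `S` -/
noncomputable abbrev pt (T : Over S) (t₀ : T.left) : Over S :=
  Over.mk (T.left.fromSpecResidueField t₀ ≫ T.hom)

noncomputable abbrev ptMap (T : Over S) (t₀ : T.left) : pt T t₀ ⟶ T :=
  Over.homMk (T.left.fromSpecResidueField t₀) rfl

theorem eq_top_of_fibers (M T : Over S) (W : (M ⊗ T).left.Opens)
    (h : ∀ t₀ : T.left, (M ◁ ptMap T t₀).left ⁻¹ᵁ W = ⊤) : W = ⊤ := by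
  rw [eq_top_iff]
  intro p _
  have hp : p ∈ Set.range (M ◁ ptMap T ((snd M T).left p)).left := by
    rw [range_fst_of_isPullback (isPullback_whiskerLeft M (ptMap T ((snd M T).left p)))]
    change (snd M T).left p ∈ Set.range (T.left.fromSpecResidueField ((snd M T).left p))
    rw [Scheme.range_fromSpecResidueField]
    rfl
  obtain ⟨p₀, hp₀⟩ := hp
  have h1 : p₀ ∈ (M ◁ ptMap T ((snd M T).left p)).left ⁻¹ᵁ W := by
    rw [h]; trivial
  rw [← hp₀]
  exact h1

end Geom

section Main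

theorem exists_lift_open (k : Type u) [Field k]
    (M G X U : Over (Spec (CommRingCat.of k))) [MonObj M] [GrpObj G] (i : G ⟶ M) [IsMonHom i]
    (o : 𝟙_ (Over (Spec (CommRingCat.of k))) ⟶ M)
    (hM : ∀ (T : Over (Spec (CommRingCat.of k))) (K : Type u) [Field K]
      (eT : T.left ≅ Spec (CommRingCat.of K)) (W : (M ⊗ T).left.Opens),
      (CartesianMonoidalCategory.snd G (M ⊗ T)).left ⁻¹ᵁ W ≤
          ((((Magnet.MonAct.regular M).restrict i).prod (Magnet.MonAct.trivial G T)).act).left ⁻¹ᵁ W →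
      (CartesianMonoidalCategory.lift (toUnit T ≫ o) (𝟙 T)).left ⁻¹ᵁ W = ⊤ → W = ⊤)
    (aX : AlgGrp.Action G X) (aU : AlgGrp.Action G U) (j : U ⟶ X) [IsOpenImmersion j.left]
    (hj : Magnet.MonAct.IsEquivariant (Magnet.MonAct.ofAction aU) (Magnet.MonAct.ofAction aX) j)
    (T : Over (Spec (CommRingCat.of k))) (φ : M ⊗ T ⟶ X)
    (hφ : IsEquivariant (((Magnet.MonAct.regular M).restrict i).prod (Magnet.MonAct.trivial G T))
      (Magnet.MonAct.ofAction aX) φ)
    (z : T ⟶ U) (hz : lift (toUnit T ≫ o) (𝟙 T) ≫ φ = z ≫ j) :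
    ∃ χ : M ⊗ T ⟶ U, χ ≫ j = φ := by
  have hW : φ.left ⁻¹ᵁ j.left.opensRange = ⊤ := by
    apply eq_top_of_fibers
    intro t₀
    obtain ⟨φ₀, hφ₀⟩ : ∃ φ₀ : M ⊗ pt T t₀ ⟶ X, φ₀ = (M ◁ ptMap T t₀) ≫ φ := ⟨_, rfl⟩
    have hφ₀eq : ((((Magnet.MonAct.regular M).restrict i).prod
        (Magnet.MonAct.trivial G (pt T t₀))).act) ≫ φ₀ = (G ◁ φ₀) ≫ aX.act := by
      have := ((eqvHom ((Magnet.MonAct.regular M).restrict i) (Magnet.MonAct.ofAction aX)).map
        (ptMap T t₀).op ⟨φ, hφ⟩).2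
      rw [hφ₀]
      exact this
    have hW₀ : (M ◁ ptMap T t₀).left ⁻¹ᵁ (φ.left ⁻¹ᵁ j.left.opensRange) =
        φ₀.left ⁻¹ᵁ j.left.opensRange := by
      rw [hφ₀, preimage_left_comp]
    rw [hW₀]
    refine hM (pt T t₀) (T.left.residueField t₀) (Iso.refl _) _ ?_ ?_
    · rw [← preimage_left_comp, ← preimage_left_comp, hφ₀eq, ← whiskerLeft_snd,
        preimage_left_comp, preimage_left_comp]
      intro q hq
      exact stable_open aX.act aU.act j hj hq
    · rw [← preimage_left_comp]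
      have h1 : lift (toUnit (pt T t₀) ≫ o) (𝟙 (pt T t₀)) ≫ φ₀ = (ptMap T t₀ ≫ z) ≫ j := by
        rw [hφ₀, lift_whiskerLeft_assoc, Category.id_comp, Category.assoc, ← hz,
          ← Category.assoc, comp_lift, Category.comp_id, ← Category.assoc]
        congr 3
      rw [h1, preimage_left_comp, Scheme.Hom.preimage_opensRange]
      rfl
  have hrange : Set.range φ.left ⊆ Set.range j.left := by
    rintro _ ⟨p, rfl⟩
    have : p ∈ φ.left ⁻¹ᵁ j.left.opensRange := by rw [hW]; trivial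
    exact this
  refine ⟨Over.homMk (IsOpenImmersion.lift j.left φ.left hrange) ?_, ?_⟩
  · rw [← Over.w j, ← Category.assoc, IsOpenImmersion.lift_fac, Over.w]
  · apply Over.OverMorphism.ext
    rw [Over.comp_left]
    exact IsOpenImmersion.lift_fac _ _ _

theorem main18958 (k : Type u) [Field k]
    (M G X U : Over (Spec (CommRingCat.of k))) [MonObj M] [GrpObj G] (i : G ⟶ M) [IsMonHom i]
    (o : 𝟙_ (Over (Spec (CommRingCat.of k))) ⟶ M)
    (hM : ∀ (T : Over (Spec (CommRingCat.of k))) (K : Type u) [Field K]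
      (eT : T.left ≅ Spec (CommRingCat.of K)) (W : (M ⊗ T).left.Opens),
      (CartesianMonoidalCategory.snd G (M ⊗ T)).left ⁻¹ᵁ W ≤
          ((((Magnet.MonAct.regular M).restrict i).prod (Magnet.MonAct.trivial G T)).act).left ⁻¹ᵁ W →
      (CartesianMonoidalCategory.lift (toUnit T ≫ o) (𝟙 T)).left ⁻¹ᵁ W = ⊤ → W = ⊤)
    (aX : AlgGrp.Action G X) (aU : AlgGrp.Action G U) (j : U ⟶ X) [IsOpenImmersion j.left]
    (hj : Magnet.MonAct.IsEquivariant (Magnet.MonAct.ofAction aU) (Magnet.MonAct.ofAction aX) j) :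
    IsPullback
      (Magnet.MonAct.eqvHom.postcomp ((Magnet.MonAct.regular M).restrict i) j hj)
      (Magnet.MonAct.eqvHom.evalAt ((Magnet.MonAct.regular M).restrict i)
        (Magnet.MonAct.ofAction aU) o)
      (Magnet.MonAct.eqvHom.evalAt ((Magnet.MonAct.regular M).restrict i)
        (Magnet.MonAct.ofAction aX) o)
      (yoneda.map j) := by
  haveI : Mono j.left := inferInstance
  haveI : Mono j := Over.mono_of_mono_left j
  exact isPullback_postcomp_evalAt' _ (Magnet.MonAct.ofAction aX) (Magnet.MonAct.ofAction aU) j hj o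
    (fun T φ hφ z hz => exists_lift_open k M G X U i o hM aX aU j hj T φ hφ z hz)

end Main

end Groth.Agent.Helper2.MagnetOpen
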