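import Groth.Prelude.Def_Magnet2
import Mathlib.LinearAlgebra.TensorProduct.RightExactness
import Mathlib.LinearAlgebra.TensorProduct.Basis
import Mathlib.LinearAlgebra.FreeModule.Basic
import Mathlib.Algebra.Category.Ring.Constructions

/-!
# Algebra for the representability of equivariant maps out of a monoid with dense units (helper2)

Pushout squares of commutative rings over a field `k`, `P = A ⊗[k] R`, functionals
`P → R` induced by `k`-linear functionals `A → k`, and the criterion: an element of `A_G ⊗ R` lies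
in the image of `A_M ⊗ R` iff it is killed by all functionals vanishing on the image of `A_M`.
-/

set_option autoImplicit false
set_option synthInstance.maxHeartbeats 400000
set_option maxHeartbeats 4000000
set_option linter.style.haveILetI false
set_option linter.unusedSectionVars false
set_option linter.unusedVariables false
set_option linter.unusedSimpArgs false
set_option linter.unnecessarySimpa false

universe u
open CategoryTheory Limits TensorProduct

namespace Groth.Agent.Helper2.MagnetRep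

/-- Linear algebra criterion over a field. -/
theorem mem_range_rTensor_of_functionals {k : Type u} [Field k] {A' A R : Type u}
    [AddCommGroup A'] [Module k A'] [AddCommGroup A] [Module k A] [AddCommGroup R] [Module k R]
    (ι : A' →ₗ[k] A) (p : A ⊗[k] R)
    (h : ∀ l : A →ₗ[k] k, (∀ y, l (ι y) = 0) → TensorProduct.lid k R (l.rTensor R p) = 0) :
    ∃ q : A' ⊗[k] R, ι.rTensor R q = p := by
  classical
  have hex : Function.Exact ι (LinearMap.range ι).mkQ := LinearMap.exact_map_mkQ_range ι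
  have hex' := rTensor_exact R hex (Submodule.mkQ_surjective _)
  refine (hex' p).1 ?_
  let b := Module.Free.chooseBasis k (A ⧸ LinearMap.range ι)
  apply (TensorProduct.equivFinsuppOfBasisLeft b).injective
  rw [map_zero]
  ext c
  rw [TensorProduct.equivFinsuppOfBasisLeft_apply, Finsupp.zero_apply]
  have h1 := h ((b.coord c) ∘ₗ (LinearMap.range ι).mkQ) (fun y => by
    rw [LinearMap.comp_apply]
    have : (LinearMap.range ι).mkQ (ι y) = 0 := by
      rw [Submodule.mkQ_apply, Submodule.Quotient.mk_eq_zero]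
      exact LinearMap.mem_range_self ι y
    rw [this, map_zero])
  rw [LinearMap.rTensor_comp, LinearMap.comp_apply] at h1
  exact h1

theorem tensor_model {R₀ A R P : CommRingCat.{u}} {a : R₀ ⟶ A} {r : R₀ ⟶ R} {i₁ : A ⟶ P}
    {i₂ : R ⟶ P} (h : IsPushout a r i₁ i₂) [Algebra R₀ A] [Algebra R₀ R]
    (ha : a = CommRingCat.ofHom (algebraMap R₀ A)) (hr : r = CommRingCat.ofHom (algebraMap R₀ R)) :
    ∃ e : P ≅ CommRingCat.of (A ⊗[R₀] R),
      (∀ x : A, e.hom (i₁ x) = x ⊗ₜ[R₀] (1 : R)) ∧ (∀ s : R, e.hom (i₂ s) = (1 : A) ⊗ₜ[R₀] s) ∧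
      (∀ (x : A) (s : R), e.inv (x ⊗ₜ[R₀] s) = i₁ x * i₂ s) := by
  subst ha hr
  have hT := CommRingCat.isPushout_tensorProduct R₀ A R
  refine ⟨h.isoIsPushout _ _ hT, ?_, ?_, ?_⟩
  · intro x
    exact congr($(IsPushout.inl_isoIsPushout_hom _ _ h hT) x)
  · intro s
    exact congr($(IsPushout.inr_isoIsPushout_hom _ _ h hT) s)
  · intro x s
    have e1 : (h.isoIsPushout _ _ hT).inv (x ⊗ₜ[R₀] (1 : R)) = i₁ x :=
      congr($(IsPushout.inl_isoIsPushout_inv _ _ h hT) x)
    have e2 : (h.isoIsPushout _ _ hT).inv ((1 : A) ⊗ₜ[R₀] s) = i₂ s :=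
      congr($(IsPushout.inr_isoIsPushout_inv _ _ h hT) s)
    have e3 : x ⊗ₜ[R₀] s = (x ⊗ₜ[R₀] (1 : R)) * ((1 : A) ⊗ₜ[R₀] s) := by
      rw [Algebra.TensorProduct.tmul_mul_tmul, mul_one, one_mul]
    rw [e3, map_mul, e1, e2]

theorem pushout_induction {R₀ A R P : CommRingCat.{u}} {a : R₀ ⟶ A} {r : R₀ ⟶ R} {i₁ : A ⟶ P}
    {i₂ : R ⟶ P} (h : IsPushout a r i₁ i₂) {motive : P → Prop}
    (tmul : ∀ (x : A) (s : R), motive (i₁ x * i₂ s))
    (add : ∀ p q, motive p → motive q → motive (p + q)) (p : P) : motive p := by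
  letI : Algebra R₀ A := a.hom.toAlgebra
  letI : Algebra R₀ R := r.hom.toAlgebra
  obtain ⟨e, he1, he2, he3⟩ := tensor_model h rfl rfl
  have key : ∀ t : A ⊗[R₀] R, motive (e.inv t) := by
    intro t
    induction t using TensorProduct.induction_on with
    | zero =>
      have h0 : (0 : P) = i₁ 0 * i₂ 0 := by simp
      rw [map_zero, h0]
      exact tmul 0 0
    | tmul x s =>
      rw [he3]
      exact tmul x s
    | add x y hx hy =>
      rw [map_add]
      exact add _ _ hx hy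
  have hp : e.inv (e.hom p) = p := congr($(e.hom_inv_id) p)
  rw [← hp]
  exact key _

theorem addHom_ext {R₀ A R P : CommRingCat.{u}} {a : R₀ ⟶ A} {r : R₀ ⟶ R} {i₁ : A ⟶ P}
    {i₂ : R ⟶ P} (h : IsPushout a r i₁ i₂) {N : Type*} [AddZeroClass N] (f g : P →+ N)
    (hfg : ∀ (x : A) (s : R), f (i₁ x * i₂ s) = g (i₁ x * i₂ s)) : f = g := by
  ext p
  exact pushout_induction h (motive := fun p => f p = g p) hfg
    (fun p q hp hq => by rw [map_add, map_add, hp, hq]) p

section Field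

variable {k : Type u} [Field k]

theorem exists_functional {A R P : CommRingCat.{u}}
    {a : CommRingCat.of k ⟶ A} {r : CommRingCat.of k ⟶ R} {i₁ : A ⟶ P} {i₂ : R ⟶ P}
    (h : IsPushout a r i₁ i₂) (l : A →+ k) (hl : ∀ (c : k) (x : A), l (a c * x) = c * l x) :
    ∃ L : P →+ R, ∀ (x : A) (s : R), L (i₁ x * i₂ s) = r (l x) * s := by
  letI : Algebra k A := a.hom.toAlgebra
  letI : Algebra k R := r.hom.toAlgebra
  obtain ⟨e, he1, he2, he3⟩ := tensor_model (R₀ := CommRingCat.of k) h rfl rfl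
  let lL : A →ₗ[k] k :=
    { toFun := l
      map_add' := map_add l
      map_smul' := fun c x => by
        simp only [RingHom.id_apply, smul_eq_mul]
        have : c • x = a c * x := Algebra.smul_def c x
        rw [this]
        exact hl c x }
  let L₀ : A ⊗[k] R →ₗ[k] R := (TensorProduct.lid k R).toLinearMap ∘ₗ lL.rTensor R
  refine ⟨L₀.toAddMonoidHom.comp e.hom.hom.toAddMonoidHom, fun x s => ?_⟩
  change L₀ (e.hom (i₁ x * i₂ s)) = _
  rw [map_mul, he1, he2, Algebra.TensorProduct.tmul_mul_tmul, mul_one, one_mul]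
  change TensorProduct.lid k R (lL.rTensor R (x ⊗ₜ[k] s)) = _
  rw [LinearMap.rTensor_tmul, TensorProduct.lid_tmul, Algebra.smul_def]
  rfl

theorem functional_comp_eq_zero {AM AG R PM PG : CommRingCat.{u}}
    {m₀ : CommRingCat.of k ⟶ AM} {r₀ : CommRingCat.of k ⟶ R}
    {iM₁ : AM ⟶ PM} {iM₂ : R ⟶ PM} {iG₁ : AG ⟶ PG} {iG₂ : R ⟶ PG}
    (hM : IsPushout m₀ r₀ iM₁ iM₂)
    (ι : AM ⟶ AG) (θ : PM ⟶ PG) (h1 : iM₁ ≫ θ = ι ≫ iG₁) (h2 : iM₂ ≫ θ = iG₂)
    (l : AG →+ k) (hann : ∀ y : AM, l (ι y) = 0) (L : PG →+ R)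
    (hL : ∀ (x : AG) (s : R), L (iG₁ x * iG₂ s) = r₀ (l x) * s) (q : PM) : L (θ q) = 0 := by
  have h0 : L.comp θ.hom.toAddMonoidHom = 0 := addHom_ext hM _ _ (fun y s => by
    change L (θ (iM₁ y * iM₂ s)) = 0
    have e1 : θ (iM₁ y) = iG₁ (ι y) := congr($h1 y)
    have e2 : θ (iM₂ s) = iG₂ s := congr($h2 s)
    rw [map_mul, e1, e2, hL, hann, map_zero, zero_mul])
  exact DFunLike.congr_fun h0 q

theorem functional_natural {A R R' P P' : CommRingCat.{u}}
    {a : CommRingCat.of k ⟶ A} {r : CommRingCat.of k ⟶ R} {r' : CommRingCat.of k ⟶ R'}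
    {i₁ : A ⟶ P} {i₂ : R ⟶ P} {i₁' : A ⟶ P'} {i₂' : R' ⟶ P'}
    (h : IsPushout a r i₁ i₂) (f : R ⟶ R') (hf : r ≫ f = r') (g : P ⟶ P')
    (hg1 : i₁ ≫ g = i₁') (hg2 : i₂ ≫ g = f ≫ i₂')
    (l : A →+ k) (L : P →+ R) (hL : ∀ (x : A) (s : R), L (i₁ x * i₂ s) = r (l x) * s)
    (L' : P' →+ R') (hL' : ∀ (x : A) (s : R'), L' (i₁' x * i₂' s) = r' (l x) * s) (p : P) :
    L' (g p) = f (L p) := by
  have h0 : L'.comp g.hom.toAddMonoidHom = f.hom.toAddMonoidHom.comp L :=
    addHom_ext h _ _ (fun x s => by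
      change L' (g (i₁ x * i₂ s)) = f (L (i₁ x * i₂ s))
      have e1 : g (i₁ x) = i₁' x := congr($hg1 x)
      have e2 : g (i₂ s) = i₂' (f s) := congr($hg2 s)
      have e3 : f (r (l x)) = r' (l x) := congr($hf (l x))
      have e4 : g (i₁ x * i₂ s) = i₁' x * i₂' (f s) := by rw [map_mul, e1, e2]
      rw [e4, hL', hL, map_mul, e3])
  exact DFunLike.congr_fun h0 p

theorem mem_range_of_functionals {AM AG R PM PG : CommRingCat.{u}}
    {m₀ : CommRingCat.of k ⟶ AM} {g₀ : CommRingCat.of k ⟶ AG} {r₀ : CommRingCat.of k ⟶ R}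
    {iM₁ : AM ⟶ PM} {iM₂ : R ⟶ PM} {iG₁ : AG ⟶ PG} {iG₂ : R ⟶ PG}
    (hM : IsPushout m₀ r₀ iM₁ iM₂) (hG : IsPushout g₀ r₀ iG₁ iG₂)
    (ι : AM ⟶ AG) (hι : m₀ ≫ ι = g₀) (θ : PM ⟶ PG) (h1 : iM₁ ≫ θ = ι ≫ iG₁)
    (h2 : iM₂ ≫ θ = iG₂) (p : PG)
    (hp : ∀ (l : AG →+ k), (∀ (c : k) (x : AG), l (g₀ c * x) = c * l x) →
      (∀ y : AM, l (ι y) = 0) → ∀ L : PG →+ R,
      (∀ (x : AG) (s : R), L (iG₁ x * iG₂ s) = r₀ (l x) * s) → L p = 0) :
    ∃ q : PM, θ q = p := by
  letI : Algebra k AM := m₀.hom.toAlgebra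
  letI : Algebra k AG := g₀.hom.toAlgebra
  letI : Algebra k R := r₀.hom.toAlgebra
  obtain ⟨eM, eM1, eM2, eM3⟩ := tensor_model (R₀ := CommRingCat.of k) hM rfl rfl
  obtain ⟨eG, eG1, eG2, eG3⟩ := tensor_model (R₀ := CommRingCat.of k) hG rfl rfl
  let ιL : AM →ₗ[k] AG :=
    { toFun := ι
      map_add' := map_add ι.hom
      map_smul' := fun c y => by
        simp only [RingHom.id_apply]
        have e1 : c • y = m₀ c * y := Algebra.smul_def c y
        have e2 : c • (ι y) = g₀ c * ι y := Algebra.smul_def c (ι y)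
        have e3 : ι (m₀ c) = g₀ c := congr($hι c)
        rw [e1, e2, map_mul, e3] }
  have key : ∀ t : AM ⊗[k] R, eG.hom (θ (eM.inv t)) = ιL.rTensor R t := by
    intro t
    induction t using TensorProduct.induction_on with
    | zero => simp
    | tmul y s =>
      have e1 : θ (iM₁ y) = iG₁ (ι y) := congr($h1 y)
      have e2 : θ (iM₂ s) = iG₂ s := congr($h2 s)
      rw [eM3, map_mul, map_mul, e1, e2, eG1, eG2, Algebra.TensorProduct.tmul_mul_tmul, mul_one,
        one_mul, LinearMap.rTensor_tmul]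
      rfl
    | add x y hx hy => rw [map_add, map_add, map_add, map_add, hx, hy]
  obtain ⟨q', hq'⟩ := mem_range_rTensor_of_functionals ιL (eG.hom p) (fun l hl => by
    let L₀ : AG ⊗[k] R →ₗ[k] R := (TensorProduct.lid k R).toLinearMap ∘ₗ l.rTensor R
    exact hp l.toAddMonoidHom
      (fun c x => by
        change l (g₀ c * x) = c * l x
        have e1 : c • x = g₀ c * x := Algebra.smul_def c x
        rw [← e1, map_smul, smul_eq_mul])
      (fun y => hl y)
      (L₀.toAddMonoidHom.comp eG.hom.hom.toAddMonoidHom)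
      (fun x s => by
        change L₀ (eG.hom (iG₁ x * iG₂ s)) = _
        rw [map_mul, eG1, eG2, Algebra.TensorProduct.tmul_mul_tmul, mul_one, one_mul]
        change TensorProduct.lid k R (l.rTensor R (x ⊗ₜ[k] s)) = _
        rw [LinearMap.rTensor_tmul, TensorProduct.lid_tmul, Algebra.smul_def]
        rfl))
  refine ⟨eM.inv q', ?_⟩
  have h3 : eG.hom (θ (eM.inv q')) = eG.hom p := (key q').trans hq'
  have h4 := congrArg eG.inv h3
  have h5 : ∀ z : PG, eG.inv (eG.hom z) = z := fun z => congr($(eG.hom_inv_id) z)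
  rw [h5, h5] at h4
  exact h4

end Field

end Groth.Agent.Helper2.MagnetRep
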