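import Groth.Prelude.Def_Magnet2
import Groth.Agent.Lib.Helper2.Magnet.Cat
import Groth.Agent.Lib.Helper2.Magnet.Dom

/-!
# Equivariant maps out of a monoid with schematically dense units, closed subschemes (helper2)
-/

set_option autoImplicit false
set_option synthInstance.maxHeartbeats 400000
set_option maxHeartbeats 4000000
set_option linter.style.haveILetI false
set_option linter.unusedSectionVars false
set_option linter.unusedVariables false
set_option linter.unusedSimpArgs false
set_option linter.unnecessarySimpa false

universe u
open CategoryTheory Limits MonoidalCategory CartesianMonoidalCategory MonObj AlgebraicGeometry Opposite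
open Magnet

namespace Groth.Agent.Helper2.MagnetUnits

open Groth.Agent.Helper2.MagnetDom Groth.Agent.Helper2.MagnetCat

theorem flat_hom_of_field (k : Type u) [Field k] (T : Over (Spec (CommRingCat.of k))) :
    Flat T.hom := by
  haveI : Subsingleton ↥(Spec (CommRingCat.of k)) :=
    inferInstanceAs (Subsingleton (PrimeSpectrum k))
  infer_instance

theorem isPullback_whiskerRight {S : Scheme.{u}} {G M : Over S} (i : G ⟶ M) (T : Over S) :
    IsPullback (fst G T).left (i ▷ T).left i.left (fst M T).left := by
  refine IsPullback.flip ?_
  refine IsPullback.of_right (h₁₂ := (snd M T).left) (h₂₂ := M.hom) (v₁₃ := T.hom) ?_ ?_ ?_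
  · have e1 : (i ▷ T).left ≫ (snd M T).left = (snd G T).left := Over.whiskerRight_left_snd _
    have e2 : i.left ≫ M.hom = G.hom := Over.w i
    rw [e1, e2]
    exact (IsPullback.of_hasPullback G.hom T.hom).flip
  · exact Over.whiskerRight_left_fst _
  · exact (IsPullback.of_hasPullback M.hom T.hom).flip

theorem isSchemeTheoreticallyDominant_whiskerRight_of_field (k : Type u) [Field k]
    {G M : Over (Spec (CommRingCat.of k))} (i : G ⟶ M) [QuasiCompact i.left]
    [IsSchemeTheoreticallyDominant i.left] (T : Over (Spec (CommRingCat.of k))) :
    IsSchemeTheoreticallyDominant (i ▷ T).left := by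
  haveI : Flat T.hom := flat_hom_of_field k T
  haveI : Flat (fst M T).left := inferInstanceAs (Flat (pullback.fst M.hom T.hom))
  exact IsSchemeTheoreticallyDominant.of_isPullback (isPullback_whiskerRight i T)

theorem main18956 (k : Type u) [Field k]
    (M G X Z : Over (Spec (CommRingCat.of k))) [MonObj M] [GrpObj G]
    (i : G ⟶ M) [IsMonHom i] [QuasiCompact i.left]
    [IsSchemeTheoreticallyDominant i.left]
    (aX : AlgGrp.Action G X) (aZ : AlgGrp.Action G Z) (j : Z ⟶ X) [IsClosedImmersion j.left]
    (hj : Magnet.MonAct.IsEquivariant (Magnet.MonAct.ofAction aZ) (Magnet.MonAct.ofAction aX) j) :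
    IsPullback
      (Magnet.MonAct.eqvHom.postcomp ((Magnet.MonAct.regular M).restrict i) j hj)
      (Magnet.MonAct.eqvHom.evalAt ((Magnet.MonAct.regular M).restrict i)
        (Magnet.MonAct.ofAction aZ) η[M])
      (Magnet.MonAct.eqvHom.evalAt ((Magnet.MonAct.regular M).restrict i)
        (Magnet.MonAct.ofAction aX) η[M])
      (yoneda.map j) := by
  haveI : Mono j.left := inferInstance
  haveI : Mono j := Over.mono_of_mono_left j
  exact isPullback_postcomp_evalAt i (Magnet.MonAct.ofAction aX) (Magnet.MonAct.ofAction aZ) j hj
    (fun T φ e h => by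
      haveI := isSchemeTheoreticallyDominant_whiskerRight_of_field k i T
      exact exists_lift_of_dominant _ j φ e h)

end Groth.Agent.Helper2.MagnetUnits
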