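import Groth.Prelude.Def_Magnet2
import Groth.Agent.Lib.Helper2.Magnet.Cat
import Groth.Agent.Lib.Helper2.Magnet.Cat3
import Groth.Agent.Lib.Helper2.Magnet.Dom
import Groth.Agent.Lib.Helper2.Magnet.AMonDom
import Groth.Agent.Lib.Helper2.Magnet.Units
import Groth.Agent.Lib.Helper2.Magnet.OpenZero
import Groth.Agent.Lib.Helper2.Magnet.RepAlg

/-!
# Representability of equivariant maps out of an affine monoid with dense units (helper2)

`k` a field, `M`, `G`, `X` affine `k`-schemes, `i : G ⟶ M` a scheme-theoretically dominant morphism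
of monoids, `a` an action of `G` on `X`.  The functor of `G`-equivariant maps `M × T → X` is
represented by a closed subscheme of `X` (`main18955`).
-/

set_option autoImplicit false
set_option synthInstance.maxHeartbeats 400000
set_option maxHeartbeats 4000000
set_option linter.style.haveILetI false
set_option linter.unusedSectionVars false
set_option linter.unusedVariables false
set_option linter.unusedSimpArgs false
set_option linter.unnecessarySimpa false

universe u
open CategoryTheory Limits MonoidalCategory CartesianMonoidalCategory MonObj AlgebraicGeometry Opposite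
open Magnet Magnet.MonAct

namespace Groth.Agent.Helper2.MagnetRep

open Groth.Agent.Helper2.MagnetDom Groth.Agent.Helper2.MagnetCat Groth.Agent.Helper2.MagnetUnits
  Groth.Agent.Helper2.MagnetOpen

section SchemeLemmas

theorem isoSpec_inv_appTop (X : Scheme.{u}) [IsAffine X] :
    X.isoSpec.inv.appTop = (Scheme.ΓSpecIso Γ(X, ⊤)).inv := by
  rw [← cancel_epi (Scheme.ΓSpecIso Γ(X, ⊤)).hom, Iso.hom_inv_id, ← Scheme.toSpecΓ_appTop,
    ← Scheme.Hom.comp_appTop, Scheme.isoSpec_inv_toSpecΓ, Scheme.Hom.id_appTop]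

theorem exists_hom_appTop (P X : Scheme.{u}) [IsAffine X] (ψ : Γ(X, ⊤) ⟶ Γ(P, ⊤)) :
    ∃ f : P ⟶ X, f.appTop = ψ := by
  refine ⟨P.toSpecΓ ≫ Spec.map ψ ≫ X.isoSpec.inv, ?_⟩
  rw [Scheme.Hom.comp_appTop, Scheme.Hom.comp_appTop, isoSpec_inv_appTop, Scheme.toSpecΓ_appTop,
    Category.assoc, Scheme.ΓSpecIso_naturality, Iso.inv_hom_id_assoc]

theorem exists_closed_subscheme (X : Scheme.{u}) [IsAffine X] (J : Ideal Γ(X, ⊤)) :
    ∃ (Z₀ : Scheme.{u}) (j₀ : Z₀ ⟶ X), IsAffine Z₀ ∧ IsClosedImmersion j₀ ∧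
      (∀ y ∈ J, j₀.appTop y = 0) ∧
      ∀ (P : Scheme.{u}) (f : P ⟶ X), (∀ y ∈ J, f.appTop y = 0) → ∃ g : P ⟶ Z₀, g ≫ j₀ = f := by
  let q : Γ(X, ⊤) ⟶ CommRingCat.of (Γ(X, ⊤) ⧸ J) := CommRingCat.ofHom (Ideal.Quotient.mk J)
  refine ⟨Spec (CommRingCat.of (Γ(X, ⊤) ⧸ J)), Spec.map q ≫ X.isoSpec.inv, inferInstance, ?_, ?_, ?_⟩
  · haveI : IsClosedImmersion (Spec.map q) :=
      IsClosedImmersion.spec_of_surjective q Ideal.Quotient.mk_surjective
    infer_instance
  · intro y hy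
    have h1 : (Spec.map q ≫ X.isoSpec.inv).appTop = q ≫ (Scheme.ΓSpecIso _).inv := by
      rw [Scheme.Hom.comp_appTop, isoSpec_inv_appTop, Scheme.ΓSpecIso_inv_naturality]
    rw [h1]
    change (Scheme.ΓSpecIso (CommRingCat.of (Γ(X, ⊤) ⧸ J))).inv (Ideal.Quotient.mk J y) = 0
    rw [Ideal.Quotient.eq_zero_iff_mem.2 hy, map_zero]
  · intro P f hf
    let ψ : CommRingCat.of (Γ(X, ⊤) ⧸ J) ⟶ Γ(P, ⊤) :=
      CommRingCat.ofHom (Ideal.Quotient.lift J f.appTop.hom hf)
    refine ⟨P.toSpecΓ ≫ Spec.map ψ, ?_⟩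
    have hqψ : q ≫ ψ = f.appTop := by
      ext y
      exact Ideal.Quotient.lift_mk J f.appTop.hom hf
    rw [Category.assoc, ← Spec.map_comp_assoc, hqψ, ← Scheme.toSpecΓ_naturality_assoc,
      Scheme.toSpecΓ_isoSpec_inv, Category.comp_id]

end SchemeLemmas

section Field

variable {k : Type u} [Field k]

/-- the structure map on global sections, with source `k` -/
noncomputable def algMap (Y : Over (Spec (CommRingCat.of k))) :
    CommRingCat.of k ⟶ Γ(Y.left, ⊤) :=
  (Scheme.ΓSpecIso (CommRingCat.of k)).inv ≫ Y.hom.appTop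

theorem algMap_comp {Y Y' : Over (Spec (CommRingCat.of k))} (f : Y ⟶ Y') :
    algMap Y' ≫ f.left.appTop = algMap Y := by
  unfold algMap
  rw [Category.assoc, ← Scheme.Hom.comp_appTop, Over.w]

theorem appTop_comm {S : Scheme.{u}} {P Q Q' R : Over S} (f : P ⟶ Q) (g : Q ⟶ R) (f' : P ⟶ Q')
    (g' : Q' ⟶ R) (e : f ≫ g = f' ≫ g') :
    g.left.appTop ≫ f.left.appTop = g'.left.appTop ≫ f'.left.appTop := by
  rw [← Scheme.Hom.comp_appTop, ← Scheme.Hom.comp_appTop, ← Over.comp_left, ← Over.comp_left, e]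

theorem appTop_tri {S : Scheme.{u}} {P Q R : Over S} (f : P ⟶ Q) (g : Q ⟶ R) (h : P ⟶ R)
    (e : f ≫ g = h) : g.left.appTop ≫ f.left.appTop = h.left.appTop := by
  rw [← Scheme.Hom.comp_appTop, ← Over.comp_left, e]

theorem isPushout_sections (G T : Over (Spec (CommRingCat.of k))) [IsAffine G.left]
    [IsAffine T.left] :
    IsPushout (algMap G) (algMap T) (fst G T).left.appTop (snd G T).left.appTop := by
  have hp : IsPullback (fst G T).left (snd G T).left G.hom T.hom :=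
    IsPullback.of_hasPullback G.hom T.hom
  have hST : (⊤ : T.left.Opens) ≤ T.hom ⁻¹ᵁ ⊤ := le_top
  have hSX : (⊤ : G.left.Opens) ≤ G.hom ⁻¹ᵁ ⊤ := le_top
  have hU : (⊤ : (G ⊗ T).left.Opens) = (fst G T).left ⁻¹ᵁ ⊤ ⊓ (snd G T).left ⁻¹ᵁ ⊤ := by simp
  have P := (isIso_pushoutSection_iff hp hST hSX hU).mp
    (isIso_pushoutSection_of_isAffineOpen hp hST hSX hU (isAffineOpen_top _) (isAffineOpen_top _)
      (isAffineOpen_top _))
  simp only [appLE_top_top] at P
  exact IsPushout.of_iso P (Scheme.ΓSpecIso (CommRingCat.of k)) (Iso.refl _) (Iso.refl _)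
    (Iso.refl _) (by simp [algMap]) (by simp [algMap]) (by simp) (by simp)

theorem quasiCompact_whiskerRight {S : Scheme.{u}} {G M : Over S} (i : G ⟶ M)
    [QuasiCompact i.left] (T : Over S) : QuasiCompact (i ▷ T).left :=
  MorphismProperty.of_isPullback (P := @QuasiCompact) (isPullback_whiskerRight i T) inferInstance

theorem isSchemeTheoreticallyDominant_whiskerLeft_of_field (k : Type u) [Field k]
    (G : Over (Spec (CommRingCat.of k))) {P' P : Over (Spec (CommRingCat.of k))} (τ : P' ⟶ P)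
    [QuasiCompact τ.left] [IsSchemeTheoreticallyDominant τ.left] :
    IsSchemeTheoreticallyDominant (G ◁ τ).left := by
  haveI : Flat G.hom := flat_hom_of_field k G
  haveI : Flat (snd G P).left := inferInstanceAs (Flat (pullback.snd G.hom P.hom))
  exact IsSchemeTheoreticallyDominant.of_isPullback (isPullback_whiskerLeft G τ).flip

variable {M G X : Over (Spec (CommRingCat.of k))} [MonObj M] [MonObj G]

/-- generators of the ideal of the representing closed subscheme -/
def genJ (i : G ⟶ M) (a : Magnet.MonAct G X) : Set Γ(X.left, ⊤) :=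
  {y | ∃ (l : Γ(G.left, ⊤) →+ k) (L : Γ((G ⊗ X).left, ⊤) →+ Γ(X.left, ⊤)) (b : Γ(X.left, ⊤)),
    (∀ (c : k) (x : Γ(G.left, ⊤)), l (algMap G c * x) = c * l x) ∧
    (∀ y' : Γ(M.left, ⊤), l (i.left.appTop y') = 0) ∧
    (∀ (x : Γ(G.left, ⊤)) (s : Γ(X.left, ⊤)),
      L ((fst G X).left.appTop x * (snd G X).left.appTop s) = algMap X (l x) * s) ∧
    y = L (a.act.left.appTop b)}

variable [IsAffine M.left] [IsAffine G.left] [IsAffine X.left]

theorem kills_J_affine (i : G ⟶ M) (a : Magnet.MonAct G X)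
    (T : Over (Spec (CommRingCat.of k))) [IsAffine T.left] (φ : M ⊗ T ⟶ X) (x : T ⟶ X)
    (hφ : (i ▷ T) ≫ φ = (G ◁ x) ≫ a.act) :
    ∀ y ∈ Ideal.span (genJ i a), x.left.appTop y = 0 := by
  have hle : Ideal.span (genJ i a) ≤ RingHom.ker x.left.appTop.hom := by
    rw [Ideal.span_le]
    rintro y ⟨l, L, b, hlin, hann, hL, rfl⟩
    rw [SetLike.mem_coe, RingHom.mem_ker]
    obtain ⟨LT, hLT⟩ := exists_functional (isPushout_sections G T) l hlin
    have nat := functional_natural (isPushout_sections G X) x.left.appTop (algMap_comp x)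
      (G ◁ x).left.appTop (appTop_tri _ _ _ (whiskerLeft_fst G x))
      (appTop_comm _ _ _ _ (whiskerLeft_snd G x)) l L hL LT hLT (a.act.left.appTop b)
    change x.left.appTop (L (a.act.left.appTop b)) = 0
    rw [← nat]
    have e1 : (G ◁ x).left.appTop (a.act.left.appTop b) =
        (i ▷ T).left.appTop (φ.left.appTop b) := by
      have h2 := appTop_comm _ _ _ _ hφ
      exact (congr($h2 b)).symm
    rw [e1]
    exact functional_comp_eq_zero (isPushout_sections M T) i.left.appTop (i ▷ T).left.appTop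
      (appTop_comm _ _ _ _ (whiskerRight_fst i T)) (appTop_tri _ _ _ (whiskerRight_snd i T))
      l hann LT hLT _
  intro y hy
  exact hle hy

theorem kills_J (i : G ⟶ M) (a : Magnet.MonAct G X)
    (T : Over (Spec (CommRingCat.of k))) (φ : M ⊗ T ⟶ X) (x : T ⟶ X)
    (hφ : (i ▷ T) ≫ φ = (G ◁ x) ≫ a.act) :
    ∀ y ∈ Ideal.span (genJ i a), x.left.appTop y = 0 := by
  intro y hy
  apply Scheme.zero_of_zero_cover _ T.left.affineCover
  intro c
  let Tc : Over (Spec (CommRingCat.of k)) := Over.mk (T.left.affineCover.f c ≫ T.hom)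
  let v : Tc ⟶ T := Over.homMk (T.left.affineCover.f c) rfl
  haveI : IsAffine Tc.left := inferInstanceAs (IsAffine (T.left.affineCover.X c))
  have h1 := kills_J_affine i a Tc ((M ◁ v) ≫ φ) (v ≫ x) (by
    rw [← whisker_exchange_assoc, hφ, MonoidalCategory.whiskerLeft_comp, Category.assoc]) y hy
  exact h1

theorem exists_extension (i : G ⟶ M) [IsSchemeTheoreticallyDominant i.left]
    (a : Magnet.MonAct G X) (Z : Over (Spec (CommRingCat.of k))) [IsAffine Z.left] (j : Z ⟶ X)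
    (hj : ∀ y ∈ Ideal.span (genJ i a), j.left.appTop y = 0) :
    ∃ φ : M ⊗ Z ⟶ X, (i ▷ Z) ≫ φ = (G ◁ j) ≫ a.act := by
  haveI := isSchemeTheoreticallyDominant_whiskerRight_of_field k i Z
  haveI := quasiCompact_whiskerRight i Z
  obtain ⟨ω, hω⟩ : ∃ ω : G ⊗ Z ⟶ X, ω = (G ◁ j) ≫ a.act := ⟨_, rfl⟩
  rw [← hω]
  have hθinj : Function.Injective (i ▷ Z).left.appTop :=
    Scheme.Hom.app_injective (i ▷ Z).left ⊤
  have hrange : ∀ b : Γ(X.left, ⊤), ∃ q, (i ▷ Z).left.appTop q = ω.left.appTop b := by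
    intro b
    refine mem_range_of_functionals (isPushout_sections M Z) (isPushout_sections G Z)
      i.left.appTop (algMap_comp i) (i ▷ Z).left.appTop
      (appTop_comm _ _ _ _ (whiskerRight_fst i Z)) (appTop_tri _ _ _ (whiskerRight_snd i Z)) _ ?_
    intro l hlin hann L hL
    obtain ⟨LX, hLX⟩ := exists_functional (isPushout_sections G X) l hlin
    have nat := functional_natural (isPushout_sections G X) j.left.appTop (algMap_comp j)
      (G ◁ j).left.appTop (appTop_tri _ _ _ (whiskerLeft_fst G j))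
      (appTop_comm _ _ _ _ (whiskerLeft_snd G j)) l LX hLX L hL (a.act.left.appTop b)
    have hmem : LX (a.act.left.appTop b) ∈ Ideal.span (genJ i a) :=
      Ideal.subset_span ⟨l, LX, b, hlin, hann, hLX, rfl⟩
    have e1 : ω.left.appTop b = (G ◁ j).left.appTop (a.act.left.appTop b) := by
      have h2 := appTop_tri (G ◁ j) a.act ω hω.symm
      exact (congr($h2 b)).symm
    rw [e1, nat, hj _ hmem]
  let θ : Γ((M ⊗ Z).left, ⊤) →+* Γ((G ⊗ Z).left, ⊤) := (i ▷ Z).left.appTop.hom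
  let θe : Γ((M ⊗ Z).left, ⊤) ≃+* θ.range :=
    RingEquiv.ofBijective θ.rangeRestrict
      ⟨fun x y h => hθinj (congrArg Subtype.val h), θ.rangeRestrict_surjective⟩
  let ω' : Γ(X.left, ⊤) →+* θ.range :=
    ω.left.appTop.hom.codRestrict θ.range (fun b => by
      obtain ⟨q, hq⟩ := hrange b
      exact ⟨q, hq⟩)
  let ψ₀ : Γ(X.left, ⊤) →+* Γ((M ⊗ Z).left, ⊤) := (θe.symm : θ.range →+* _).comp ω'
  have hψ : ∀ b, (i ▷ Z).left.appTop (ψ₀ b) = ω.left.appTop b := by
    intro b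
    have h3 := θe.apply_symm_apply (ω' b)
    exact congrArg Subtype.val h3
  obtain ⟨φ₀, hφ₀⟩ := exists_hom_appTop (M ⊗ Z).left X.left (CommRingCat.ofHom ψ₀)
  have hcomp : (i ▷ Z).left ≫ φ₀ = ω.left := by
    apply ext_of_isAffine
    rw [Scheme.Hom.comp_appTop, hφ₀]
    ext b
    exact hψ b
  have hw : φ₀ ≫ X.hom = (M ⊗ Z).hom := by
    apply ext_of_isAffine
    rw [Scheme.Hom.comp_appTop, hφ₀]
    ext c
    apply hθinj
    change (i ▷ Z).left.appTop (ψ₀ (X.hom.appTop c)) =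
      (i ▷ Z).left.appTop ((M ⊗ Z).hom.appTop c)
    rw [hψ]
    have e1 : ω.left.appTop (X.hom.appTop c) = (G ⊗ Z).hom.appTop c :=
      congr($(Over.w ω).appTop c)
    have e2 : (i ▷ Z).left.appTop ((M ⊗ Z).hom.appTop c) = (G ⊗ Z).hom.appTop c :=
      congr($(Over.w (i ▷ Z)).appTop c)
    rw [e1, e2]
  refine ⟨Over.homMk φ₀ hw, ?_⟩
  apply Over.OverMorphism.ext
  rw [Over.comp_left]
  exact hcomp

theorem main18955 (k : Type u) [Field k] (M G X : Over (Spec (CommRingCat.of k))) [MonObj M]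
    [MonObj G] [IsAffine M.left] [IsAffine G.left] [IsAffine X.left] (i : G ⟶ M) [IsMonHom i]
    [IsSchemeTheoreticallyDominant i.left] (a : Magnet.MonAct G X) :
    ∃ (Z : Over (Spec (CommRingCat.of k))) (j : Z ⟶ X)
      (e : (Magnet.MonAct.eqvHom ((Magnet.MonAct.regular M).restrict i) a).RepresentableBy Z),
      IsClosedImmersion j.left ∧ ∀ (T : Over (Spec (CommRingCat.of k))) (z : T ⟶ Z),
        (Magnet.MonAct.eqvHom.evalAt ((Magnet.MonAct.regular M).restrict i) a η[M]).app (op T)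
          (e.homEquiv z) = z ≫ j := by
  obtain ⟨Z₀, j₀, hZaff, hcl, hJ0, hlift⟩ :=
    exists_closed_subscheme X.left (Ideal.span (genJ i a))
  let Z : Over (Spec (CommRingCat.of k)) := Over.mk (j₀ ≫ X.hom)
  let j : Z ⟶ X := Over.homMk j₀ rfl
  haveI : IsAffine Z.left := hZaff
  haveI hclj : IsClosedImmersion j.left := hcl
  haveI : Mono j.left := inferInstance
  haveI : Mono j := Over.mono_of_mono_left j
  have hdomT : ∀ T : Over (Spec (CommRingCat.of k)),
      IsSchemeTheoreticallyDominant (i ▷ T).left :=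
    fun T => isSchemeTheoreticallyDominant_whiskerRight_of_field k i T
  have hcancel1 : ∀ (T : Over (Spec (CommRingCat.of k))) (φ₁ φ₂ : M ⊗ T ⟶ X),
      (i ▷ T) ≫ φ₁ = (i ▷ T) ≫ φ₂ → φ₁ = φ₂ := fun T φ₁ φ₂ h => by
    haveI := hdomT T
    exact eq_of_comp_eq_of_dominant (i ▷ T) φ₁ φ₂ h
  obtain ⟨φZ, hφZ⟩ := exists_extension i a Z j hJ0
  have hcancel2 : ∀ f₁ f₂ : G ⊗ (M ⊗ Z) ⟶ X,
      (G ◁ (i ▷ Z)) ≫ f₁ = (G ◁ (i ▷ Z)) ≫ f₂ → f₁ = f₂ := fun f₁ f₂ h => by
    haveI := hdomT Z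
    haveI := quasiCompact_whiskerRight i Z
    haveI := isSchemeTheoreticallyDominant_whiskerLeft_of_field k G (i ▷ Z)
    exact eq_of_comp_eq_of_dominant (G ◁ (i ▷ Z)) f₁ f₂ h
  let u : (eqvHom ((regular M).restrict i) a).obj (op Z) :=
    ⟨φZ, isEquivariant_of_precomp_eq_orbit i a φZ j hφZ hcancel2⟩
  have hu : (eqvHom.evalAt ((regular M).restrict i) a η[M]).app (op Z) u = j :=
    evalAt_eq_of_precomp_eq_orbit i a φZ j hφZ
  obtain ⟨e, he⟩ := exists_representableBy ((regular M).restrict i) a η[M] j u hu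
    (fun T => evalAt_injective i a T (hcancel1 T))
    (fun T φ => by
      have horb := precomp_eq_orbit i a φ.1 φ.2
      have hk := kills_J i a T φ.1 _ horb
      obtain ⟨g, hg⟩ := hlift T.left _ hk
      refine ⟨Over.homMk g ?_, ?_⟩
      · change g ≫ j₀ ≫ X.hom = T.hom
        rw [← Category.assoc, hg, Over.w]
      · apply Over.OverMorphism.ext
        rw [Over.comp_left]
        exact hg)
  exact ⟨Z, j, e, hclj, he⟩

end Field

end Groth.Agent.Helper2.MagnetRep
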