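import Groth.Agent.Lib.Helper2.Magnet.RepAlg2
import Groth.Agent.Lib.Helper2.Magnet.RepGeom
import Groth.Agent.Lib.Helper2.Magnet.AMonDom

/-!
# Coefficient functionals on `A(N)_S ×_S T` (helper2)

For `T` affine over an arbitrary base `S`, the ring of global sections of `A(N)_S ×_S T` is the
pushout `ℤ[N] ⊗ Γ(T)`.  We construct the coefficient functionals `coefL`, prove their naturality in
`T`, their vanishing on the image of `A(f)` outside the range of `f`, and the range criterion for
injective `f`.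
-/

set_option autoImplicit false
set_option synthInstance.maxHeartbeats 400000
set_option maxHeartbeats 4000000
set_option linter.style.haveILetI false
set_option linter.unusedSectionVars false
set_option linter.unusedVariables false
set_option linter.unusedSimpArgs false
set_option linter.unnecessarySimpa false

universe u
open CategoryTheory Limits MonoidalCategory CartesianMonoidalCategory MonObj AlgebraicGeometry Opposite
open Magnet Magnet.MonAct

namespace Groth.Agent.Helper2.MagnetFun

open Groth.Agent.Helper2.MagnetDom Groth.Agent.Helper2.MagnetRep Groth.Agent.Helper2.MagnetRep2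

section MonAlg

variable {R : Type u} [CommRing R] {M' N' : Type} [CommMonoid M'] [CommMonoid N']

/-- the coefficient functional -/
def coefHom (R : Type u) [CommRing R] {M' : Type} [CommMonoid M'] (m : M') :
    MonoidAlgebra R M' →+ R where
  toFun x := x.coeff m
  map_zero' := by simp
  map_add' x y := by simp [MonoidAlgebra.coeff_add]

theorem coefHom_apply (m : M') (x : MonoidAlgebra R M') : coefHom R m x = x.coeff m := rfl

theorem coefHom_algebraMap_mul (m : M') (c : R) (x : MonoidAlgebra R M') :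
    coefHom R m (algebraMap R (MonoidAlgebra R M') c * x) = c * coefHom R m x := by
  rw [← Algebra.smul_def, coefHom_apply, coefHom_apply, MonoidAlgebra.coeff_smul,
    Finsupp.smul_apply, smul_eq_mul]

theorem coefHom_single_self (m : M') (r : R) : coefHom R m (MonoidAlgebra.single m r) = r := by
  classical
  rw [coefHom_apply, MonoidAlgebra.coeff_single, Finsupp.single_apply, if_pos rfl]

theorem coefHom_single_of_ne (m m' : M') (h : m' ≠ m) (r : R) :
    coefHom R m (MonoidAlgebra.single m' r) = 0 := by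
  classical
  rw [coefHom_apply, MonoidAlgebra.coeff_single, Finsupp.single_apply, if_neg h]

theorem coefHom_mapDomain_of_notMem (g : N' →* M') (m : M') (hm : m ∉ Set.range g)
    (y : MonoidAlgebra R N') : coefHom R m (MonoidAlgebra.mapDomain g y) = 0 := by
  rw [coefHom_apply, MonoidAlgebra.coeff_mapDomain]
  exact Finsupp.mapDomain_of_notMem_range _ _ hm

theorem single_eq_algebraMap_mul_single (m : M') (r : R) :
    MonoidAlgebra.single m r =
      algebraMap R (MonoidAlgebra R M') r * MonoidAlgebra.single m (1 : R) := by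
  rw [MonoidAlgebra.coe_algebraMap, Function.comp_apply, Algebra.algebraMap_self,
    RingHom.id_apply, MonoidAlgebra.single_mul_single, _root_.one_mul, _root_.mul_one]

theorem monoidAlgebra_decomp (g : N' →* M') (hg : Function.Injective g)
    (x : MonoidAlgebra R M') :
    ∃ F : Finset {m : M' // m ∉ Set.range g}, (∀ j, j ∉ F → coefHom R j.1 x = 0) ∧
      x = MonoidAlgebra.mapDomain g (MonoidAlgebra.comapDomain g hg x) +
        ∑ j ∈ F, algebraMap R (MonoidAlgebra R M') (coefHom R j.1 x) *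
          MonoidAlgebra.single j.1 (1 : R) := by
  classical
  induction x using MonoidAlgebra.induction_linear with
  | zero => exact ⟨∅, fun j _ => by simp, by simp⟩
  | add x y hx hy =>
    obtain ⟨Fx, hx0, hxe⟩ := hx
    obtain ⟨Fy, hy0, hye⟩ := hy
    refine ⟨Fx ∪ Fy, fun j hj => ?_, ?_⟩
    · rw [Finset.mem_union, not_or] at hj
      rw [map_add, hx0 j hj.1, hy0 j hj.2, add_zero]
    · have s1 : ∑ j ∈ Fx ∪ Fy, algebraMap R (MonoidAlgebra R M') (coefHom R j.1 x) *
            MonoidAlgebra.single j.1 (1 : R) =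
          ∑ j ∈ Fx, algebraMap R (MonoidAlgebra R M') (coefHom R j.1 x) *
            MonoidAlgebra.single j.1 (1 : R) :=
        (Finset.sum_subset Finset.subset_union_left
          (fun j _ hj => by rw [hx0 j hj, map_zero, zero_mul])).symm
      have s2 : ∑ j ∈ Fx ∪ Fy, algebraMap R (MonoidAlgebra R M') (coefHom R j.1 y) *
            MonoidAlgebra.single j.1 (1 : R) =
          ∑ j ∈ Fy, algebraMap R (MonoidAlgebra R M') (coefHom R j.1 y) *
            MonoidAlgebra.single j.1 (1 : R) :=
        (Finset.sum_subset Finset.subset_union_right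
          (fun j _ hj => by rw [hy0 j hj, map_zero, zero_mul])).symm
      have s3 : ∑ j ∈ Fx ∪ Fy, algebraMap R (MonoidAlgebra R M') (coefHom R j.1 (x + y)) *
            MonoidAlgebra.single j.1 (1 : R) =
          ∑ j ∈ Fx ∪ Fy, algebraMap R (MonoidAlgebra R M') (coefHom R j.1 x) *
            MonoidAlgebra.single j.1 (1 : R) +
          ∑ j ∈ Fx ∪ Fy, algebraMap R (MonoidAlgebra R M') (coefHom R j.1 y) *
            MonoidAlgebra.single j.1 (1 : R) := by
        rw [← Finset.sum_add_distrib]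
        refine Finset.sum_congr rfl (fun j _ => ?_)
        rw [map_add, map_add, add_mul]
      rw [s3, s1, s2, MonoidAlgebra.comapDomain_add, MonoidAlgebra.mapDomain_add]
      conv_lhs => rw [hxe, hye]
      abel
  | single m r =>
    by_cases hm : m ∈ Set.range g
    · obtain ⟨n, rfl⟩ := hm
      refine ⟨∅, fun j _ => ?_, ?_⟩
      · apply coefHom_single_of_ne
        intro h
        exact j.2 ⟨n, h⟩
      · rw [Finset.sum_empty, add_zero, MonoidAlgebra.comapDomain_single_map,
          MonoidAlgebra.mapDomain_single]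
    · refine ⟨{⟨m, hm⟩}, fun j hj => ?_, ?_⟩
      · rw [Finset.mem_singleton] at hj
        apply coefHom_single_of_ne
        intro h
        exact hj (Subtype.ext h.symm)
      · rw [Finset.sum_singleton, MonoidAlgebra.comapDomain_single_of_not_mem_range hm,
          MonoidAlgebra.mapDomain_zero, zero_add, coefHom_single_self]
        exact single_eq_algebraMap_mul_single m r

end MonAlg

section Geom

variable (S : Scheme.{u}) (N : Type) [AddCommMonoid N]

/-- the structure map `ℤ → Γ(T)` -/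
noncomputable def rT (T : Over S) : CommRingCat.of (ULift.{u} ℤ) ⟶ Γ(T.left, ⊤) :=
  (Scheme.ΓSpecIso (CommRingCat.of (ULift.{u} ℤ))).inv ≫ (T.hom ≫ tau S).appTop

/-- global sections of `A(N)_ℤ` -/
noncomputable def gIso : Γ((AMon (ULift.{u} ℤ) N).left, ⊤) ≅
    CommRingCat.of (MonoidAlgebra (ULift.{u} ℤ) (Multiplicative N)) :=
  Scheme.ΓSpecIso (CommRingCat.of (MonoidAlgebra (ULift.{u} ℤ) (Multiplicative N)))

/-- the map `ℤ[N] → Γ(A(N)_S ×_S T)` -/
noncomputable def i1 (T : Over S) :
    CommRingCat.of (MonoidAlgebra (ULift.{u} ℤ) (Multiplicative N)) ⟶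
      Γ((AMonS S N ⊗ T).left, ⊤) :=
  (gIso N).inv ≫ (qA S N T).appTop

/-- the map `Γ(T) → Γ(A(N)_S ×_S T)` -/
noncomputable def i2 (T : Over S) : Γ(T.left, ⊤) ⟶ Γ((AMonS S N ⊗ T).left, ⊤) :=
  (pT S N T).appTop

theorem isPushout_AMonS (T : Over S) [IsAffine T.left] :
    IsPushout (CommRingCat.ofHom (algebraMap (ULift.{u} ℤ)
        (MonoidAlgebra (ULift.{u} ℤ) (Multiplicative N))))
      (rT S T) (i1 S N T) (i2 S N T) := by
  have hp := isPullback_qA_pT S N T
  have hU : (⊤ : (AMonS S N ⊗ T).left.Opens) = qA S N T ⁻¹ᵁ ⊤ ⊓ pT S N T ⁻¹ᵁ ⊤ := by simp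
  have hST : (⊤ : T.left.Opens) ≤ (T.hom ≫ tau S) ⁻¹ᵁ ⊤ := le_top
  have hSX : (⊤ : (AMon (ULift.{u} ℤ) N).left.Opens) ≤ (AMon (ULift.{u} ℤ) N).hom ⁻¹ᵁ ⊤ := le_top
  haveI : IsAffine (AMon (ULift.{u} ℤ) N).left := inferInstanceAs (IsAffine (Spec _))
  have P := (isIso_pushoutSection_iff hp hST hSX hU).mp
    (isIso_pushoutSection_of_isAffineOpen hp hST hSX hU (isAffineOpen_top _) (isAffineOpen_top _)
      (isAffineOpen_top _))
  simp only [appLE_top_top] at P
  refine IsPushout.of_iso P (Scheme.ΓSpecIso _) (gIso N) (Iso.refl _) (Iso.refl _)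
    ?_ ?_ ?_ ?_
  · exact Scheme.ΓSpecIso_naturality _
  · rw [Iso.refl_hom, Category.comp_id, rT, Iso.hom_inv_id_assoc]
  · rw [Iso.refl_hom, Category.comp_id, i1, Iso.hom_inv_id_assoc]
  · simp only [Iso.refl_hom, Category.comp_id, Category.id_comp]
    rfl

theorem exists_coefL (T : Over S) [IsAffine T.left] (m : N) :
    ∃ L : Γ((AMonS S N ⊗ T).left, ⊤) →+ Γ(T.left, ⊤),
      ∀ (x : MonoidAlgebra (ULift.{u} ℤ) (Multiplicative N)) (s : Γ(T.left, ⊤)),
        L (i1 S N T x * i2 S N T s) =
          rT S T (coefHom (ULift.{u} ℤ) (Multiplicative.ofAdd m) x) * s :=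
  exists_functional' (isPushout_AMonS S N T) (coefHom (ULift.{u} ℤ) (Multiplicative.ofAdd m))
    (fun c x => coefHom_algebraMap_mul _ c x)

/-- the `m`-th coefficient functional `Γ(A(N)_S ×_S T) → Γ(T)` -/
noncomputable def coefL (T : Over S) [IsAffine T.left] (m : N) :
    Γ((AMonS S N ⊗ T).left, ⊤) →+ Γ(T.left, ⊤) :=
  (exists_coefL S N T m).choose

theorem coefL_spec (T : Over S) [IsAffine T.left] (m : N)
    (x : MonoidAlgebra (ULift.{u} ℤ) (Multiplicative N)) (s : Γ(T.left, ⊤)) :
    coefL S N T m (i1 S N T x * i2 S N T s) =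
      rT S T (coefHom (ULift.{u} ℤ) (Multiplicative.ofAdd m) x) * s :=
  (exists_coefL S N T m).choose_spec x s

theorem rT_comp {T T' : Over S} (v : T' ⟶ T) : rT S T ≫ v.left.appTop = rT S T' := by
  unfold rT
  rw [Category.assoc, ← Scheme.Hom.comp_appTop, ← Category.assoc v.left, Over.w]

theorem i1_whiskerLeft {T T' : Over S} (v : T' ⟶ T) :
    i1 S N T ≫ (AMonS S N ◁ v).left.appTop = i1 S N T' := by
  unfold i1
  rw [Category.assoc, ← Scheme.Hom.comp_appTop]
  congr 2
  have hs : (AMonS S N ◁ v).left ≫ (fst (AMonS S N) T).left = (fst (AMonS S N) T').left :=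
    Over.whiskerLeft_left_fst _
  change (AMonS S N ◁ v).left ≫ (fst (AMonS S N) T).left ≫
    pullback.fst (AMon (ULift.{u} ℤ) N).hom (tau S) =
    (fst (AMonS S N) T').left ≫ pullback.fst (AMon (ULift.{u} ℤ) N).hom (tau S)
  rw [reassoc_of% hs]

theorem i2_whiskerLeft {T T' : Over S} (v : T' ⟶ T) :
    i2 S N T ≫ (AMonS S N ◁ v).left.appTop = v.left.appTop ≫ i2 S N T' :=
  appTop_comm _ _ _ _ (whiskerLeft_snd (AMonS S N) v)

theorem coefL_natural {T T' : Over S} [IsAffine T.left] [IsAffine T'.left] (v : T' ⟶ T) (m : N)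
    (w : Γ((AMonS S N ⊗ T).left, ⊤)) :
    coefL S N T' m ((AMonS S N ◁ v).left.appTop w) = v.left.appTop (coefL S N T m w) :=
  functional_natural' (isPushout_AMonS S N T) v.left.appTop (rT_comp S v)
    (AMonS S N ◁ v).left.appTop (i1_whiskerLeft S N v) (i2_whiskerLeft S N v)
    (coefHom (ULift.{u} ℤ) (Multiplicative.ofAdd m)) (coefL S N T m) (coefL_spec S N T m)
    (coefL S N T' m) (coefL_spec S N T' m) w

end Geom

section Map

variable (S : Scheme.{u}) {N₁ N₂ : Type} [AddCommMonoid N₁] [AddCommMonoid N₂] (f : N₁ →+ N₂)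

/-- the ring map `ℤ[N₁] → ℤ[N₂]` -/
noncomputable def iotaHom :
    CommRingCat.of (MonoidAlgebra (ULift.{u} ℤ) (Multiplicative N₁)) ⟶
      CommRingCat.of (MonoidAlgebra (ULift.{u} ℤ) (Multiplicative N₂)) :=
  CommRingCat.ofHom (MonoidAlgebra.mapDomainBialgHom (ULift.{u} ℤ)
    (AddMonoidHom.toMultiplicative f)).toAlgHom.toRingHom

theorem iotaHom_apply (y : MonoidAlgebra (ULift.{u} ℤ) (Multiplicative N₁)) :
    iotaHom.{u} f y = MonoidAlgebra.mapDomain (AddMonoidHom.toMultiplicative f) y := rfl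

theorem i1_map (T : Over S) :
    i1 S N₁ T ≫ (AMonS.map S f ▷ T).left.appTop = iotaHom f ≫ i1 S N₂ T := by
  have key : (gIso N₁).inv ≫ (AMon.map (ULift.{u} ℤ) f).left.appTop =
      iotaHom f ≫ (gIso N₂).inv :=
    (Scheme.ΓSpecIso_inv_naturality (iotaHom f)).symm
  unfold i1
  rw [Category.assoc, ← Scheme.Hom.comp_appTop, map_qA, Scheme.Hom.comp_appTop,
    reassoc_of% key]

theorem i2_map (T : Over S) :
    i2 S N₁ T ≫ (AMonS.map S f ▷ T).left.appTop = i2 S N₂ T :=
  appTop_tri _ _ _ (whiskerRight_snd (AMonS.map S f) T)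

theorem coefL_map_of_notMem (T : Over S) [IsAffine T.left] (m : N₂) (hm : m ∉ Set.range f)
    (q : Γ((AMonS S N₁ ⊗ T).left, ⊤)) :
    coefL S N₂ T m ((AMonS.map S f ▷ T).left.appTop q) = 0 :=
  functional_comp_eq_zero' (isPushout_AMonS S N₁ T) (iotaHom f) (AMonS.map S f ▷ T).left.appTop
    (i1_map S f T) (i2_map S f T) (coefHom (ULift.{u} ℤ) (Multiplicative.ofAdd m))
    (fun y => coefHom_mapDomain_of_notMem (AddMonoidHom.toMultiplicative f) _
      (fun ⟨n', hn'⟩ => hm ⟨Multiplicative.toAdd n', congrArg Multiplicative.toAdd hn'⟩) y)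
    (coefL S N₂ T m) (coefL_spec S N₂ T m) q

theorem mem_range_map (hf : Function.Injective f) (T : Over S) [IsAffine T.left]
    (p : Γ((AMonS S N₂ ⊗ T).left, ⊤))
    (hp : ∀ m : N₂, m ∉ Set.range f → coefL S N₂ T m p = 0) :
    ∃ q, (AMonS.map S f ▷ T).left.appTop q = p := by
  have hg : Function.Injective (AddMonoidHom.toMultiplicative f) := fun x y h => hf h
  refine mem_range_of_family (isPushout_AMonS S N₁ T) (isPushout_AMonS S N₂ T) (iotaHom f) _
    (i1_map S f T) (i2_map S f T)
    (J := {m : Multiplicative N₂ // m ∉ Set.range (AddMonoidHom.toMultiplicative f)})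
    (fun j => coefHom (ULift.{u} ℤ) j.1) (fun j => MonoidAlgebra.single j.1 (1 : ULift.{u} ℤ))
    (MonoidAlgebra.comapDomainAddMonoidHom (AddMonoidHom.toMultiplicative f) hg)
    (fun c x => comap_algebraMap_mul (AddMonoidHom.toMultiplicative f) hg c x)
    (fun x => monoidAlgebra_decomp (AddMonoidHom.toMultiplicative f) hg x)
    (fun j => coefL S N₂ T (Multiplicative.toAdd j.1))
    (fun j x s => coefL_spec S N₂ T (Multiplicative.toAdd j.1) x s)
    p (fun j => hp _ ?_)
  rintro ⟨n, hn⟩
  exact j.2 ⟨Multiplicative.ofAdd n, congrArg Multiplicative.ofAdd hn⟩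

end Map

end Groth.Agent.Helper2.MagnetFun
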