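import Groth.Prelude.Def_Magnet3
import Groth.Prelude.Def_ActBC
import Mathlib

set_option autoImplicit false
set_option synthInstance.maxHeartbeats 400000
set_option maxHeartbeats 4000000
set_option linter.style.haveILetI false
set_option linter.unusedSectionVars false
set_option linter.unusedVariables false
set_option linter.unusedSimpArgs false
set_option linter.unnecessarySimpa false

universe v₁ u₁ u

open CategoryTheory CategoryTheory.Limits MonoidalCategory CartesianMonoidalCategory MonObj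
  AlgebraicGeometry Opposite
open Magnet

namespace Groth.Agent.Helper2.MagnetBC

section Conj

variable {C : Type u₁} [Category.{v₁} C] [CartesianMonoidalCategory C]
  {A A' B B' X X' : C} [MonObj A] [MonObj A']

/-- conjugation of morphisms by two isomorphisms -/
def conjEquiv (cB : B' ≅ B) (cX : X' ≅ X) : (B ⟶ X) ≃ (B' ⟶ X') where
  toFun ψ := cB.hom ≫ ψ ≫ cX.inv
  invFun ψ' := cB.inv ≫ ψ' ≫ cX.hom
  left_inv ψ := by simp
  right_inv ψ' := by simp

@[simp] theorem conjEquiv_apply (cB : B' ≅ B) (cX : X' ≅ X) (ψ : B ⟶ X) :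
    conjEquiv cB cX ψ = cB.hom ≫ ψ ≫ cX.inv := rfl

theorem isEquivariant_conj_iff (ρ : MonAct A B) (a : MonAct A X) (ρ' : MonAct A' B')
    (a' : MonAct A' X') (cA : A' ≅ A) (cB : B' ≅ B) (cX : X' ≅ X)
    (hB : ρ'.act ≫ cB.hom = (A' ◁ cB.hom) ≫ (cA.hom ▷ B) ≫ ρ.act)
    (hX : a'.act ≫ cX.hom = (A' ◁ cX.hom) ≫ (cA.hom ▷ X) ≫ a.act) (ψ : B ⟶ X) :
    MonAct.IsEquivariant ρ a ψ ↔ MonAct.IsEquivariant ρ' a' (cB.hom ≫ ψ ≫ cX.inv) := by
  unfold MonAct.IsEquivariant
  have key1 : (ρ'.act ≫ cB.hom ≫ ψ ≫ cX.inv) ≫ cX.hom =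
      ((A' ◁ cB.hom) ≫ (cA.hom ▷ B)) ≫ ρ.act ≫ ψ := by
    simp only [Category.assoc, Iso.inv_hom_id, Category.comp_id]
    rw [← Category.assoc, hB]
    simp only [Category.assoc]
  have hw : (A' ◁ (cB.hom ≫ ψ ≫ cX.inv)) ≫ (A' ◁ cX.hom) ≫ (cA.hom ▷ X) =
      (A' ◁ cB.hom) ≫ (cA.hom ▷ B) ≫ (A ◁ ψ) := by
    apply CartesianMonoidalCategory.hom_ext <;> simp
  have key2 : ((A' ◁ (cB.hom ≫ ψ ≫ cX.inv)) ≫ a'.act) ≫ cX.hom =
      ((A' ◁ cB.hom) ≫ (cA.hom ▷ B)) ≫ (A ◁ ψ) ≫ a.act := by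
    rw [Category.assoc, hX, reassoc_of% hw]
    simp only [Category.assoc]
  haveI : IsIso ((A' ◁ cB.hom) ≫ (cA.hom ▷ B)) := inferInstance
  constructor
  · intro h
    apply (cancel_mono cX.hom).1
    rw [key1, key2, h]
  · intro h
    have h2 : (ρ'.act ≫ cB.hom ≫ ψ ≫ cX.inv) ≫ cX.hom =
        ((A' ◁ (cB.hom ≫ ψ ≫ cX.inv)) ≫ a'.act) ≫ cX.hom := by rw [h]
    rw [key1, key2] at h2
    exact (cancel_epi _).1 h2

end Conj

section BC

variable {S S' S'' : Scheme.{u}} (f : S'' ⟶ S') (g : S' ⟶ S) {d : S'' ⟶ S} {A X : Over S}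
  [MonObj A]

theorem bcComp_comm (h : f ≫ g = d) (a : MonAct A X) :
    ((a.bc g).bc f).act ≫ (ActBC.bcCompIso f g X h).hom =
      (Red.bc f (Red.bc g A) ◁ (ActBC.bcCompIso f g X h).hom) ≫
        ((ActBC.bcCompIso f g A h).hom ▷ Red.bc d X) ≫ (a.bc d).act := by
  ext
  apply pullback.hom_ext
  · simp only [Magnet.MonAct.bc_act, Over.comp_left, Category.assoc,
      ActBC.bcCompIso_hom_left_fst, ActBC.pullback_map_left_fst,
      ActBC.pullback_map_left_fst_assoc]
    simp only [← Category.assoc]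
    congr 1
    simp only [Category.assoc]
    apply pullback.hom_ext
    · simp only [Category.assoc]
      rw [ActBC.μ_left_fst_fst, ActBC.μ_left_fst_fst_assoc, ActBC.μ_left_fst_fst,
        Over.whiskerRight_left_fst_assoc, Over.whiskerLeft_left_fst_assoc,
        ActBC.bcCompIso_hom_left_fst]
    · simp only [Category.assoc]
      rw [ActBC.μ_left_fst_snd, ActBC.μ_left_fst_snd_assoc, ActBC.μ_left_fst_snd,
        Over.whiskerRight_left_snd_assoc, Over.whiskerLeft_left_snd_assoc,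
        ActBC.bcCompIso_hom_left_fst]
  · exact (Over.w _).trans (Over.w _).symm

end BC

section Main

variable (S : Scheme.{u}) (M : Type) [AddCommMonoid M] (N : AddSubmonoid M)
  (X : Over S) (a : Magnet.MonAct (Magnet.AMonS S M) X) (T : Over S) (T'' : Over T.left)

/-- the equivalence between equivariant morphisms of the base changes along the composite and of
the iterated base changes -/
noncomputable def conjSub :
    {ψ : Red.bc ((Over.map T.hom).obj T'').hom (Magnet.AMonS S N) ⟶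
        Red.bc ((Over.map T.hom).obj T'').hom X //
      MonAct.IsEquivariant ((Magnet.subAct S M N).bc ((Over.map T.hom).obj T'').hom)
        (a.bc ((Over.map T.hom).obj T'').hom) ψ} ≃
    {ψ' : Red.bc T''.hom (Red.bc T.hom (Magnet.AMonS S N)) ⟶ Red.bc T''.hom (Red.bc T.hom X) //
      MonAct.IsEquivariant (((Magnet.subAct S M N).bc T.hom).bc T''.hom)
        ((a.bc T.hom).bc T''.hom) ψ'} :=
  Equiv.subtypeEquiv
    (conjEquiv (ActBC.bcCompIso T''.hom T.hom (Magnet.AMonS S N) rfl)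
      (ActBC.bcCompIso T''.hom T.hom X rfl))
    (fun ψ => isEquivariant_conj_iff _ _ _ _
      (ActBC.bcCompIso T''.hom T.hom (Magnet.AMonS S M) rfl) _ _
      (bcComp_comm T''.hom T.hom rfl (Magnet.subAct S M N))
      (bcComp_comm T''.hom T.hom rfl a) ψ)

theorem main18300 :
    ∃ Φ : (Magnet.attr a N).obj (op ((Over.map T.hom).obj T'')) ≃
        (Magnet.MonAct.eqvHom ((Magnet.subAct S M N).bc T.hom) (a.bc T.hom)).obj (op T''),
      ∀ φ, (Magnet.eqvHomEquivBc T'' ((Magnet.subAct S M N).bc T.hom) (a.bc T.hom) (Φ φ)).1 ≫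
          (ActBC.bcCompIso T''.hom T.hom X rfl).hom =
        (ActBC.bcCompIso T''.hom T.hom (Magnet.AMonS S N) rfl).hom ≫
          (Magnet.eqvHomEquivBc ((Over.map T.hom).obj T'') (Magnet.subAct S M N) a φ).1 := by
  refine ⟨(Magnet.eqvHomEquivBc ((Over.map T.hom).obj T'') (Magnet.subAct S M N) a).trans
    ((conjSub S M N X a T T'').trans
      (Magnet.eqvHomEquivBc T'' ((Magnet.subAct S M N).bc T.hom) (a.bc T.hom)).symm),
    fun φ => ?_⟩
  simp only [Equiv.trans_apply, Equiv.apply_symm_apply]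
  change ((ActBC.bcCompIso T''.hom T.hom (Magnet.AMonS S N) rfl).hom ≫ _ ≫
    (ActBC.bcCompIso T''.hom T.hom X rfl).inv) ≫ (ActBC.bcCompIso T''.hom T.hom X rfl).hom = _
  simp only [Category.assoc, Iso.inv_hom_id, Category.comp_id]

end Main

end Groth.Agent.Helper2.MagnetBC
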