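import Groth.Prelude.Def_Magnet2
import Groth.Agent.Lib.Helper5.LocRepF.Abs
import Groth.Agent.Lib.Helper2.Magnet.OpenZero

/-!
# The functor of equivariant maps is a Zariski sheaf (helper2)

For actions `ρ` of `A` on `B` and `a` of `A` on `X` in `Over S`, the functor
`T ↦ {equivariant B ×_S T → X}` satisfies helper5's `IsZarSheaf`.
-/

set_option autoImplicit false
set_option synthInstance.maxHeartbeats 400000
set_option maxHeartbeats 4000000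
set_option linter.style.haveILetI false
set_option linter.unusedSectionVars false
set_option linter.unusedVariables false
set_option linter.unusedSimpArgs false
set_option linter.unnecessarySimpa false

universe w u
open CategoryTheory Limits MonoidalCategory CartesianMonoidalCategory MonObj AlgebraicGeometry Opposite
open Magnet Magnet.MonAct

namespace Groth.Agent.Helper2.MagnetSheaf

open Groth.Agent.Lib.Helper5.LocRepF Groth.Agent.Helper2.MagnetOpen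

variable {S : Scheme.{u}}

/-- a jointly surjective family of open immersions over `S` -/
structure IsOpenCoverFam {P : Over S} {J : Type w} (Q : J → Over S) (τ : ∀ j, Q j ⟶ P) : Prop where
  open_imm : ∀ j, IsOpenImmersion (τ j).left
  covers : ∀ x : P.left, ∃ j y, (τ j).left y = x

namespace IsOpenCoverFam

variable {P : Over S} {J : Type w} {Q : J → Over S} {τ : ∀ j, Q j ⟶ P}

/-- the associated open cover -/
noncomputable def toCover (h : IsOpenCoverFam Q τ) : Scheme.OpenCover.{w} P.left :=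
  Scheme.Cover.mkOfCovers J (fun j => (Q j).left) (fun j => (τ j).left) h.covers h.open_imm

theorem hom_ext (h : IsOpenCoverFam Q τ) {X : Over S} (f g : P ⟶ X)
    (hfg : ∀ j, τ j ≫ f = τ j ≫ g) : f = g := by
  apply Over.OverMorphism.ext
  apply Scheme.Cover.hom_ext h.toCover
  intro j
  exact congrArg (fun m => m.left) (hfg j)

theorem whiskerLeft (A : Over S) (h : IsOpenCoverFam Q τ) :
    IsOpenCoverFam (fun j => A ⊗ Q j) (fun j => A ◁ τ j) where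
  open_imm j := by
    haveI := h.open_imm j
    exact MorphismProperty.of_isPullback (P := @IsOpenImmersion)
      (isPullback_whiskerLeft A (τ j)).flip inferInstance
  covers x := by
    obtain ⟨j, y, hy⟩ := h.covers ((snd A P).left x)
    have hx : x ∈ Set.range (A ◁ τ j).left := by
      rw [range_fst_of_isPullback (isPullback_whiskerLeft A (τ j))]
      exact ⟨y, hy⟩
    obtain ⟨x', hx'⟩ := hx
    exact ⟨j, x', hx'⟩

end IsOpenCoverFam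

theorem baseFam {T₀ : Scheme.{u}} (t : T₀ ⟶ S) (𝒱 : Scheme.OpenCover.{w} T₀) :
    IsOpenCoverFam (P := Over.mk t) (fun j => Over.mk (𝒱.f j ≫ t)) (fun j => oHom (𝒱.f j) t) where
  open_imm j := inferInstanceAs (IsOpenImmersion (𝒱.f j))
  covers x := by
    obtain ⟨y, hy⟩ := 𝒱.covers x
    exact ⟨𝒱.idx x, y, hy⟩

section Sheaf

variable {A B X : Over S} [MonObj A] (ρ : MonAct A B) (a : MonAct A X)

theorem eqvHom_sep {T₀ : Scheme.{u}} (t : T₀ ⟶ S) (𝒱 : Scheme.OpenCover.{w} T₀)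
    (b b' : (eqvHom ρ a).obj (op (Over.mk t)))
    (h : ∀ j, (eqvHom ρ a).map (oHom (𝒱.f j) t).op b = (eqvHom ρ a).map (oHom (𝒱.f j) t).op b') :
    b = b' := by
  apply Subtype.ext
  apply ((baseFam t 𝒱).whiskerLeft B).hom_ext
  intro j
  exact congrArg Subtype.val (h j)

theorem eqvHom_glue {T₀ : Scheme.{u}} (t : T₀ ⟶ S) (𝒱 : Scheme.OpenCover.{w} T₀)
    (b : ∀ j, (eqvHom ρ a).obj (op (Over.mk (𝒱.f j ≫ t))))
    (hb : ∀ (i j : 𝒱.I₀) (T₁ : Scheme.{u}) (a₁ : T₁ ⟶ 𝒱.X i) (a₂ : T₁ ⟶ 𝒱.X j)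
      (h : a₁ ≫ 𝒱.f i = a₂ ≫ 𝒱.f j),
      (eqvHom ρ a).map (oHom a₁ (𝒱.f i ≫ t)).op (b i)
        = (eqvHom ρ a).map (castHom (by rw [← Category.assoc, h, Category.assoc]) ≫
            oHom a₂ (𝒱.f j ≫ t) : Over.mk (a₁ ≫ 𝒱.f i ≫ t) ⟶ _).op (b j)) :
    ∃ β : (eqvHom ρ a).obj (op (Over.mk t)),
      ∀ j, (eqvHom ρ a).map (oHom (𝒱.f j) t).op β = b j := by
  have fam := (baseFam t 𝒱).whiskerLeft B
  let 𝒬 := fam.toCover
  let c : ∀ j : 𝒱.I₀, 𝒬.X j ⟶ X.left := fun j => (b j).1.left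
  have hov : ∀ i j : 𝒱.I₀, pullback.fst (𝒬.f i) (𝒬.f j) ≫ c i = pullback.snd (𝒬.f i) (𝒬.f j) ≫ c j := by
    intro i j
    obtain ⟨π₁, hπ₁⟩ : ∃ π₁ : pullback (𝒬.f i) (𝒬.f j) ⟶ (B ⊗ Over.mk (𝒱.f i ≫ t)).left,
      π₁ = pullback.fst (𝒬.f i) (𝒬.f j) := ⟨_, rfl⟩
    obtain ⟨π₂, hπ₂⟩ : ∃ π₂ : pullback (𝒬.f i) (𝒬.f j) ⟶ (B ⊗ Over.mk (𝒱.f j ≫ t)).left,
      π₂ = pullback.snd (𝒬.f i) (𝒬.f j) := ⟨_, rfl⟩
    have hπ : π₁ ≫ (B ◁ oHom (𝒱.f i) t).left = π₂ ≫ (B ◁ oHom (𝒱.f j) t).left := by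
      rw [hπ₁, hπ₂]
      exact pullback.condition
    rw [← hπ₁, ← hπ₂]
    let a₁ : pullback (𝒬.f i) (𝒬.f j) ⟶ 𝒱.X i := π₁ ≫ (snd B (Over.mk (𝒱.f i ≫ t))).left
    let a₂ : pullback (𝒬.f i) (𝒬.f j) ⟶ 𝒱.X j := π₂ ≫ (snd B (Over.mk (𝒱.f j ≫ t))).left
    have hsi : (snd B (Over.mk (𝒱.f i ≫ t))).left ≫ 𝒱.f i =
        (B ◁ oHom (𝒱.f i) t).left ≫ (snd B (Over.mk t)).left :=
      (Over.whiskerLeft_left_snd (oHom (𝒱.f i) t)).symm
    have hsj : (snd B (Over.mk (𝒱.f j ≫ t))).left ≫ 𝒱.f j =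
        (B ◁ oHom (𝒱.f j) t).left ≫ (snd B (Over.mk t)).left :=
      (Over.whiskerLeft_left_snd (oHom (𝒱.f j) t)).symm
    have h12 : a₁ ≫ 𝒱.f i = a₂ ≫ 𝒱.f j := by
      simp only [a₁, a₂, Category.assoc]
      rw [hsi, hsj, ← Category.assoc, hπ, Category.assoc]
    have E := congrArg Subtype.val (hb i j _ a₁ a₂ h12)
    obtain ⟨w₁, hw₁⟩ : ∃ w₁ : Over.mk (a₁ ≫ 𝒱.f i ≫ t) ⟶ Over.mk (𝒱.f i ≫ t),
      w₁ = oHom a₁ (𝒱.f i ≫ t) := ⟨_, rfl⟩
    obtain ⟨w₂, hw₂⟩ : ∃ w₂ : Over.mk (a₁ ≫ 𝒱.f i ≫ t) ⟶ Over.mk (𝒱.f j ≫ t),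
      w₂ = castHom (by rw [← Category.assoc, h12, Category.assoc]) ≫ oHom a₂ (𝒱.f j ≫ t) :=
      ⟨_, rfl⟩
    have E' : (B ◁ w₁) ≫ (b i).1 = (B ◁ w₂) ≫ (b j).1 := by
      rw [hw₁, hw₂]
      exact E
    have hw₁l : w₁.left = a₁ := by rw [hw₁]; rfl
    have hw₂l : w₂.left = a₂ := by
      rw [hw₂, Over.comp_left]
      exact Category.id_comp _
    -- the two projections as morphisms over `S`
    have hp₁ : π₁ ≫ (B ⊗ Over.mk (𝒱.f i ≫ t)).hom = a₁ ≫ 𝒱.f i ≫ t := by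
      rw [← Over.w (snd B (Over.mk (𝒱.f i ≫ t)))]
      simp only [a₁, Category.assoc]
      rfl
    have hp₂ : π₂ ≫ (B ⊗ Over.mk (𝒱.f j ≫ t)).hom = a₁ ≫ 𝒱.f i ≫ t := by
      rw [← Category.assoc a₁, h12, ← Over.w (snd B (Over.mk (𝒱.f j ≫ t)))]
      simp only [a₂, Category.assoc]
      rfl
    let p₁ : Over.mk (a₁ ≫ 𝒱.f i ≫ t) ⟶ B ⊗ Over.mk (𝒱.f i ≫ t) := Over.homMk π₁ hp₁
    let p₂ : Over.mk (a₁ ≫ 𝒱.f i ≫ t) ⟶ B ⊗ Over.mk (𝒱.f j ≫ t) := Over.homMk π₂ hp₂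
    have hfi : (fst B (Over.mk (𝒱.f i ≫ t))).left =
        (B ◁ oHom (𝒱.f i) t).left ≫ (fst B (Over.mk t)).left :=
      (Over.whiskerLeft_left_fst (oHom (𝒱.f i) t)).symm
    have hfj : (fst B (Over.mk (𝒱.f j ≫ t))).left =
        (B ◁ oHom (𝒱.f j) t).left ≫ (fst B (Over.mk t)).left :=
      (Over.whiskerLeft_left_fst (oHom (𝒱.f j) t)).symm
    have hm : p₁ ≫ fst B _ = p₂ ≫ fst B _ := by
      apply Over.OverMorphism.ext
      rw [Over.comp_left, Over.comp_left]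
      change π₁ ≫ (fst B (Over.mk (𝒱.f i ≫ t))).left = π₂ ≫ (fst B (Over.mk (𝒱.f j ≫ t))).left
      rw [hfi, hfj, ← Category.assoc, hπ, Category.assoc]
    have hs₁ : p₁ ≫ snd B _ = w₁ := by
      apply Over.OverMorphism.ext
      rw [Over.comp_left, hw₁l]
      rfl
    have hs₂ : p₂ ≫ snd B _ = w₂ := by
      apply Over.OverMorphism.ext
      rw [Over.comp_left, hw₂l]
      rfl
    have hl₁ : p₁ = lift (p₁ ≫ fst B _) w₁ := by
      rw [← hs₁]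
      exact (lift_comp_fst_snd p₁).symm
    have hl₂ : p₂ = lift (p₁ ≫ fst B _) w₂ := by
      rw [hm, ← hs₂]
      exact (lift_comp_fst_snd p₂).symm
    have key : p₁ ≫ (b i).1 = p₂ ≫ (b j).1 := by
      rw [hl₁, hl₂]
      have e1 : ∀ (Y : Over S) (w : Over.mk (a₁ ≫ 𝒱.f i ≫ t) ⟶ Y),
          lift (p₁ ≫ fst B _) w = lift (p₁ ≫ fst B _) (𝟙 _) ≫ (B ◁ w) := by
        intro Y w
        rw [lift_whiskerLeft, Category.id_comp]
      rw [e1 _ w₁, e1 _ w₂]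
      exact (Category.assoc _ (B ◁ w₁) (b i).1).trans
        ((congrArg (fun m => lift (p₁ ≫ fst B _) (𝟙 _) ≫ m) E').trans
          (Category.assoc _ (B ◁ w₂) (b j).1).symm)
    exact congrArg (fun m => m.left) key
  let cc : (B ⊗ Over.mk t).left ⟶ X.left := 𝒬.glueMorphisms c hov
  have hgl : ∀ j : 𝒱.I₀, (B ◁ oHom (𝒱.f j) t).left ≫ cc = (b j).1.left :=
    fun j => Scheme.Cover.ι_glueMorphisms 𝒬 c hov j
  have hcc : cc ≫ X.hom = (B ⊗ Over.mk t).hom := by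
    apply Scheme.Cover.hom_ext 𝒬
    intro j
    change (B ◁ oHom (𝒱.f j) t).left ≫ cc ≫ X.hom = (B ◁ oHom (𝒱.f j) t).left ≫ (B ⊗ Over.mk t).hom
    rw [← Category.assoc, hgl j, Over.w, Over.w]
  let β₀ : B ⊗ Over.mk t ⟶ X := Over.homMk cc hcc
  have hβ : ∀ j : 𝒱.I₀, (B ◁ oHom (𝒱.f j) t) ≫ β₀ = (b j).1 := by
    intro j
    apply Over.OverMorphism.ext
    rw [Over.comp_left]
    exact hgl j
  have heq : IsEquivariant (ρ.prod (trivial A (Over.mk t))) a β₀ := by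
    unfold IsEquivariant
    apply (fam.whiskerLeft A).hom_ext
    intro j
    have e1 := (b j).2
    unfold IsEquivariant at e1
    change (A ◁ (B ◁ oHom (𝒱.f j) t)) ≫ (ρ.prod (trivial A (Over.mk t))).act ≫ β₀ =
      (A ◁ (B ◁ oHom (𝒱.f j) t)) ≫ (A ◁ β₀) ≫ a.act
    rw [← prod_trivial_act_whiskerLeft_assoc, hβ j, e1, ← MonoidalCategory.whiskerLeft_comp_assoc,
      hβ j]
  refine ⟨⟨β₀, heq⟩, fun j => ?_⟩
  apply Subtype.ext
  exact hβ j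

/-- the functor of equivariant maps is a Zariski sheaf. -/
theorem eqvHom_isZarSheaf : IsZarSheaf.{w} (eqvHom ρ a) where
  sep _ t 𝒱 := eqvHom_sep ρ a t 𝒱
  glue _ t 𝒱 := eqvHom_glue ρ a t 𝒱

end Sheaf

end Groth.Agent.Helper2.MagnetSheaf
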