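import Groth.Prelude.Def_Magnet2
import Groth.Agent.Lib.Helper5.LocRepF.Main
import Groth.Agent.Lib.Helper2.Magnet.Sheaf
import Groth.Agent.Lib.Helper2.Magnet.RepGeom

/-!
# Representability of equivariant maps out of a monoid with dense units, locally linear case
(helper2)

`main18964`: the functor `D_X` is representable when the `G`-stable affine opens of `X` cover the
fixed points; glued (helper5's `isRepresentable_of_openCover`) from the affine case `main18955`.
-/

set_option autoImplicit false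
set_option synthInstance.maxHeartbeats 400000
set_option maxHeartbeats 4000000
set_option linter.style.haveILetI false
set_option linter.unusedSectionVars false
set_option linter.unusedVariables false
set_option linter.unusedSimpArgs false
set_option linter.unnecessarySimpa false

universe v₁ u₁ u
open CategoryTheory Limits MonoidalCategory CartesianMonoidalCategory MonObj AlgebraicGeometry Opposite
open Magnet Magnet.MonAct

namespace Groth.Agent.Helper2.MagnetRepCover

open Groth.Agent.Lib.Helper5.LocRepF Groth.Agent.Helper2.MagnetOpen Groth.Agent.Helper2.MagnetSheaf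
  Groth.Agent.Helper2.MagnetRep Groth.Agent.Helper2.MagnetCat

section Cat

variable {C : Type u₁} [Category.{v₁} C] [CartesianMonoidalCategory C]
variable {A B P X U : C} [MonObj A]

theorem exists_restrict_of_mono (a : MonAct A X) (j : U ⟶ X) [Mono j] (actU : A ⊗ U ⟶ U)
    (h : actU ≫ j = (A ◁ j) ≫ a.act) :
    ∃ aU : MonAct A U, aU.act = actU ∧ IsEquivariant aU a j := by
  have hpt : ∀ {T : C} (g : T ⟶ A) (x : T ⟶ U),
      (lift g x ≫ actU) ≫ j = lift g (x ≫ j) ≫ a.act := by
    intro T g x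
    rw [Category.assoc, h, lift_whiskerLeft_assoc]
  refine ⟨MonAct.mk' actU ?_ ?_, rfl, h⟩
  · intro T x
    rw [← cancel_mono j, hpt, a.lift_one_act]
  · intro T g h' x
    rw [← cancel_mono j]
    simp only [hpt]
    rw [a.lift_mul_act]

theorem isEquivariant_of_comp_mono {ρP : MonAct A P} {aX : MonAct A X} {aU : MonAct A U}
    (j : U ⟶ X) [Mono j] (hj : IsEquivariant aU aX j) (χ : P ⟶ U) (φ : P ⟶ X) (hχ : χ ≫ j = φ)
    (hφ : IsEquivariant ρP aX φ) : IsEquivariant ρP aU χ := by
  subst hχ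
  unfold IsEquivariant at hφ hj ⊢
  rw [← cancel_mono j, Category.assoc, hφ, Category.assoc, hj, MonoidalCategory.whiskerLeft_comp,
    Category.assoc]

theorem lift_unit_whiskerLeft (e₀ : 𝟙_ C ⟶ B) {T T' : C} (v : T' ⟶ T) :
    lift (toUnit T' ≫ e₀) (𝟙 T') ≫ (B ◁ v) = v ≫ lift (toUnit T ≫ e₀) (𝟙 T) := by
  apply CartesianMonoidalCategory.hom_ext <;> simp

end Cat

section Stable

variable {S : Scheme.{u}}

theorem exists_action_of_stable_open {G X : Over S} [MonObj G] (a : MonAct G X)
    (U : X.left.Opens) (hU : (snd G X).left ⁻¹ᵁ U ≤ a.act.left ⁻¹ᵁ U) :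
    ∃ aU : MonAct G (Over.mk (U.ι ≫ X.hom)),
      IsEquivariant aU a (Over.homMk U.ι rfl : Over.mk (U.ι ≫ X.hom) ⟶ X) := by
  obtain ⟨jU, hjU⟩ : ∃ jU : Over.mk (U.ι ≫ X.hom) ⟶ X, jU = Over.homMk U.ι rfl := ⟨_, rfl⟩
  rw [← hjU]
  have hjl : jU.left = U.ι := by rw [hjU]; rfl
  haveI : IsOpenImmersion jU.left := by rw [hjl]; infer_instance
  haveI : Mono jU.left := inferInstance
  haveI : Mono jU := Over.mono_of_mono_left jU
  have hrU : Set.range jU.left = (U : Set X.left) := by rw [hjl]; exact Scheme.Opens.range_ι U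
  have hrange : Set.range ((G ◁ jU) ≫ a.act).left ⊆ Set.range jU.left := by
    rintro _ ⟨p, rfl⟩
    have h1 : (G ◁ jU).left p ∈ (snd G X).left ⁻¹ᵁ U := by
      change (snd G X).left ((G ◁ jU).left p) ∈ (U : Set X.left)
      have hs : (G ◁ jU).left ≫ (snd G X).left = (snd G _).left ≫ jU.left :=
        Over.whiskerLeft_left_snd _
      rw [← Scheme.Hom.comp_apply, hs, Scheme.Hom.comp_apply, ← hrU]
      exact ⟨_, rfl⟩
    have h2 : (G ◁ jU).left p ∈ a.act.left ⁻¹ᵁ U := hU h1
    rw [Over.comp_left, Scheme.Hom.comp_apply, hrU]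
    exact h2
  let actU : G ⊗ Over.mk (U.ι ≫ X.hom) ⟶ Over.mk (U.ι ≫ X.hom) :=
    Over.homMk (IsOpenImmersion.lift jU.left ((G ◁ jU) ≫ a.act).left hrange) (by
      rw [← Over.w jU, ← Category.assoc, IsOpenImmersion.lift_fac, Over.w])
  have hact : actU ≫ jU = (G ◁ jU) ≫ a.act := by
    apply Over.OverMorphism.ext
    rw [Over.comp_left]
    exact IsOpenImmersion.lift_fac _ _ _
  obtain ⟨aU, -, haU⟩ := exists_restrict_of_mono a jU actU hact
  exact ⟨aU, haU⟩

end Stable

section Main

theorem main18964 (k : Type u) [Field k]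
    (M G X : Over (Spec (CommRingCat.of k))) [MonObj M] [GrpObj G] [IsAffine M.left]
    [IsAffine G.left] (i : G ⟶ M) [IsMonHom i] [IsSchemeTheoreticallyDominant i.left]
    (o : 𝟙_ (Over (Spec (CommRingCat.of k))) ⟶ M)
    (ho : ∀ (T : Over (Spec (CommRingCat.of k))) (m : T ⟶ M),
      m * (toUnit T ≫ o) = toUnit T ≫ o ∧ (toUnit T ≫ o) * m = toUnit T ≫ o)
    (hM : ∀ (T : Over (Spec (CommRingCat.of k))) (K : Type u) [Field K]
      (eT : T.left ≅ Spec (CommRingCat.of K)) (W : (M ⊗ T).left.Opens),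
      (CartesianMonoidalCategory.snd G (M ⊗ T)).left ⁻¹ᵁ W ≤
          ((((Magnet.MonAct.regular M).restrict i).prod (Magnet.MonAct.trivial G T)).act).left ⁻¹ᵁ W →
      (CartesianMonoidalCategory.lift (toUnit T ≫ o) (𝟙 T)).left ⁻¹ᵁ W = ⊤ → W = ⊤)
    (a : MonAct G X)
    (hcov : ∀ (T : Over (Spec (CommRingCat.of k)))
      (x : (Magnet.MonAct.fixedPsh a).obj (op T)),
      ⨆ (U : X.left.Opens) (_ : IsAffineOpen U ∧
        (CartesianMonoidalCategory.snd G X).left ⁻¹ᵁ U ≤ a.act.left ⁻¹ᵁ U),
        x.1.left ⁻¹ᵁ U = ⊤) :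
    ∃ Z : Over (Spec (CommRingCat.of k)),
      Nonempty ((Magnet.MonAct.eqvHom ((Magnet.MonAct.regular M).restrict i) a).RepresentableBy Z) := by
  classical
  -- the data attached to each stable affine open
  have hdata : ∀ U : {U : X.left.Opens // IsAffineOpen U ∧
      (CartesianMonoidalCategory.snd G X).left ⁻¹ᵁ U ≤ a.act.left ⁻¹ᵁ U},
      ∃ (aU : MonAct G (Over.mk (U.1.ι ≫ X.hom))) (W : Over (Spec (CommRingCat.of k)))
        (_ : (eqvHom ((regular M).restrict i) aU).RepresentableBy W),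
        IsEquivariant aU a (Over.homMk U.1.ι rfl : Over.mk (U.1.ι ≫ X.hom) ⟶ X) := by
    intro U
    obtain ⟨aU, haU⟩ := exists_action_of_stable_open a U.1 U.2.2
    haveI : IsAffine (Over.mk (U.1.ι ≫ X.hom)).left := U.2.1
    obtain ⟨W, j, e, -, -⟩ := main18955 k M G (Over.mk (U.1.ι ≫ X.hom)) i aU
    exact ⟨aU, W, e, haU⟩
  choose aU W e haU using hdata
  -- notation
  let jU : ∀ U : {U : X.left.Opens // IsAffineOpen U ∧
      (CartesianMonoidalCategory.snd G X).left ⁻¹ᵁ U ≤ a.act.left ⁻¹ᵁ U},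
      Over.mk (U.1.ι ≫ X.hom) ⟶ X := fun U => Over.homMk U.1.ι rfl
  have hjl : ∀ U, (jU U).left = U.1.ι := fun U => rfl
  have hopen : ∀ U, IsOpenImmersion (jU U).left := fun U => by rw [hjl]; infer_instance
  have hmono : ∀ U, Mono (jU U) := fun U => by
    haveI := hopen U
    haveI : Mono (jU U).left := inferInstance
    exact Over.mono_of_mono_left (jU U)
  have hrU : ∀ U, Set.range (jU U).left = (U.1 : Set X.left) := fun U => by
    rw [hjl]; exact Scheme.Opens.range_ι U.1
  let ξ : ∀ U, (eqvHom ((regular M).restrict i) a).obj (op (W U)) := fun U =>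
    (eqvHom.postcomp ((regular M).restrict i) (jU U) (haU U)).app (op (W U))
      ((e U).homEquiv (𝟙 (W U)))
  -- key identity
  have K : ∀ (U) (T : Over (Spec (CommRingCat.of k))) (a' : T ⟶ W U),
      (eqvHom ((regular M).restrict i) a).map a'.op (ξ U) =
        (eqvHom.postcomp ((regular M).restrict i) (jU U) (haU U)).app (op T)
          ((e U).homEquiv a') := by
    intro U T a'
    apply Subtype.ext
    have h1 : (e U).homEquiv a' =
        (eqvHom ((regular M).restrict i) (aU U)).map a'.op ((e U).homEquiv (𝟙 (W U))) := by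
      rw [← (e U).homEquiv_comp, Category.comp_id]
    change (M ◁ a') ≫ ((e U).homEquiv (𝟙 (W U))).1 ≫ jU U = ((e U).homEquiv a').1 ≫ jU U
    rw [h1, eqvHom_map_coe, Category.assoc]
    rfl
  -- the zero point
  let zp : ∀ {T : Over (Spec (CommRingCat.of k))}
      (b : (eqvHom ((regular M).restrict i) a).obj (op T)), T ⟶ X :=
    fun {T} b => lift (toUnit T ≫ o) (𝟙 T) ≫ b.1
  have hzp : ∀ {T T' : Over (Spec (CommRingCat.of k))} (v : T' ⟶ T)
      (b : (eqvHom ((regular M).restrict i) a).obj (op T)),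
      zp ((eqvHom ((regular M).restrict i) a).map v.op b) = v ≫ zp b := by
    intro T T' v b
    change lift (toUnit T' ≫ o) (𝟙 T') ≫ (M ◁ v) ≫ b.1 = v ≫ lift (toUnit T ≫ o) (𝟙 T) ≫ b.1
    rw [← Category.assoc, lift_unit_whiskerLeft, Category.assoc]
  have hfix : ∀ {T : Over (Spec (CommRingCat.of k))}
      (b : (eqvHom ((regular M).restrict i) a).obj (op T))
      (T' : Over (Spec (CommRingCat.of k))) (t' : T' ⟶ T) (g : T' ⟶ G),
      lift g (t' ≫ zp b) ≫ a.act = t' ≫ zp b := by
    intro T b T' t' g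
    have e0 : t' ≫ zp b = lift (toUnit T' ≫ o) t' ≫ b.1 := by
      change t' ≫ lift (toUnit T ≫ o) (𝟙 T) ≫ b.1 = _
      rw [← Category.assoc, comp_lift, Category.comp_id, ← Category.assoc, comp_toUnit]
    have e1 := (mem_eqvHom_iff b.1).1 b.2 T' g (toUnit T' ≫ o) t'
    rw [lift_restrict_act, lift_regular_act, (ho T' (g ≫ i)).1] at e1
    rw [e0]
    exact e1.symm
  -- apply the gluing theorem
  have hrep := isRepresentable_of_openCover (F := eqvHom ((regular M).restrict i) a) W ξ
    (fun U T a₁ a₂ h => by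
      have h' : (eqvHom ((regular M).restrict i) a).map a₁.op (ξ U) =
        (eqvHom ((regular M).restrict i) a).map a₂.op (ξ U) := h
      rw [K, K] at h'
      have h'' : ((e U).homEquiv a₁).1 ≫ jU U = ((e U).homEquiv a₂).1 ≫ jU U :=
        congrArg Subtype.val h'
      haveI := hmono U
      have h3 : (e U).homEquiv a₁ = (e U).homEquiv a₂ := Subtype.ext ((cancel_mono (jU U)).1 h'')
      exact (e U).homEquiv.injective h3)
    (fun U T₀ t b => ((zp b).left ⁻¹ᵁ U.1 : T₀.Opens))
    (fun U T₀ t b T₁ φ₁ => by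
      obtain ⟨b', hb'⟩ : ∃ b' : (eqvHom ((regular M).restrict i) a).obj (op (Over.mk (φ₁ ≫ t))),
        b' = (eqvHom ((regular M).restrict i) a).map (oHom φ₁ t).op b := ⟨_, rfl⟩
      rw [← hb']
      have hzb : zp b' = oHom φ₁ t ≫ zp b := by rw [hb']; exact hzp _ _
      have hzbl : ∀ p, (zp b').left p = (zp b).left (φ₁ p) := by
        intro p
        rw [hzb, Over.comp_left, Scheme.Hom.comp_apply]
        rfl
      haveI := hopen U
      haveI := hmono U
      constructor
      · intro hr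
        have hrange : Set.range (zp b').left ⊆ Set.range (jU U).left := by
          rintro _ ⟨p, rfl⟩
          rw [hrU, hzbl]
          exact hr ⟨p, rfl⟩
        let z : Over.mk (φ₁ ≫ t) ⟶ Over.mk (U.1.ι ≫ X.hom) :=
          Over.homMk (IsOpenImmersion.lift (jU U).left (zp b').left hrange) (by
            rw [← Over.w (jU U), ← Category.assoc, IsOpenImmersion.lift_fac, Over.w])
        have hz : zp b' = z ≫ jU U := by
          apply Over.OverMorphism.ext
          rw [Over.comp_left]
          exact (IsOpenImmersion.lift_fac _ _ _).symm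
        obtain ⟨χ, hχ⟩ := exists_lift_open k M G X (Over.mk (U.1.ι ≫ X.hom)) i o hM
          (MonAct.toAction a) (MonAct.toAction (aU U)) (jU U) (haU U) (Over.mk (φ₁ ≫ t)) b'.1 b'.2
          z hz
        have hχeq : IsEquivariant (((regular M).restrict i).prod
            (trivial G (Over.mk (φ₁ ≫ t)))) (aU U) χ :=
          isEquivariant_of_comp_mono (jU U) (haU U) χ b'.1 hχ b'.2
        refine ⟨(e U).homEquiv.symm ⟨χ, hχeq⟩, ?_⟩
        rw [K, Equiv.apply_symm_apply]
        exact Subtype.ext hχ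
      · rintro ⟨a', ha'⟩
        rw [K] at ha'
        have h1 : b'.1 = ((e U).homEquiv a').1 ≫ jU U := (congrArg Subtype.val ha').symm
        rintro _ ⟨p, rfl⟩
        change (zp b).left (φ₁ p) ∈ (U.1 : Set X.left)
        rw [← hzbl, ← hrU]
        have h2 : zp b' = (lift (toUnit _ ≫ o) (𝟙 _) ≫ ((e U).homEquiv a').1) ≫ jU U := by
          change lift (toUnit _ ≫ o) (𝟙 _) ≫ b'.1 = _
          rw [h1, Category.assoc]
        rw [h2, Over.comp_left, Scheme.Hom.comp_apply]
        exact ⟨_, rfl⟩)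
    (eqvHom_isZarSheaf ((regular M).restrict i) a)
    (fun T₀ t b x => by
      have hc := hcov (Over.mk t) ⟨zp b, hfix b⟩
      have hx : x ∈ (⊤ : T₀.Opens) := trivial
      rw [← hc] at hx
      simp only [TopologicalSpace.Opens.mem_iSup] at hx
      obtain ⟨U, hUp, hxU⟩ := hx
      exact ⟨⟨U, hUp⟩, hxU⟩)
  exact hrep.has_representation

end Main

end Groth.Agent.Helper2.MagnetRepCover
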