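import Groth.Agent.Lib.Helper2.Magnet.AMonFun

/-!
# Local representability of the attractor of an affine scheme (helper2)

`S` arbitrary, `X` an affine scheme over `S` whose structure map factors through an affine scheme
`V₀` mapping monomorphically to `S`, `a` an action of `A(M)_S` on `X`, `N` a submonoid of `M`.  The
attractor `X^N` is represented by a closed subscheme of `X` (`main_local`).
-/

set_option autoImplicit false
set_option synthInstance.maxHeartbeats 400000
set_option maxHeartbeats 4000000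
set_option linter.style.haveILetI false
set_option linter.unusedSectionVars false
set_option linter.unusedVariables false
set_option linter.unusedSimpArgs false
set_option linter.unnecessarySimpa false

universe u
open CategoryTheory Limits MonoidalCategory CartesianMonoidalCategory MonObj AlgebraicGeometry Opposite
open Magnet Magnet.MonAct

namespace Groth.Agent.Helper2.MagnetLoc

open Groth.Agent.Helper2.MagnetDom Groth.Agent.Helper2.MagnetCat Groth.Agent.Helper2.MagnetUnits
  Groth.Agent.Helper2.MagnetOpen Groth.Agent.Helper2.MagnetRep Groth.Agent.Helper2.MagnetFun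

section Basic

variable (S : Scheme.{u}) {M N : Type} [AddCommMonoid M] [AddCommMonoid N]

theorem isAffineHom_pT (N : Type) [AddCommMonoid N] (T : Over S) : IsAffineHom (pT S N T) :=
  MorphismProperty.of_isPullback (P := @IsAffineHom) (isPullback_qA_pT S N T)
    (inferInstanceAs (IsAffineHom (Spec.map _)))

theorem isAffineHom_map_whiskerRight (f : N →+ M) (T : Over S) :
    IsAffineHom (AMonS.map S f ▷ T).left := by
  haveI hN : IsAffineHom (pT S N T) := isAffineHom_pT S N T
  haveI hM : IsAffineHom (pT S M T) := isAffineHom_pT S M T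
  haveI : IsAffineHom ((AMonS.map S f ▷ T).left ≫ pT S N T) := by rw [map_pT]; exact hM
  exact IsAffineHom.of_comp _ (pT S N T)

theorem isAffine_tensor (N : Type) [AddCommMonoid N] (T : Over S) [IsAffine T.left] :
    IsAffine (AMonS S N ⊗ T).left := by
  haveI := isAffineHom_pT S N T
  exact isAffine_of_isAffineHom (pT S N T)

theorem flat_AMonS_hom (M : Type) [AddCommMonoid M] : Flat (AMonS S M).hom := by
  haveI : Module.Free (ULift.{u} ℤ) (MonoidAlgebra (ULift.{u} ℤ) (Multiplicative M)) :=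
    Module.Free.of_basis (MonoidAlgebra.basis _ _)
  haveI : Flat (AMon (ULift.{u} ℤ) M).hom := by
    change Flat (Spec.map (CommRingCat.ofHom (algebraMap (ULift.{u} ℤ)
      (MonoidAlgebra (ULift.{u} ℤ) (Multiplicative M)))))
    rw [HasRingHomProperty.Spec_iff (P := @Flat)]
    exact RingHom.flat_algebraMap_iff.mpr inferInstance
  exact inferInstanceAs (Flat (pullback.snd (AMon (ULift.{u} ℤ) M).hom (tau S)))

theorem isSchemeTheoreticallyDominant_whiskerLeft_of_flat {S : Scheme.{u}} (G : Over S)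
    [Flat G.hom] {P' P : Over S} (τ : P' ⟶ P) [QuasiCompact τ.left]
    [IsSchemeTheoreticallyDominant τ.left] : IsSchemeTheoreticallyDominant (G ◁ τ).left := by
  haveI : Flat (snd G P).left := inferInstanceAs (Flat (pullback.snd G.hom P.hom))
  exact IsSchemeTheoreticallyDominant.of_isPullback (isPullback_whiskerLeft G τ).flip

end Basic

section Local

variable {S : Scheme.{u}} {M : Type} [AddCommMonoid M] (N : AddSubmonoid M) {X : Over S}
  (a : MonAct (AMonS S M) X)

/-- generators of the ideal of the attractor -/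
def genJ [IsAffine X.left] : Set Γ(X.left, ⊤) :=
  {y | ∃ (m : M) (_ : m ∉ N) (b : Γ(X.left, ⊤)), y = coefL S M X m (a.act.left.appTop b)}

theorem kills_affine [IsAffine X.left] (T : Over S) [IsAffine T.left]
    (φ : AMonS S N ⊗ T ⟶ X) (x : T ⟶ X)
    (hφ : (AMonS.map S N.subtype ▷ T) ≫ φ = (AMonS S M ◁ x) ≫ a.act) :
    ∀ y ∈ Ideal.span (genJ N a), x.left.appTop y = 0 := by
  have hle : Ideal.span (genJ N a) ≤ RingHom.ker x.left.appTop.hom := by
    rw [Ideal.span_le]
    rintro y ⟨m, hm, b, rfl⟩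
    rw [SetLike.mem_coe, RingHom.mem_ker]
    change x.left.appTop (coefL S M X m (a.act.left.appTop b)) = 0
    rw [← coefL_natural S M x m]
    have e1 : (AMonS S M ◁ x).left.appTop (a.act.left.appTop b) =
        (AMonS.map S N.subtype ▷ T).left.appTop (φ.left.appTop b) := by
      have h2 := appTop_comm _ _ _ _ hφ
      exact (congr($h2 b)).symm
    rw [e1]
    refine coefL_map_of_notMem S N.subtype T m ?_ _
    rintro ⟨n, rfl⟩
    exact hm n.2
  intro y hy
  exact hle hy

theorem kills [IsAffine X.left] (T : Over S) (φ : AMonS S N ⊗ T ⟶ X) (x : T ⟶ X)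
    (hφ : (AMonS.map S N.subtype ▷ T) ≫ φ = (AMonS S M ◁ x) ≫ a.act) :
    ∀ y ∈ Ideal.span (genJ N a), x.left.appTop y = 0 := by
  intro y hy
  apply Scheme.zero_of_zero_cover _ T.left.affineCover
  intro c
  let Tc : Over S := Over.mk (T.left.affineCover.f c ≫ T.hom)
  let v : Tc ⟶ T := Over.homMk (T.left.affineCover.f c) rfl
  haveI : IsAffine Tc.left := inferInstanceAs (IsAffine (T.left.affineCover.X c))
  have h1 := kills_affine N a Tc ((AMonS S N ◁ v) ≫ φ) (v ≫ x) (by
    rw [← whisker_exchange_assoc, hφ, MonoidalCategory.whiskerLeft_comp, Category.assoc]) y hy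
  exact h1

theorem exists_extension [IsAffine X.left] {V₀ : Scheme.{u}} [IsAffine V₀] (ι₀ : V₀ ⟶ S)
    [Mono ι₀] (v₀ : X.left ⟶ V₀) (hv : v₀ ≫ ι₀ = X.hom)
    (Z : Over S) [IsAffine Z.left] (j : Z ⟶ X)
    (hj : ∀ y ∈ Ideal.span (genJ N a), j.left.appTop y = 0) :
    ∃ φ : AMonS S N ⊗ Z ⟶ X, (AMonS.map S N.subtype ▷ Z) ≫ φ = (AMonS S M ◁ j) ≫ a.act := by
  have hinj : Function.Injective N.subtype := fun x y h => Subtype.ext h
  haveI := isSchemeTheoreticallyDominant_whiskerRight S N.subtype hinj Z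
  haveI := isAffineHom_map_whiskerRight S N.subtype Z
  obtain ⟨ω, hω⟩ : ∃ ω : AMonS S M ⊗ Z ⟶ X, ω = (AMonS S M ◁ j) ≫ a.act := ⟨_, rfl⟩
  rw [← hω]
  have hθinj : Function.Injective (AMonS.map S N.subtype ▷ Z).left.appTop :=
    Scheme.Hom.app_injective (AMonS.map S N.subtype ▷ Z).left ⊤
  have hrange : ∀ b : Γ(X.left, ⊤),
      ∃ q, (AMonS.map S N.subtype ▷ Z).left.appTop q = ω.left.appTop b := by
    intro b
    refine mem_range_map S N.subtype hinj Z _ (fun m hm => ?_)
    have e1 : ω.left.appTop b = (AMonS S M ◁ j).left.appTop (a.act.left.appTop b) := by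
      have h2 := appTop_tri (AMonS S M ◁ j) a.act ω hω.symm
      exact (congr($h2 b)).symm
    rw [e1, coefL_natural S M j m]
    exact hj _ (Ideal.subset_span ⟨m, fun h => hm ⟨⟨m, h⟩, rfl⟩, b, rfl⟩)
  let θ : Γ((AMonS S N ⊗ Z).left, ⊤) →+* Γ((AMonS S M ⊗ Z).left, ⊤) :=
    (AMonS.map S N.subtype ▷ Z).left.appTop.hom
  let θe : Γ((AMonS S N ⊗ Z).left, ⊤) ≃+* θ.range :=
    RingEquiv.ofBijective θ.rangeRestrict
      ⟨fun x y h => hθinj (congrArg Subtype.val h), θ.rangeRestrict_surjective⟩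
  let ω' : Γ(X.left, ⊤) →+* θ.range :=
    ω.left.appTop.hom.codRestrict θ.range (fun b => by
      obtain ⟨q, hq⟩ := hrange b
      exact ⟨q, hq⟩)
  let ψ₀ : Γ(X.left, ⊤) →+* Γ((AMonS S N ⊗ Z).left, ⊤) := (θe.symm : θ.range →+* _).comp ω'
  have hψ : ∀ b, (AMonS.map S N.subtype ▷ Z).left.appTop (ψ₀ b) = ω.left.appTop b := by
    intro b
    have h3 := θe.apply_symm_apply (ω' b)
    exact congrArg Subtype.val h3
  obtain ⟨φ₀, hφ₀⟩ := exists_hom_appTop (AMonS S N ⊗ Z).left X.left (CommRingCat.ofHom ψ₀)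
  have hcomp : (AMonS.map S N.subtype ▷ Z).left ≫ φ₀ = ω.left := by
    apply ext_of_isAffine
    rw [Scheme.Hom.comp_appTop, hφ₀]
    ext b
    exact hψ b
  have hpre : (AMonS.map S N.subtype ▷ Z).left ≫ (φ₀ ≫ v₀) =
      (AMonS.map S N.subtype ▷ Z).left ≫ ((snd (AMonS S N) Z).left ≫ j.left ≫ v₀) := by
    have hs : (AMonS.map S N.subtype ▷ Z).left ≫ (snd (AMonS S N) Z).left =
        (snd (AMonS S M) Z).left := Over.whiskerRight_left_snd _
    rw [← Category.assoc, hcomp, reassoc_of% hs, ← cancel_mono ι₀]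
    simp only [Category.assoc]
    rw [hv, Over.w ω, Over.w j, Over.w (snd (AMonS S M) Z)]
  have hw' : φ₀ ≫ v₀ = (snd (AMonS S N) Z).left ≫ j.left ≫ v₀ := by
    apply ext_of_isAffine
    have h3 : (φ₀ ≫ v₀).appTop ≫ (AMonS.map S N.subtype ▷ Z).left.appTop =
        ((snd (AMonS S N) Z).left ≫ j.left ≫ v₀).appTop ≫
          (AMonS.map S N.subtype ▷ Z).left.appTop := by
      rw [← Scheme.Hom.comp_appTop, ← Scheme.Hom.comp_appTop, hpre]
    ext c
    apply hθinj
    exact congr($h3 c)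
  have hw : φ₀ ≫ X.hom = (AMonS S N ⊗ Z).hom := by
    rw [← hv, ← Category.assoc, hw']
    simp only [Category.assoc]
    rw [hv, Over.w j, Over.w (snd (AMonS S N) Z)]
  refine ⟨Over.homMk φ₀ hw, ?_⟩
  apply Over.OverMorphism.ext
  rw [Over.comp_left]
  exact hcomp

theorem main_local (S : Scheme.{u}) (M : Type) [AddCommMonoid M] (N : AddSubmonoid M)
    (X : Over S) [IsAffine X.left] [IsSeparated X.hom]
    {V₀ : Scheme.{u}} [IsAffine V₀] (ι₀ : V₀ ⟶ S) [Mono ι₀] (v₀ : X.left ⟶ V₀)
    (hv : v₀ ≫ ι₀ = X.hom) (a : MonAct (AMonS S M) X) :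
    ∃ (Z : Over S) (j : Z ⟶ X) (e : (attr a N).RepresentableBy Z),
      IsAffine Z.left ∧ IsClosedImmersion j.left ∧ ∀ (T : Over S) (z : T ⟶ Z),
        (attrToX a N).app (op T) (e.homEquiv z) = z ≫ j := by
  have hinj : Function.Injective N.subtype := fun x y h => Subtype.ext h
  obtain ⟨Z₀, j₀, hZaff, hcl, hJ0, hlift⟩ :=
    exists_closed_subscheme X.left (Ideal.span (genJ N a))
  let Z : Over S := Over.mk (j₀ ≫ X.hom)
  let j : Z ⟶ X := Over.homMk j₀ rfl
  haveI : IsAffine Z.left := hZaff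
  haveI hclj : IsClosedImmersion j.left := hcl
  haveI : Mono j.left := inferInstance
  haveI : Mono j := Over.mono_of_mono_left j
  have hdomT : ∀ T : Over S,
      IsSchemeTheoreticallyDominant (AMonS.map S N.subtype ▷ T).left :=
    fun T => isSchemeTheoreticallyDominant_whiskerRight S N.subtype hinj T
  have hcancel1 : ∀ (T : Over S) (φ₁ φ₂ : AMonS S N ⊗ T ⟶ X),
      (AMonS.map S N.subtype ▷ T) ≫ φ₁ = (AMonS.map S N.subtype ▷ T) ≫ φ₂ → φ₁ = φ₂ :=
    fun T φ₁ φ₂ h => by
      haveI := hdomT T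
      exact eq_of_comp_eq_of_dominant (AMonS.map S N.subtype ▷ T) φ₁ φ₂ h
  obtain ⟨φZ, hφZ⟩ := exists_extension N a ι₀ v₀ hv Z j hJ0
  have hcancel2 : ∀ f₁ f₂ : AMonS S M ⊗ (AMonS S N ⊗ Z) ⟶ X,
      (AMonS S M ◁ (AMonS.map S N.subtype ▷ Z)) ≫ f₁ =
        (AMonS S M ◁ (AMonS.map S N.subtype ▷ Z)) ≫ f₂ → f₁ = f₂ := fun f₁ f₂ h => by
    haveI := hdomT Z
    haveI := isAffineHom_map_whiskerRight S N.subtype Z
    haveI := flat_AMonS_hom S M
    haveI := isSchemeTheoreticallyDominant_whiskerLeft_of_flat (AMonS S M)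
      (AMonS.map S N.subtype ▷ Z)
    exact eq_of_comp_eq_of_dominant (AMonS S M ◁ (AMonS.map S N.subtype ▷ Z)) f₁ f₂ h
  let u : (attr a N).obj (op Z) :=
    ⟨φZ, isEquivariant_of_precomp_eq_orbit (AMonS.map S N.subtype) a φZ j hφZ hcancel2⟩
  have hu : (attrToX a N).app (op Z) u = j :=
    evalAt_eq_of_precomp_eq_orbit (AMonS.map S N.subtype) a φZ j hφZ
  obtain ⟨e, he⟩ := exists_representableBy (subAct S M N) a η[AMonS S N] j u hu
    (fun T => evalAt_injective (AMonS.map S N.subtype) a T (hcancel1 T))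
    (fun T φ => by
      have horb := precomp_eq_orbit (AMonS.map S N.subtype) a φ.1 φ.2
      have hk := kills N a T φ.1 _ horb
      obtain ⟨g, hg⟩ := hlift T.left _ hk
      refine ⟨Over.homMk g ?_, ?_⟩
      · change g ≫ j₀ ≫ X.hom = T.hom
        rw [← Category.assoc, hg, Over.w]
      · apply Over.OverMorphism.ext
        rw [Over.comp_left]
        exact hg)
  exact ⟨Z, j, e, hZaff, hclj, he⟩

end Local

end Groth.Agent.Helper2.MagnetLoc
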