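import Groth.Prelude.Def_Magnet3
import Groth.Agent.Lib.Helper2.Magnet.RepCover
import Groth.Agent.Lib.Helper2.Magnet.RepGeom2

/-!
# The attractor of a scheme affine over the base is a closed subscheme (helper2)

`main18295`: for `X` affine over an arbitrary base `S` with an action of `A(M)_S` and a submonoid
`N` of `M`, the attractor `X^N` is represented by a closed subscheme of `X`.  Glued over the affine
opens of `S` (helper5's `isRepresentable_of_openCover`) from the local case `main_local`.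
-/

set_option autoImplicit false
set_option synthInstance.maxHeartbeats 400000
set_option maxHeartbeats 4000000
set_option linter.style.haveILetI false
set_option linter.unusedSectionVars false
set_option linter.unusedVariables false
set_option linter.unusedSimpArgs false
set_option linter.unnecessarySimpa false

universe u
open CategoryTheory Limits MonoidalCategory CartesianMonoidalCategory MonObj AlgebraicGeometry Opposite
open Magnet Magnet.MonAct

namespace Groth.Agent.Helper2.MagnetGlue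

open Groth.Agent.Lib.Helper5.LocRepF Groth.Agent.Helper2.MagnetOpen Groth.Agent.Helper2.MagnetSheaf
  Groth.Agent.Helper2.MagnetCat Groth.Agent.Helper2.MagnetRepCover Groth.Agent.Helper2.MagnetLoc

theorem main18295 (S : Scheme.{u}) (M : Type) [AddCommMonoid M] (N : AddSubmonoid M) (X : Over S)
    [IsAffineHom X.hom] (a : MonAct (AMonS S M) X) :
    ∃ (Z : Over S) (i : Z ⟶ X) (e : (attr a N).RepresentableBy Z), IsClosedImmersion i.left ∧
      ∀ (T : Over S) (z : T ⟶ Z), (attrToX a N).app (op T) (e.homEquiv z) = z ≫ i := by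
  classical
  -- the stable affine opens
  have hUaff : ∀ V : S.affineOpens, IsAffineOpen (X.hom ⁻¹ᵁ V.1) := fun V => V.2.preimage X.hom
  have hstab : ∀ V : S.affineOpens,
      (snd (AMonS S M) X).left ⁻¹ᵁ (X.hom ⁻¹ᵁ V.1) ≤ a.act.left ⁻¹ᵁ (X.hom ⁻¹ᵁ V.1) := fun V => by
    have e1 : (snd (AMonS S M) X).left ⁻¹ᵁ (X.hom ⁻¹ᵁ V.1) = (AMonS S M ⊗ X).hom ⁻¹ᵁ V.1 := by
      rw [← Scheme.Hom.comp_preimage, Over.w]
    have e2 : a.act.left ⁻¹ᵁ (X.hom ⁻¹ᵁ V.1) = (AMonS S M ⊗ X).hom ⁻¹ᵁ V.1 := by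
      rw [← Scheme.Hom.comp_preimage, Over.w]
    rw [e1, e2]
  have hdata : ∀ V : S.affineOpens,
      ∃ (aU : MonAct (AMonS S M) (Over.mk ((X.hom ⁻¹ᵁ V.1).ι ≫ X.hom))) (W : Over S)
        (jW : W ⟶ Over.mk ((X.hom ⁻¹ᵁ V.1).ι ≫ X.hom)) (e : (attr aU N).RepresentableBy W),
        IsEquivariant aU a
          (Over.homMk (X.hom ⁻¹ᵁ V.1).ι rfl : Over.mk ((X.hom ⁻¹ᵁ V.1).ι ≫ X.hom) ⟶ X) ∧
        IsClosedImmersion jW.left ∧
        ∀ (T : Over S) (z : T ⟶ W), (attrToX aU N).app (op T) (e.homEquiv z) = z ≫ jW := by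
    intro V
    obtain ⟨aU, haU⟩ := exists_action_of_stable_open a (X.hom ⁻¹ᵁ V.1) (hstab V)
    haveI : IsAffine (Over.mk ((X.hom ⁻¹ᵁ V.1).ι ≫ X.hom)).left := hUaff V
    haveI : IsSeparated (Over.mk ((X.hom ⁻¹ᵁ V.1).ι ≫ X.hom)).hom := by
      change IsSeparated ((X.hom ⁻¹ᵁ V.1).ι ≫ X.hom)
      infer_instance
    haveI : IsAffine (V.1 : Scheme.{u}) := V.2
    have hrange : Set.range ((X.hom ⁻¹ᵁ V.1).ι ≫ X.hom) ⊆ Set.range V.1.ι := by
      rintro _ ⟨p, rfl⟩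
      rw [Scheme.Opens.range_ι, Scheme.Hom.comp_apply]
      have hp : (X.hom ⁻¹ᵁ V.1).ι p ∈ Set.range (X.hom ⁻¹ᵁ V.1).ι := ⟨p, rfl⟩
      rw [Scheme.Opens.range_ι] at hp
      exact hp
    obtain ⟨W, jW, e, -, hcl, he⟩ := main_local S M N (Over.mk ((X.hom ⁻¹ᵁ V.1).ι ≫ X.hom)) V.1.ι
      (IsOpenImmersion.lift V.1.ι ((X.hom ⁻¹ᵁ V.1).ι ≫ X.hom) hrange)
      (IsOpenImmersion.lift_fac _ _ _) aU
    exact ⟨aU, W, jW, e, haU, hcl, he⟩
  choose aU W jW e haU hcl he using hdata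
  -- notation
  let jU : ∀ V : S.affineOpens, Over.mk ((X.hom ⁻¹ᵁ V.1).ι ≫ X.hom) ⟶ X :=
    fun V => Over.homMk (X.hom ⁻¹ᵁ V.1).ι rfl
  have hjl : ∀ V, (jU V).left = (X.hom ⁻¹ᵁ V.1).ι := fun V => rfl
  have hopen : ∀ V, IsOpenImmersion (jU V).left := fun V => by rw [hjl]; infer_instance
  have hmono : ∀ V, Mono (jU V) := fun V => by
    haveI := hopen V
    haveI : Mono (jU V).left := inferInstance
    exact Over.mono_of_mono_left (jU V)
  have hrU : ∀ V, Set.range (jU V).left = ((X.hom ⁻¹ᵁ V.1 : X.left.Opens) : Set X.left) :=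
    fun V => by rw [hjl]; exact Scheme.Opens.range_ι _
  let ξ : ∀ V, (attr a N).obj (op (W V)) := fun V =>
    (eqvHom.postcomp (subAct S M N) (jU V) (haU V)).app (op (W V))
      ((e V).homEquiv (𝟙 (W V)))
  -- key identity
  have K : ∀ (V) (T : Over S) (a' : T ⟶ W V),
      (attr a N).map a'.op (ξ V) =
        (eqvHom.postcomp (subAct S M N) (jU V) (haU V)).app (op T) ((e V).homEquiv a') := by
    intro V T a'
    apply Subtype.ext
    have h1 : (e V).homEquiv a' =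
        (attr (aU V) N).map a'.op ((e V).homEquiv (𝟙 (W V))) := by
      rw [← (e V).homEquiv_comp, Category.comp_id]
    change (AMonS S N ◁ a') ≫ ((e V).homEquiv (𝟙 (W V))).1 ≫ jU V = ((e V).homEquiv a').1 ≫ jU V
    rw [h1, eqvHom_map_coe, Category.assoc]
    rfl
  -- the unit point
  let zp : ∀ {T : Over S} (b : (attr a N).obj (op T)), T ⟶ X :=
    fun {T} b => lift (toUnit T ≫ η[AMonS S N]) (𝟙 T) ≫ b.1
  have hzp : ∀ {T T' : Over S} (v : T' ⟶ T) (b : (attr a N).obj (op T)),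
      zp ((attr a N).map v.op b) = v ≫ zp b := by
    intro T T' v b
    change lift (toUnit T' ≫ η[AMonS S N]) (𝟙 T') ≫ (AMonS S N ◁ v) ≫ b.1 =
      v ≫ lift (toUnit T ≫ η[AMonS S N]) (𝟙 T) ≫ b.1
    rw [← Category.assoc, lift_unit_whiskerLeft, Category.assoc]
  -- lifting sections whose unit point lies in a stable open
  have hlift : ∀ (V : S.affineOpens) (T : Over S) (b : (attr a N).obj (op T)),
      (∀ p : T.left, (zp b).left p ∈ (X.hom ⁻¹ᵁ V.1 : X.left.Opens)) →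
      ∃ a' : T ⟶ W V, (attr a N).map a'.op (ξ V) = b := by
    intro V T b hp
    haveI := hopen V
    haveI := hmono V
    have hT : ∀ t : T.left, T.hom t ∈ V.1 := fun t => by
      have h1 := hp t
      have h2 : (zp b).left ≫ X.hom = T.hom := Over.w (zp b)
      rw [← h2, Scheme.Hom.comp_apply]
      exact h1
    have hrange : Set.range b.1.left ⊆ Set.range (jU V).left := by
      rintro _ ⟨q, rfl⟩
      rw [hrU]
      change X.hom (b.1.left q) ∈ V.1
      have h3 : b.1.left ≫ X.hom = (snd (AMonS S N) T).left ≫ T.hom := by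
        rw [Over.w b.1, Over.w (snd (AMonS S N) T)]
      rw [← Scheme.Hom.comp_apply, h3, Scheme.Hom.comp_apply]
      exact hT _
    let χ : AMonS S N ⊗ T ⟶ Over.mk ((X.hom ⁻¹ᵁ V.1).ι ≫ X.hom) :=
      Over.homMk (IsOpenImmersion.lift (jU V).left b.1.left hrange) (by
        rw [← Over.w (jU V), ← Category.assoc, IsOpenImmersion.lift_fac, Over.w])
    have hχ : χ ≫ jU V = b.1 := by
      apply Over.OverMorphism.ext
      rw [Over.comp_left]
      exact IsOpenImmersion.lift_fac _ _ _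
    have hχeq : IsEquivariant ((subAct S M N).prod (trivial (AMonS S M) T)) (aU V) χ :=
      isEquivariant_of_comp_mono (jU V) (haU V) χ b.1 hχ b.2
    refine ⟨(e V).homEquiv.symm ⟨χ, hχeq⟩, ?_⟩
    rw [K, Equiv.apply_symm_apply]
    exact Subtype.ext hχ
  -- apply the gluing theorem
  have hrep := isRepresentable_of_openCover (F := attr a N) W ξ
    (fun V T a₁ a₂ h => by
      have h' : (attr a N).map a₁.op (ξ V) = (attr a N).map a₂.op (ξ V) := h
      rw [K, K] at h'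
      have h'' : ((e V).homEquiv a₁).1 ≫ jU V = ((e V).homEquiv a₂).1 ≫ jU V :=
        congrArg Subtype.val h'
      haveI := hmono V
      have h3 : (e V).homEquiv a₁ = (e V).homEquiv a₂ := Subtype.ext ((cancel_mono (jU V)).1 h'')
      exact (e V).homEquiv.injective h3)
    (fun V T₀ t b => ((zp b).left ⁻¹ᵁ (X.hom ⁻¹ᵁ V.1) : T₀.Opens))
    (fun V T₀ t b T₁ φ₁ => by
      obtain ⟨b', hb'⟩ : ∃ b' : (attr a N).obj (op (Over.mk (φ₁ ≫ t))),
        b' = (attr a N).map (oHom φ₁ t).op b := ⟨_, rfl⟩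
      rw [← hb']
      have hzb : zp b' = oHom φ₁ t ≫ zp b := by rw [hb']; exact hzp _ _
      have hzbl : ∀ p, (zp b').left p = (zp b).left (φ₁ p) := by
        intro p
        rw [hzb, Over.comp_left, Scheme.Hom.comp_apply]
        rfl
      haveI := hopen V
      haveI := hmono V
      constructor
      · intro hr
        exact hlift V _ b' (fun p => by rw [hzbl]; exact hr ⟨p, rfl⟩)
      · rintro ⟨a', ha'⟩
        rw [K] at ha'
        have h1 : b'.1 = ((e V).homEquiv a').1 ≫ jU V := (congrArg Subtype.val ha').symm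
        rintro _ ⟨p, rfl⟩
        change (zp b).left (φ₁ p) ∈ ((X.hom ⁻¹ᵁ V.1 : X.left.Opens) : Set X.left)
        rw [← hzbl, ← hrU]
        have h2 : zp b' = (lift (toUnit _ ≫ η[AMonS S N]) (𝟙 _) ≫ ((e V).homEquiv a').1) ≫
            jU V := by
          change lift (toUnit _ ≫ η[AMonS S N]) (𝟙 _) ≫ b'.1 = _
          rw [h1, Category.assoc]
        rw [h2, Over.comp_left, Scheme.Hom.comp_apply]
        exact ⟨_, rfl⟩)
    (eqvHom_isZarSheaf (subAct S M N) a)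
    (fun T₀ t b x => by
      obtain ⟨V, hVaff, hxV, -⟩ :=
        exists_isAffineOpen_mem_and_subset (X := S) (x := t x) (U := ⊤) trivial
      refine ⟨⟨V, hVaff⟩, ?_⟩
      change X.hom ((zp b).left x) ∈ V
      have h2 : (zp b).left ≫ X.hom = t := Over.w (zp b)
      rw [← Scheme.Hom.comp_apply, h2]
      exact hxV)
  obtain ⟨Z, ⟨e₀⟩⟩ := hrep.has_representation
  obtain ⟨j, hjdef⟩ : ∃ j : Z ⟶ X, j = zp (e₀.homEquiv (𝟙 Z)) := ⟨_, rfl⟩
  have hcompat : ∀ (T : Over S) (z : T ⟶ Z), zp (e₀.homEquiv z) = z ≫ j := by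
    intro T z
    have h1 : e₀.homEquiv z = (attr a N).map z.op (e₀.homEquiv (𝟙 Z)) := by
      rw [← e₀.homEquiv_comp, Category.comp_id]
    rw [h1, hjdef]
    exact hzp z _
  refine ⟨Z, j, e₀, ?_, fun T z => hcompat T z⟩
  -- closed immersion, locally on the target
  have hsup : ⨆ V : S.affineOpens, X.hom ⁻¹ᵁ V.1 = ⊤ := by
    rw [← Scheme.Hom.preimage_iSup, iSup_affineOpens_eq_top, Scheme.Hom.preimage_top]
  refine IsZariskiLocalAtTarget.of_iSup_eq_top (P := @IsClosedImmersion)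
    (fun V : S.affineOpens => X.hom ⁻¹ᵁ V.1) hsup (fun V => ?_)
  haveI := hopen V
  haveI := hmono V
  haveI : Mono (jU V).left := inferInstance
  haveI : IsClosedImmersion (jW V).left := hcl V
  haveI : Mono (jW V).left := inferInstance
  obtain ⟨ζ, hζdef⟩ : ∃ ζ : W V ⟶ Z, ζ = e₀.homEquiv.symm (ξ V) := ⟨_, rfl⟩
  have hζ : e₀.homEquiv ζ = ξ V := by rw [hζdef]; exact Equiv.apply_symm_apply _ _
  have hζj : ζ ≫ j = jW V ≫ jU V := by
    rw [← hcompat, hζ]
    have h1 := he V (W V) (𝟙 (W V))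
    rw [Category.id_comp] at h1
    change lift (toUnit (W V) ≫ η[AMonS S N]) (𝟙 (W V)) ≫
      ((e V).homEquiv (𝟙 (W V))).1 ≫ jU V = jW V ≫ jU V
    rw [← Category.assoc]
    congr 1
  have hζjl : ζ.left ≫ j.left = (jW V).left ≫ (jU V).left := by
    rw [← Over.comp_left, ← Over.comp_left, hζj]
  have hζrange : Set.range ζ.left ⊆ Set.range (j.left ⁻¹ᵁ (X.hom ⁻¹ᵁ V.1)).ι := by
    rintro _ ⟨p, rfl⟩
    rw [Scheme.Opens.range_ι]
    change j.left (ζ.left p) ∈ (X.hom ⁻¹ᵁ V.1 : X.left.Opens)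
    rw [← Scheme.Hom.comp_apply, hζjl, Scheme.Hom.comp_apply]
    have h3 : (jU V).left ((jW V).left p) ∈ Set.range (jU V).left := ⟨_, rfl⟩
    rw [hrU] at h3
    exact h3
  obtain ⟨κ, hκ⟩ : ∃ κ : (W V).left ⟶ (j.left ⁻¹ᵁ (X.hom ⁻¹ᵁ V.1)).toScheme,
      κ ≫ (j.left ⁻¹ᵁ (X.hom ⁻¹ᵁ V.1)).ι = ζ.left :=
    ⟨IsOpenImmersion.lift _ ζ.left hζrange, IsOpenImmersion.lift_fac _ _ _⟩
  have hκj : κ ≫ (j.left ∣_ (X.hom ⁻¹ᵁ V.1)) = (jW V).left := by
    rw [← cancel_mono (X.hom ⁻¹ᵁ V.1).ι, Category.assoc, morphismRestrict_ι, reassoc_of% hκ, hζjl,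
      hjl]
  -- the inverse of `κ`
  obtain ⟨w, hwl⟩ : ∃ w : Over.mk ((j.left ⁻¹ᵁ (X.hom ⁻¹ᵁ V.1)).ι ≫ Z.hom) ⟶ Z,
      w.left = (j.left ⁻¹ᵁ (X.hom ⁻¹ᵁ V.1)).ι := ⟨Over.homMk _ rfl, rfl⟩
  have hw_ev : ∀ p : (Over.mk ((j.left ⁻¹ᵁ (X.hom ⁻¹ᵁ V.1)).ι ≫ Z.hom)).left,
      (zp (e₀.homEquiv w)).left p ∈ (X.hom ⁻¹ᵁ V.1 : X.left.Opens) := by
    intro p
    rw [hcompat, Over.comp_left, Scheme.Hom.comp_apply, hwl]
    have h3 : (j.left ⁻¹ᵁ (X.hom ⁻¹ᵁ V.1)).ι p ∈ Set.range (j.left ⁻¹ᵁ (X.hom ⁻¹ᵁ V.1)).ι :=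
      ⟨p, rfl⟩
    rw [Scheme.Opens.range_ι] at h3
    exact h3
  obtain ⟨a', ha'⟩ := hlift V _ (e₀.homEquiv w) hw_ev
  have haζ : a' ≫ ζ = w := by
    apply e₀.homEquiv.injective
    rw [e₀.homEquiv_comp, hζ, ha']
  have haζl : a'.left ≫ ζ.left = (j.left ⁻¹ᵁ (X.hom ⁻¹ᵁ V.1)).ι := by
    rw [← Over.comp_left, haζ, hwl]
  have h1 : a'.left ≫ κ = 𝟙 _ := by
    rw [← cancel_mono (j.left ⁻¹ᵁ (X.hom ⁻¹ᵁ V.1)).ι, Category.assoc, hκ, haζl, Category.id_comp]
  have h2 : κ ≫ a'.left = 𝟙 _ := by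
    rw [← cancel_mono (jW V).left, ← cancel_mono (jU V).left]
    simp only [Category.assoc, Category.id_comp]
    rw [← hζjl, reassoc_of% haζl, reassoc_of% hκ]
  haveI : IsIso κ := ⟨⟨a'.left, h2, h1⟩⟩
  have h5 : j.left ∣_ (X.hom ⁻¹ᵁ V.1) = inv κ ≫ (jW V).left := by
    rw [IsIso.eq_inv_comp]
    exact hκj
  rw [h5]
  infer_instance

end Groth.Agent.Helper2.MagnetGlue
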