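import Groth.Prelude.Def_Magnet
import Mathlib.CategoryTheory.Limits.Shapes.Pullback.IsPullback.Basic

/-!
# Descending equivariance along a change of monoid (helper2)
-/

set_option autoImplicit false
set_option synthInstance.maxHeartbeats 400000
set_option maxHeartbeats 4000000
set_option linter.style.haveILetI false
set_option linter.unusedSectionVars false
set_option linter.unusedVariables false
set_option linter.unusedSimpArgs false
set_option linter.unnecessarySimpa false

universe v₁ u₁
open CategoryTheory MonoidalCategory CartesianMonoidalCategory MonObj Opposite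
open Magnet Magnet.MonAct

namespace Groth.Agent.Helper2.MagnetCat

variable {C : Type u₁} [Category.{v₁} C] [CartesianMonoidalCategory C]

theorem isEquivariant_of_restrict {A' A B' B X : C} [MonObj A'] [MonObj A] [MonObj B'] [MonObj B]
    (ψf : A' ⟶ A) (ψN : A ⟶ B) (ψY : A' ⟶ B') (ψg : B' ⟶ B) [IsMonHom ψf] [IsMonHom ψN]
    [IsMonHom ψY] [IsMonHom ψg]
    (hsq : ψf ≫ ψN = ψY ≫ ψg) (s : B ⟶ B') (hs : s ≫ ψg = 𝟙 B)
    (a : MonAct A X) {T : C} (φ : B ⊗ T ⟶ X)
    (hχ : IsEquivariant (((regular B').restrict ψY).prod (trivial A' T)) (a.restrict ψf)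
      ((ψg ▷ T) ≫ φ))
    (hcancel : ∀ u v : A ⊗ (B ⊗ T) ⟶ X,
      (ψf ▷ (B ⊗ T)) ≫ u = (ψf ▷ (B ⊗ T)) ≫ v → u = v) :
    IsEquivariant (((regular B).restrict ψN).prod (trivial A T)) a φ := by
  unfold IsEquivariant
  apply hcancel
  apply hom_ext_lift₂
  intro T' z w
  rw [← lift_comp_fst_snd w]
  generalize w ≫ fst B T = b
  generalize w ≫ snd B T = t
  rw [mem_eqvHom_iff] at hχ
  have h := hχ T' z (b ≫ s) t
  rw [lift_restrict_act, lift_regular_act, lift_restrict_act, lift_whiskerRight_assoc,
    lift_whiskerRight_assoc, Category.assoc, hs, Category.comp_id] at h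
  rw [lift_whiskerRight_assoc, lift_whiskerRight_assoc, lift_prod_act_assoc, lift_trivial_act,
    lift_restrict_act, lift_regular_act, lift_whiskerLeft_assoc, ← h]
  congr 2
  rw [MonObj.mul_comp]
  simp only [Category.assoc, hs, Category.comp_id, hsq]

end Groth.Agent.Helper2.MagnetCat
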