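import Mathlib

/-!
# Character algebra for change of monoid (helper2)

`exists_monoidHom_of_surjective`: a monoid hom constant on the fibres of a surjective monoid hom
descends.  `exists_char_section`, `exists_char_ratio`: the two character computations behind the
bijectivity of the change-of-monoid map of attractors.
-/

set_option autoImplicit false
set_option synthInstance.maxHeartbeats 400000
set_option maxHeartbeats 4000000
set_option linter.style.haveILetI false
set_option linter.unusedSectionVars false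
set_option linter.unusedVariables false
set_option linter.unusedSimpArgs false
set_option linter.unnecessarySimpa false

namespace Groth.Agent.Helper2.CharAlg

theorem exists_monoidHom_of_surjective {P P' R : Type*} [CommMonoid P] [CommMonoid P']
    [CommMonoid R] (q : P →* P') (hq : Function.Surjective q) (e : P →* R)
    (he : ∀ a b, q a = q b → e a = e b) :
    ∃ e' : P' →* R, ∀ a, e' (q a) = e a := by
  classical
  choose sec hsec using hq
  have key : ∀ a, e (sec (q a)) = e a := fun a => he _ _ (hsec (q a))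
  refine ⟨{ toFun := fun p' => e (sec p'), map_one' := ?_, map_mul' := ?_ }, key⟩
  · have h1 := key 1
    rw [map_one q, map_one e] at h1
    exact h1
  · intro x y
    have h1 : q (sec (x * y)) = q (sec x * sec y) := by rw [hsec, map_mul, hsec, hsec]
    rw [he _ _ h1, map_mul]

theorem exists_char_section {M Z : Type} [AddCommGroup M] [AddCommGroup Z] (f : M →+ Z)
    (Y : AddSubmonoid Z) (hY : ∀ y ∈ Y, ∃ m, f m = y) {R : Type*} [CommMonoid R]
    (x : Multiplicative ↥(Y.comap f) →* R) (cg : Multiplicative M →* R)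
    (hx : ∀ n : ↥(Y.comap f), f n.1 = 0 →
      x (Multiplicative.ofAdd n) = cg (Multiplicative.ofAdd n.1)) :
    ∃ d : Multiplicative ↥Y →* R, ∀ n : ↥(Y.comap f),
      x (Multiplicative.ofAdd n) =
        cg (Multiplicative.ofAdd n.1) * d (Multiplicative.ofAdd (⟨f n.1, n.2⟩ : ↥Y)) := by
  obtain ⟨g₀, hg₀⟩ : ∃ g₀ : ↥(Y.comap f) →+ ↥Y, ∀ n, g₀ n = ⟨f n.1, n.2⟩ :=
    ⟨(f.comp (Y.comap f).subtype).codRestrict Y (fun n => n.2), fun n => rfl⟩
  have hinv : ∀ m : Multiplicative M, cg m * cg m⁻¹ = 1 := by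
    intro m
    rw [← map_mul, mul_inv_cancel, map_one]
  obtain ⟨e, he⟩ : ∃ e : Multiplicative ↥(Y.comap f) →* R, ∀ n : ↥(Y.comap f),
      e (Multiplicative.ofAdd n) =
        x (Multiplicative.ofAdd n) * cg (Multiplicative.ofAdd n.1)⁻¹ :=
    ⟨x * (cg.comp invMonoidHom).comp (AddMonoidHom.toMultiplicative (Y.comap f).subtype),
      fun n => rfl⟩
  have hsurj : Function.Surjective (AddMonoidHom.toMultiplicative g₀) := by
    intro y
    obtain ⟨m, hm⟩ := hY (Multiplicative.toAdd y).1 (Multiplicative.toAdd y).2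
    have hmN : m ∈ Y.comap f := by
      show f m ∈ Y
      rw [hm]
      exact (Multiplicative.toAdd y).2
    refine ⟨Multiplicative.ofAdd ⟨m, hmN⟩, ?_⟩
    change Multiplicative.ofAdd (g₀ ⟨m, hmN⟩) = y
    rw [hg₀]
    exact congrArg Multiplicative.ofAdd (Subtype.ext hm)
  have hker : ∀ a b : Multiplicative ↥(Y.comap f),
      AddMonoidHom.toMultiplicative g₀ a = AddMonoidHom.toMultiplicative g₀ b → e a = e b := by
    intro a b hab
    obtain ⟨a', ha⟩ : ∃ a' : ↥(Y.comap f), Multiplicative.ofAdd a' = a :=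
      ⟨Multiplicative.toAdd a, rfl⟩
    obtain ⟨b', hb⟩ : ∃ b' : ↥(Y.comap f), Multiplicative.ofAdd b' = b :=
      ⟨Multiplicative.toAdd b, rfl⟩
    rw [← ha, ← hb] at hab ⊢
    have h1 : f a'.1 = f b'.1 := by
      have h2 : g₀ a' = g₀ b' := congrArg Multiplicative.toAdd hab
      rw [hg₀, hg₀] at h2
      exact congrArg Subtype.val h2
    have hz0 : f (a'.1 - b'.1) = 0 := by rw [map_sub, h1, sub_self]
    have hzN : a'.1 - b'.1 ∈ Y.comap f := by
      show f (a'.1 - b'.1) ∈ Y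
      rw [hz0]
      exact Y.zero_mem
    have hab' : a' = b' + ⟨a'.1 - b'.1, hzN⟩ := Subtype.ext (by
      show a'.1 = b'.1 + (a'.1 - b'.1)
      abel)
    have hez : e (Multiplicative.ofAdd (⟨a'.1 - b'.1, hzN⟩ : ↥(Y.comap f))) = 1 := by
      rw [he, hx _ hz0]
      exact hinv _
    calc e (Multiplicative.ofAdd a')
        = e (Multiplicative.ofAdd (b' + ⟨a'.1 - b'.1, hzN⟩)) :=
          congrArg (fun t => e (Multiplicative.ofAdd t)) hab'
      _ = e (Multiplicative.ofAdd b') *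
          e (Multiplicative.ofAdd (⟨a'.1 - b'.1, hzN⟩ : ↥(Y.comap f))) := by
          rw [ofAdd_add, map_mul]
      _ = e (Multiplicative.ofAdd b') := by rw [hez, mul_one]
  obtain ⟨d, hd⟩ := exists_monoidHom_of_surjective (AddMonoidHom.toMultiplicative g₀) hsurj e hker
  refine ⟨d, fun n => ?_⟩
  have h3 := hd (Multiplicative.ofAdd n)
  change d (Multiplicative.ofAdd (g₀ n)) = _ at h3
  rw [hg₀] at h3
  rw [h3, he, mul_left_comm, hinv, mul_one]

theorem exists_char_ratio {M Z : Type} [AddCommGroup M] [AddCommGroup Z] (f : M →+ Z)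
    (Y Z₁ : AddSubmonoid Z) (hY : ∀ y ∈ Y, ∃ m, f m = y) (hr : ∀ m, f m ∈ Z₁)
    (hr' : ∀ z ∈ Z₁, ∃ m, f m = z) (hYZ : ∀ y ∈ Y, y ∈ Z₁) {R : Type*} [CommMonoid R]
    (c₁ c₂ : Multiplicative M →* R) (d₁ d₂ : Multiplicative ↥Y →* R)
    (h : ∀ n : ↥(Y.comap f),
      c₁ (Multiplicative.ofAdd n.1) * d₁ (Multiplicative.ofAdd (⟨f n.1, n.2⟩ : ↥Y)) =
        c₂ (Multiplicative.ofAdd n.1) * d₂ (Multiplicative.ofAdd (⟨f n.1, n.2⟩ : ↥Y))) :
    ∃ hb : Multiplicative ↥Z₁ →* R,
      (∀ m : M, c₂ (Multiplicative.ofAdd m) =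
        c₁ (Multiplicative.ofAdd m) * hb (Multiplicative.ofAdd (⟨f m, hr m⟩ : ↥Z₁))) ∧
      (∀ y : ↥Y, d₁ (Multiplicative.ofAdd y) =
        hb (Multiplicative.ofAdd (⟨y.1, hYZ y.1 y.2⟩ : ↥Z₁)) * d₂ (Multiplicative.ofAdd y)) := by
  have hinv : ∀ m : Multiplicative M, c₁ m * c₁ m⁻¹ = 1 := by
    intro m
    rw [← map_mul, mul_inv_cancel, map_one]
  obtain ⟨fr, hfr⟩ : ∃ fr : M →+ ↥Z₁, ∀ m, fr m = ⟨f m, hr m⟩ :=
    ⟨f.codRestrict Z₁ hr, fun m => rfl⟩
  obtain ⟨e, he⟩ : ∃ e : Multiplicative M →* R, ∀ m, e m = c₂ m * c₁ m⁻¹ :=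
    ⟨c₂ * c₁.comp invMonoidHom, fun m => rfl⟩
  have hsurj : Function.Surjective (AddMonoidHom.toMultiplicative fr) := by
    intro z
    obtain ⟨m, hm⟩ := hr' (Multiplicative.toAdd z).1 (Multiplicative.toAdd z).2
    refine ⟨Multiplicative.ofAdd m, ?_⟩
    change Multiplicative.ofAdd (fr m) = z
    rw [hfr]
    exact congrArg Multiplicative.ofAdd (Subtype.ext hm)
  have hc : ∀ z : M, f z = 0 → c₁ (Multiplicative.ofAdd z) = c₂ (Multiplicative.ofAdd z) := by
    intro z hz
    have hzN : z ∈ Y.comap f := by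
      show f z ∈ Y
      rw [hz]
      exact Y.zero_mem
    have h1 := h ⟨z, hzN⟩
    have h0 : (⟨f z, hzN⟩ : ↥Y) = 0 := Subtype.ext hz
    change c₁ (Multiplicative.ofAdd z) * d₁ (Multiplicative.ofAdd (⟨f z, hzN⟩ : ↥Y)) =
      c₂ (Multiplicative.ofAdd z) * d₂ (Multiplicative.ofAdd (⟨f z, hzN⟩ : ↥Y)) at h1
    rw [h0, ofAdd_zero, map_one, map_one, mul_one, mul_one] at h1
    exact h1
  have hker : ∀ a b : Multiplicative M,
      AddMonoidHom.toMultiplicative fr a = AddMonoidHom.toMultiplicative fr b → e a = e b := by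
    intro a b hab
    obtain ⟨a', ha⟩ : ∃ a' : M, Multiplicative.ofAdd a' = a := ⟨Multiplicative.toAdd a, rfl⟩
    obtain ⟨b', hb'⟩ : ∃ b' : M, Multiplicative.ofAdd b' = b := ⟨Multiplicative.toAdd b, rfl⟩
    rw [← ha, ← hb'] at hab ⊢
    have h1 : f a' = f b' := by
      have h2 : fr a' = fr b' := congrArg Multiplicative.toAdd hab
      rw [hfr, hfr] at h2
      exact congrArg Subtype.val h2
    have hz0 : f (a' - b') = 0 := by rw [map_sub, h1, sub_self]
    have hez : e (Multiplicative.ofAdd (a' - b')) = 1 := by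
      rw [he, ← hc _ hz0]
      exact hinv _
    have hab' : a' = b' + (a' - b') := by abel
    calc e (Multiplicative.ofAdd a')
        = e (Multiplicative.ofAdd (b' + (a' - b'))) :=
          congrArg (fun t => e (Multiplicative.ofAdd t)) hab'
      _ = e (Multiplicative.ofAdd b') * e (Multiplicative.ofAdd (a' - b')) := by
          rw [ofAdd_add, map_mul]
      _ = e (Multiplicative.ofAdd b') := by rw [hez, mul_one]
  obtain ⟨hb, hhb⟩ := exists_monoidHom_of_surjective (AddMonoidHom.toMultiplicative fr) hsurj e hker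
  have key : ∀ m : M, hb (Multiplicative.ofAdd (⟨f m, hr m⟩ : ↥Z₁)) = e (Multiplicative.ofAdd m) := by
    intro m
    have h3 := hhb (Multiplicative.ofAdd m)
    change hb (Multiplicative.ofAdd (fr m)) = _ at h3
    rw [hfr] at h3
    exact h3
  refine ⟨hb, fun m => ?_, fun y => ?_⟩
  · rw [key, he, mul_left_comm, hinv, mul_one]
  · obtain ⟨m, hm⟩ := hY y.1 y.2
    have hmN : m ∈ Y.comap f := by
      show f m ∈ Y
      rw [hm]
      exact y.2
    have h1 := h ⟨m, hmN⟩
    have hy : (⟨f m, hmN⟩ : ↥Y) = y := Subtype.ext hm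
    change c₁ (Multiplicative.ofAdd m) * d₁ (Multiplicative.ofAdd (⟨f m, hmN⟩ : ↥Y)) =
      c₂ (Multiplicative.ofAdd m) * d₂ (Multiplicative.ofAdd (⟨f m, hmN⟩ : ↥Y)) at h1
    rw [hy] at h1
    have hz : (⟨y.1, hYZ y.1 y.2⟩ : ↥Z₁) = ⟨f m, hr m⟩ := Subtype.ext hm.symm
    rw [hz, key, he]
    calc d₁ (Multiplicative.ofAdd y)
        = (c₁ (Multiplicative.ofAdd m)⁻¹ * c₁ (Multiplicative.ofAdd m)) *
            d₁ (Multiplicative.ofAdd y) := by
          rw [mul_comm (c₁ (Multiplicative.ofAdd m)⁻¹), hinv, one_mul]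
      _ = c₁ (Multiplicative.ofAdd m)⁻¹ *
            (c₁ (Multiplicative.ofAdd m) * d₁ (Multiplicative.ofAdd y)) := mul_assoc _ _ _
      _ = c₁ (Multiplicative.ofAdd m)⁻¹ *
            (c₂ (Multiplicative.ofAdd m) * d₂ (Multiplicative.ofAdd y)) := by rw [h1]
      _ = c₂ (Multiplicative.ofAdd m) * c₁ (Multiplicative.ofAdd m)⁻¹ *
            d₂ (Multiplicative.ofAdd y) := by
          rw [← mul_assoc, mul_comm (c₁ (Multiplicative.ofAdd m)⁻¹)]

end Groth.Agent.Helper2.CharAlg
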