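import Mathlib

/-!
# Descent of ideals along a flat ring map (helper2)

`ideal_descent`: for a flat `A`-algebra `B` and an ideal `J` of `B` whose two extensions to
`B ⊗[A] B` satisfy `J ⊗ B ⊆ B ⊗ J`, the ideal `J` is generated by its contraction to `A`.
-/

set_option autoImplicit false
set_option synthInstance.maxHeartbeats 400000
set_option maxHeartbeats 4000000
set_option linter.style.haveILetI false
set_option linter.unusedSectionVars false
set_option linter.unusedVariables false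
set_option linter.unusedSimpArgs false
set_option linter.unnecessarySimpa false

universe u
open TensorProduct

namespace Groth.Agent.Helper2.DescIdeal

theorem ideal_descent {A B : Type u} [CommRing A] [CommRing B] [Algebra A B] [Module.Flat A B]
    (J : Ideal B)
    (h : ∀ b ∈ J, (b ⊗ₜ[A] (1 : B)) ∈
      Ideal.map (Algebra.TensorProduct.includeRight : B →ₐ[A] B ⊗[A] B) J) :
    J ≤ Ideal.map (algebraMap A B) (Ideal.comap (algebraMap A B) J) := by
  intro b hb
  obtain ⟨I, hI⟩ : ∃ I : Ideal A, I = Ideal.comap (algebraMap A B) J := ⟨_, rfl⟩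
  rw [← hI]
  -- the map killing `1 ⊗ J`
  let θ : B ⊗[A] B →ₐ[A] B ⊗[A] (B ⧸ J) :=
    Algebra.TensorProduct.map (AlgHom.id A B) (Ideal.Quotient.mkₐ A J)
  have hθ : Ideal.map (Algebra.TensorProduct.includeRight : B →ₐ[A] B ⊗[A] B) J ≤
      RingHom.ker θ.toRingHom := by
    rw [Ideal.map_le_iff_le_comap]
    intro j hj
    rw [Ideal.mem_comap, RingHom.mem_ker]
    change θ ((1 : B) ⊗ₜ[A] j) = 0
    have e1 : θ ((1 : B) ⊗ₜ[A] j) = (AlgHom.id A B) 1 ⊗ₜ[A] (Ideal.Quotient.mkₐ A J) j :=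
      Algebra.TensorProduct.map_tmul _ _ _ _
    have e2 : (Ideal.Quotient.mkₐ A J) j = 0 := Ideal.Quotient.eq_zero_iff_mem.mpr hj
    rw [e1, e2, TensorProduct.tmul_zero]
  have h0 : θ (b ⊗ₜ[A] (1 : B)) = 0 := by
    have h1 := hθ (h b hb)
    rw [RingHom.mem_ker] at h1
    exact h1
  have h0' : θ (b ⊗ₜ[A] (1 : B)) = b ⊗ₜ[A] (1 : B ⧸ J) := by
    have e1 : θ (b ⊗ₜ[A] (1 : B)) = (AlgHom.id A B) b ⊗ₜ[A] (Ideal.Quotient.mkₐ A J) 1 :=
      Algebra.TensorProduct.map_tmul _ _ _ _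
    rw [e1, map_one]
    rfl
  -- the injection `A ⧸ I → B ⧸ J`
  let g : A →ₗ[A] B ⧸ J := (Ideal.Quotient.mkₐ A J).toLinearMap ∘ₗ (Algebra.linearMap A B)
  have hg : ∀ a, g a = Ideal.Quotient.mk J (algebraMap A B a) := fun a => rfl
  have hker : LinearMap.ker g = I := by
    ext a
    rw [LinearMap.mem_ker, hg, Ideal.Quotient.eq_zero_iff_mem, hI]
    rfl
  let σ : A ⧸ I →ₗ[A] B ⧸ J := Submodule.liftQ I g (le_of_eq hker.symm)
  have hσinj : Function.Injective σ := by
    rw [← LinearMap.ker_eq_bot]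
    exact Submodule.ker_liftQ_eq_bot _ _ _ (le_of_eq hker)
  have hσ1 : σ (Ideal.Quotient.mk I (1 : A)) = (1 : B ⧸ J) := by
    change g 1 = 1
    rw [hg, map_one, map_one]
  have hinj := Module.Flat.lTensor_preserves_injective_linearMap (M := B) σ hσinj
  have h2 : (b ⊗ₜ[A] (Ideal.Quotient.mk I (1 : A)) : B ⊗[A] (A ⧸ I)) = 0 := by
    apply hinj
    rw [map_zero, LinearMap.lTensor_tmul, hσ1]
    exact h0'.symm.trans h0
  have h3 := congrArg (TensorProduct.tensorQuotEquivQuotSMul B I) h2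
  rw [TensorProduct.tensorQuotEquivQuotSMul_tmul_mk, map_zero, one_smul,
    Submodule.Quotient.mk_eq_zero, Ideal.smul_top_eq_map] at h3
  exact h3

end Groth.Agent.Helper2.DescIdeal
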