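import Mathlib
import Groth.Agent.Lib.Helper5.LocRepF.Main
import Groth.Agent.Lib.Helper2.Magnet.DescIdeal

/-!
# Descent of closed subfunctors along étale surjections (helper2)

`closed_descent`: let `f₀ : U₀ ⟶ X₀` be étale and surjective and `P` a subfunctor of the functor
of points of `X₀` (a predicate on morphisms `T ⟶ X₀` stable under precomposition) which is local
for the Zariski topology and for flat surjective quasi-compact covers.  If the pullback of `P` to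
`U₀` is represented by a closed subscheme of `U₀`, then `P` is represented by a closed subscheme
of `X₀`.
-/

set_option autoImplicit false
set_option synthInstance.maxHeartbeats 400000
set_option maxHeartbeats 4000000
set_option linter.style.haveILetI false
set_option linter.unusedSectionVars false
set_option linter.unusedVariables false
set_option linter.unusedSimpArgs false
set_option linter.unnecessarySimpa false

universe u
open CategoryTheory Limits AlgebraicGeometry Opposite TensorProduct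

namespace Groth.Agent.Helper2.ClosedDesc

open Groth.Agent.Lib.Helper5.LocRepF Groth.Agent.Helper2.DescIdeal

/-! ### Morphisms to an affine spectrum -/

section Sharp

variable {T T' : Scheme.{u}} {R R' : CommRingCat.{u}}

/-- the ring map attached to a morphism to a spectrum -/
noncomputable def sharp (x : T ⟶ Spec R) : R ⟶ Γ(T, ⊤) := (Scheme.ΓSpecIso R).inv ≫ x.appTop

theorem sharp_comp (t : T' ⟶ T) (x : T ⟶ Spec R) : sharp (t ≫ x) = sharp x ≫ t.appTop := by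
  unfold sharp
  rw [Scheme.Hom.comp_appTop, Category.assoc]

theorem sharp_SpecMap (ψ : R ⟶ R') : sharp (Spec.map ψ) = ψ ≫ (Scheme.ΓSpecIso R').inv := by
  unfold sharp
  exact (Scheme.ΓSpecIso_inv_naturality ψ).symm

theorem sharp_comp_SpecMap (v : T ⟶ Spec R') (ψ : R ⟶ R') :
    sharp (v ≫ Spec.map ψ) = ψ ≫ sharp v := by
  rw [sharp_comp, sharp_SpecMap, Category.assoc]
  rfl

theorem eq_toSpecΓ_comp (x : T ⟶ Spec R) : x = T.toSpecΓ ≫ Spec.map (sharp x) := by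
  unfold sharp
  rw [Spec.map_comp, ← Scheme.toSpecΓ_naturality_assoc, toSpecΓ_SpecMap_ΓSpecIso_inv,
    Category.comp_id]

theorem ΓSpecIso_inv_injective (R : CommRingCat.{u}) :
    Function.Injective (Scheme.ΓSpecIso R).inv.hom := by
  intro a b hab
  have h1 := congrArg (Scheme.ΓSpecIso R).hom.hom hab
  have h2 : ∀ z, (Scheme.ΓSpecIso R).hom.hom ((Scheme.ΓSpecIso R).inv.hom z) = z := fun z => by
    rw [← RingHom.comp_apply, ← CommRingCat.hom_comp, Iso.inv_hom_id]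
    rfl
  rwa [h2, h2] at h1

theorem fac_iff (I : Ideal R) (x : T ⟶ Spec R) :
    (∃ w : T ⟶ Spec (CommRingCat.of (R ⧸ I)),
      w ≫ Spec.map (CommRingCat.ofHom (Ideal.Quotient.mk I)) = x) ↔
      ∀ r ∈ I, (sharp x).hom r = 0 := by
  constructor
  · rintro ⟨w, rfl⟩ r hr
    rw [sharp_comp_SpecMap]
    change (sharp w).hom (Ideal.Quotient.mk I r) = 0
    rw [Ideal.Quotient.eq_zero_iff_mem.mpr hr, map_zero]
  · intro h
    let ψ : CommRingCat.of (R ⧸ I) ⟶ Γ(T, ⊤) :=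
      CommRingCat.ofHom (Ideal.Quotient.lift I (sharp x).hom h)
    have hψ : CommRingCat.ofHom (Ideal.Quotient.mk I) ≫ ψ = sharp x := by
      apply CommRingCat.hom_ext
      apply RingHom.ext
      intro r
      change Ideal.Quotient.lift I (sharp x).hom h (Ideal.Quotient.mk I r) = (sharp x).hom r
      exact Ideal.Quotient.lift_mk I _ h
    refine ⟨T.toSpecΓ ≫ Spec.map ψ, ?_⟩
    calc (T.toSpecΓ ≫ Spec.map ψ) ≫ Spec.map (CommRingCat.ofHom (Ideal.Quotient.mk I))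
        = T.toSpecΓ ≫ Spec.map (CommRingCat.ofHom (Ideal.Quotient.mk I) ≫ ψ) := by
          rw [Category.assoc, Spec.map_comp]
      _ = T.toSpecΓ ≫ Spec.map (sharp x) := by rw [hψ]
      _ = x := (eq_toSpecΓ_comp x).symm

theorem exists_ideal_of_isClosedImmersion {W₁ : Scheme.{u}} {B : CommRingCat.{u}}
    (i₁ : W₁ ⟶ Spec B) [IsClosedImmersion i₁] :
    ∃ J : Ideal B, ∀ (T : Scheme.{u}) (v : T ⟶ Spec B),
      (∃ w : T ⟶ W₁, w ≫ i₁ = v) ↔ ∀ b ∈ J, (sharp v).hom b = 0 := by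
  obtain ⟨haff, hsurj⟩ := IsClosedImmersion.isAffine_surjective_of_isAffine i₁
  haveI := haff
  obtain ⟨ψ, hψdef⟩ : ∃ ψ : B ⟶ Γ(W₁, ⊤), ψ = sharp i₁ := ⟨_, rfl⟩
  have hψs : Function.Surjective ψ.hom := by
    intro c
    obtain ⟨b', hb'⟩ := hsurj c
    refine ⟨(Scheme.ΓSpecIso B).hom.hom b', ?_⟩
    rw [hψdef]
    change i₁.appTop.hom ((Scheme.ΓSpecIso B).inv.hom ((Scheme.ΓSpecIso B).hom.hom b')) = c
    have h2 : (Scheme.ΓSpecIso B).inv.hom ((Scheme.ΓSpecIso B).hom.hom b') = b' := by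
      rw [← RingHom.comp_apply, ← CommRingCat.hom_comp, Iso.hom_inv_id]
      rfl
    rw [h2]
    exact hb'
  have hi : i₁ = W₁.isoSpec.hom ≫ Spec.map ψ := by
    rw [Scheme.isoSpec_hom, hψdef]
    exact eq_toSpecΓ_comp i₁
  refine ⟨RingHom.ker ψ.hom, fun T v => ⟨?_, ?_⟩⟩
  · rintro ⟨w, rfl⟩ b hb
    rw [sharp_comp, ← hψdef]
    change w.appTop.hom (ψ.hom b) = 0
    rw [(RingHom.mem_ker).1 hb, map_zero]
  · intro h
    let g : {g : B →+* Γ(T, ⊤) // RingHom.ker ψ.hom ≤ RingHom.ker g} :=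
      ⟨(sharp v).hom, fun b hb => (RingHom.mem_ker).2 (h b hb)⟩
    let χ : Γ(W₁, ⊤) ⟶ Γ(T, ⊤) := CommRingCat.ofHom
      (ψ.hom.liftOfRightInverse (Function.surjInv hψs) (Function.rightInverse_surjInv hψs) g)
    have hχ : ψ ≫ χ = sharp v := by
      apply CommRingCat.hom_ext
      exact RingHom.liftOfRightInverse_comp ψ.hom _ _ g
    refine ⟨T.toSpecΓ ≫ Spec.map χ ≫ W₁.isoSpec.inv, ?_⟩
    calc (T.toSpecΓ ≫ Spec.map χ ≫ W₁.isoSpec.inv) ≫ i₁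
        = (T.toSpecΓ ≫ Spec.map χ ≫ W₁.isoSpec.inv) ≫ W₁.isoSpec.hom ≫ Spec.map ψ :=
          congrArg (fun m => (T.toSpecΓ ≫ Spec.map χ ≫ W₁.isoSpec.inv) ≫ m) hi
      _ = T.toSpecΓ ≫ Spec.map (ψ ≫ χ) := by
          rw [Spec.map_comp]
          simp only [Category.assoc, Iso.inv_hom_id_assoc]
      _ = T.toSpecΓ ≫ Spec.map (sharp v) := by rw [hχ]
      _ = v := (eq_toSpecΓ_comp v).symm

end Sharp

/-! ### Descent of morphisms along covers -/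

theorem desc_of_cover {T' T W V : Scheme.{u}} (p : T' ⟶ T) [Flat p] [Surjective p]
    [QuasiCompact p] (j : W ⟶ V) [Mono j] (x : T ⟶ V) (w' : T' ⟶ W) (hw' : w' ≫ j = p ≫ x) :
    ∃ w : T ⟶ W, w ≫ j = x := by
  have hrel : ∀ {Z : Scheme.{u}} (g₁ g₂ : Z ⟶ T'), g₁ ≫ p = g₂ ≫ p → g₁ ≫ w' = g₂ ≫ w' := by
    intro Z g₁ g₂ hg
    rw [← cancel_mono j, Category.assoc, Category.assoc, hw', ← Category.assoc, hg,
      Category.assoc]
  refine ⟨EffectiveEpi.desc p w' hrel, ?_⟩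
  rw [← cancel_epi p, ← Category.assoc, EffectiveEpi.fac, hw']

/-! ### The local statement over an affine chart -/

theorem spec_local {A B : CommRingCat.{u}} (φ : A ⟶ B) [Flat (Spec.map φ)]
    [Surjective (Spec.map φ)]
    (P : ∀ T : Scheme.{u}, (T ⟶ Spec A) → Prop)
    (hcomp : ∀ {T T' : Scheme.{u}} (t : T' ⟶ T) (x : T ⟶ Spec A), P T x → P T' (t ≫ x))
    (hloc : ∀ {T T' : Scheme.{u}} (p : T' ⟶ T) [Flat p] [Surjective p] [QuasiCompact p]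
      (x : T ⟶ Spec A), P T' (p ≫ x) → P T x)
    (J : Ideal B)
    (HJ : ∀ (T : Scheme.{u}) (v : T ⟶ Spec B),
      P T (v ≫ Spec.map φ) ↔ ∀ b ∈ J, (sharp v).hom b = 0) :
    ∃ I : Ideal A, ∀ (T : Scheme.{u}) (x : T ⟶ Spec A),
      P T x ↔ ∃ w : T ⟶ Spec (CommRingCat.of (A ⧸ I)),
        w ≫ Spec.map (CommRingCat.ofHom (Ideal.Quotient.mk I)) = x := by
  letI : Algebra A B := φ.hom.toAlgebra
  haveI hflat : Module.Flat A B := Flat.SpecMap_iff.mp inferInstance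
  -- the ring `(B ⊗ B) / (1 ⊗ J)`
  let ι₁ : B →ₐ[A] B ⊗[A] B := Algebra.TensorProduct.includeLeft
  let ι₂ : B →ₐ[A] B ⊗[A] B := Algebra.TensorProduct.includeRight
  obtain ⟨J₂, hJ₂⟩ : ∃ J₂ : Ideal (B ⊗[A] B), J₂ = Ideal.map ι₂ J := ⟨_, rfl⟩
  let k₁ : B ⟶ CommRingCat.of ((B ⊗[A] B) ⧸ J₂) :=
    CommRingCat.ofHom ((Ideal.Quotient.mk J₂).comp ι₁.toRingHom)
  let k₂ : B ⟶ CommRingCat.of ((B ⊗[A] B) ⧸ J₂) :=
    CommRingCat.ofHom ((Ideal.Quotient.mk J₂).comp ι₂.toRingHom)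
  have hk : φ ≫ k₁ = φ ≫ k₂ := by
    apply CommRingCat.hom_ext
    apply RingHom.ext
    intro a
    change Ideal.Quotient.mk J₂ (ι₁ (φ.hom a)) = Ideal.Quotient.mk J₂ (ι₂ (φ.hom a))
    have e1 : ι₁ (φ.hom a) = algebraMap A (B ⊗[A] B) a := ι₁.commutes a
    have e2 : ι₂ (φ.hom a) = algebraMap A (B ⊗[A] B) a := ι₂.commutes a
    rw [e1, e2]
  have hv2 : ∀ b ∈ J, (sharp (Spec.map k₂)).hom b = 0 := by
    intro b hb
    rw [sharp_SpecMap]
    change (Scheme.ΓSpecIso (CommRingCat.of ((B ⊗[A] B) ⧸ J₂))).inv.hom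
      (Ideal.Quotient.mk J₂ (ι₂ b)) = 0
    have h0 : Ideal.Quotient.mk J₂ (ι₂ b) = 0 :=
      Ideal.Quotient.eq_zero_iff_mem.mpr (by rw [hJ₂]; exact Ideal.mem_map_of_mem ι₂ hb)
    rw [h0, map_zero]
  have hP2 : P _ (Spec.map k₂ ≫ Spec.map φ) := (HJ _ (Spec.map k₂)).2 hv2
  have hP1 : P _ (Spec.map k₁ ≫ Spec.map φ) := by
    have e : Spec.map k₁ ≫ Spec.map φ = Spec.map k₂ ≫ Spec.map φ := by
      rw [← Spec.map_comp, ← Spec.map_comp, hk]
    rw [e]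
    exact hP2
  have hv1 := (HJ _ (Spec.map k₁)).1 hP1
  have hdesc : ∀ b ∈ J, (b ⊗ₜ[A] (1 : B)) ∈ Ideal.map ι₂ J := by
    intro b hb
    have h := hv1 b hb
    rw [sharp_SpecMap] at h
    have h' : (Scheme.ΓSpecIso (CommRingCat.of ((B ⊗[A] B) ⧸ J₂))).inv.hom
        (Ideal.Quotient.mk J₂ (ι₁ b)) = 0 := h
    have h'' : Ideal.Quotient.mk J₂ (ι₁ b) = 0 :=
      ΓSpecIso_inv_injective _ (h'.trans (map_zero _).symm)
    rw [Ideal.Quotient.eq_zero_iff_mem, hJ₂] at h''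
    exact h''
  obtain ⟨I, hI⟩ : ∃ I : Ideal A, I = Ideal.comap φ.hom J := ⟨_, rfl⟩
  have hJI : J ≤ Ideal.map φ.hom I := by
    rw [hI]
    exact ideal_descent J hdesc
  obtain ⟨jW, hjW⟩ : ∃ jW : Spec (CommRingCat.of (A ⧸ I)) ⟶ Spec A,
    jW = Spec.map (CommRingCat.ofHom (Ideal.Quotient.mk I)) := ⟨_, rfl⟩
  haveI : IsClosedImmersion jW := by
    rw [hjW]
    exact IsClosedImmersion.spec_of_surjective _ Ideal.Quotient.mk_surjective
  haveI : Mono jW := inferInstance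
  have hfac : ∀ (T : Scheme.{u}) (x : T ⟶ Spec A),
      (∃ w : T ⟶ Spec (CommRingCat.of (A ⧸ I)), w ≫ jW = x) ↔ ∀ r ∈ I, (sharp x).hom r = 0 := by
    intro T x
    rw [hjW]
    exact fac_iff I x
  refine ⟨I, fun T x => ?_⟩
  rw [← hjW]
  constructor
  · intro hx
    have hpu : pullback.fst x (Spec.map φ) ≫ x = pullback.snd x (Spec.map φ) ≫ Spec.map φ :=
      pullback.condition
    have h1 : P _ (pullback.snd x (Spec.map φ) ≫ Spec.map φ) := by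
      rw [← hpu]
      exact hcomp _ x hx
    have h2 := (HJ _ _).1 h1
    have h3 : ∀ a ∈ I, (sharp (pullback.fst x (Spec.map φ) ≫ x)).hom a = 0 := by
      intro a ha
      rw [hpu, sharp_comp_SpecMap]
      change (sharp (pullback.snd x (Spec.map φ))).hom (φ.hom a) = 0
      apply h2
      rw [hI] at ha
      exact ha
    obtain ⟨w', hw'⟩ := (hfac _ _).2 h3
    exact desc_of_cover (pullback.fst x (Spec.map φ)) jW x w' hw'
  · rintro ⟨w, rfl⟩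
    apply hcomp
    apply hloc (pullback.fst jW (Spec.map φ))
    rw [pullback.condition, HJ]
    intro b hb
    have hker : Ideal.map φ.hom I ≤
        RingHom.ker (sharp (pullback.snd jW (Spec.map φ))).hom := by
      rw [Ideal.map_le_iff_le_comap]
      intro a ha
      rw [Ideal.mem_comap, RingHom.mem_ker]
      have e1 : (sharp (pullback.snd jW (Spec.map φ))).hom (φ.hom a) =
          (sharp (pullback.snd jW (Spec.map φ) ≫ Spec.map φ)).hom a := by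
        rw [sharp_comp_SpecMap]
        rfl
      rw [e1, ← pullback.condition, sharp_comp]
      change (pullback.fst jW (Spec.map φ)).appTop.hom ((sharp jW).hom a) = 0
      have e2 : (sharp jW).hom a = 0 := (hfac _ jW).1 ⟨𝟙 _, Category.id_comp _⟩ a ha
      rw [e2, map_zero]
    exact hker (hJI hb)

/-! ### Charts -/

theorem exists_chart {U₀ X₀ : Scheme.{u}} (f₀ : U₀ ⟶ X₀) [Etale f₀] [Surjective f₀] (x : X₀) :
    ∃ (V : X₀.Opens) (U' : U₀.Opens), x ∈ V ∧ IsAffineOpen V ∧ IsAffineOpen U' ∧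
      U' ≤ f₀ ⁻¹ᵁ V ∧ ∀ y ∈ V, ∃ u' ∈ U', f₀ u' = y := by
  obtain ⟨u₀, hu₀⟩ := f₀.surjective x
  obtain ⟨V₁, hV₁, hxV₁, -⟩ :=
    exists_isAffineOpen_mem_and_subset (X := X₀) (x := x) (U := ⊤) trivial
  have hu1 : u₀ ∈ f₀ ⁻¹ᵁ V₁ := by
    change f₀ u₀ ∈ V₁
    rw [hu₀]
    exact hxV₁
  obtain ⟨U₁, hU₁, huU₁, hU₁V₁⟩ :=
    exists_isAffineOpen_mem_and_subset (X := U₀) (x := u₀) (U := f₀ ⁻¹ᵁ V₁) hu1
  have hU₁V₁' : U₁ ≤ f₀ ⁻¹ᵁ V₁ := fun z hz => hU₁V₁ hz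
  have hopen : IsOpen (f₀ '' (U₁ : Set U₀)) := f₀.isOpenMap _ U₁.2
  obtain ⟨O, hO⟩ : ∃ O : X₀.Opens, (O : Set X₀) = f₀ '' (U₁ : Set U₀) := ⟨⟨_, hopen⟩, rfl⟩
  have hxO : x ∈ O := by
    change x ∈ (O : Set X₀)
    rw [hO]
    exact ⟨u₀, huU₁, hu₀⟩
  obtain ⟨s, hsO, hxs⟩ := hV₁.exists_basicOpen_le (V := O) ⟨x, hxO⟩ hxV₁
  obtain ⟨r, hr⟩ : ∃ r : Γ(U₀, U₁), r = U₀.presheaf.map (homOfLE hU₁V₁').op (f₀.app V₁ s) :=
    ⟨_, rfl⟩
  have hU' : U₀.basicOpen r = U₁ ⊓ f₀ ⁻¹ᵁ (X₀.basicOpen s) := by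
    rw [hr, Scheme.preimage_basicOpen]
    exact Scheme.basicOpen_res U₀ (f₀.app V₁ s) (homOfLE hU₁V₁').op
  refine ⟨X₀.basicOpen s, U₀.basicOpen r, hxs, hV₁.basicOpen s, hU₁.basicOpen r, ?_, ?_⟩
  · rw [hU']
    exact inf_le_right
  · intro y hy
    have hyO : y ∈ (O : Set X₀) := hsO hy
    rw [hO] at hyO
    obtain ⟨u', hu'U₁, hu'y⟩ := hyO
    refine ⟨u', ?_, hu'y⟩
    rw [hU']
    refine ⟨hu'U₁, ?_⟩
    change f₀ u' ∈ X₀.basicOpen s
    rw [hu'y]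
    exact hy

theorem chart_rep {U₀ X₀ : Scheme.{u}} (f₀ : U₀ ⟶ X₀) [Etale f₀]
    (P : ∀ T : Scheme.{u}, (T ⟶ X₀) → Prop)
    (hcomp : ∀ {T T' : Scheme.{u}} (t : T' ⟶ T) (x : T ⟶ X₀), P T x → P T' (t ≫ x))
    (hloc : ∀ {T T' : Scheme.{u}} (p : T' ⟶ T) [Flat p] [Surjective p] [QuasiCompact p]
      (x : T ⟶ X₀), P T' (p ≫ x) → P T x)
    {W' : Scheme.{u}} (i' : W' ⟶ U₀) [IsClosedImmersion i']
    (H : ∀ (T : Scheme.{u}) (v : T ⟶ U₀), P T (v ≫ f₀) ↔ ∃ w : T ⟶ W', w ≫ i' = v)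
    (V : X₀.Opens) (U' : U₀.Opens) (hV : IsAffineOpen V) (hU' : IsAffineOpen U')
    (e : U' ≤ f₀ ⁻¹ᵁ V) (hsurj : ∀ y ∈ V, ∃ u' ∈ U', f₀ u' = y) :
    ∃ (W₀ : Scheme.{u}) (jW : W₀ ⟶ V.toScheme), IsClosedImmersion jW ∧
      ∀ (T : Scheme.{u}) (x₀ : T ⟶ V.toScheme),
        P T (x₀ ≫ V.ι) ↔ ∃ w : T ⟶ W₀, w ≫ jW = x₀ := by
  haveI : IsAffine V.toScheme := hV
  haveI : IsAffine U'.toScheme := hU'
  obtain ⟨q, hqdef⟩ : ∃ q : U'.toScheme ⟶ V.toScheme, q = f₀.resLE V U' e := ⟨_, rfl⟩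
  have hq : q ≫ V.ι = U'.ι ≫ f₀ := by
    rw [hqdef]
    exact Scheme.Hom.resLE_comp_ι f₀ e
  haveI : Etale q := by
    rw [hqdef]
    infer_instance
  haveI : Flat q := inferInstance
  haveI : Surjective q := ⟨fun y => by
    have hy : V.ι y ∈ V := by
      have h3 : V.ι y ∈ Set.range V.ι := ⟨y, rfl⟩
      rw [Scheme.Opens.range_ι] at h3
      exact h3
    obtain ⟨u', hu'U, hu'y⟩ := hsurj _ hy
    have hu'r : u' ∈ Set.range U'.ι := by
      rw [Scheme.Opens.range_ι]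
      exact hu'U
    obtain ⟨z, hz⟩ := hu'r
    refine ⟨z, ?_⟩
    apply V.ι.isOpenEmbedding.injective
    rw [← Scheme.Hom.comp_apply, hq, Scheme.Hom.comp_apply, hz, hu'y]⟩
  obtain ⟨eV, heV⟩ : ∃ eV : V.toScheme ≅ Spec Γ(V.toScheme, ⊤), eV = V.toScheme.isoSpec :=
    ⟨_, rfl⟩
  obtain ⟨eU, heU⟩ : ∃ eU : U'.toScheme ≅ Spec Γ(U'.toScheme, ⊤), eU = U'.toScheme.isoSpec :=
    ⟨_, rfl⟩
  have hnat : eU.hom ≫ Spec.map q.appTop = q ≫ eV.hom := by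
    rw [heU, heV]
    exact Scheme.isoSpec_hom_naturality q
  have hSpec : Spec.map q.appTop = eU.inv ≫ q ≫ eV.hom := by
    rw [← hnat, Iso.inv_hom_id_assoc]
  have hnat' : Spec.map q.appTop ≫ eV.inv = eU.inv ≫ q := by
    rw [hSpec, Category.assoc, Category.assoc, Iso.hom_inv_id, Category.comp_id]
  haveI : Flat (Spec.map q.appTop) := by
    rw [hSpec]
    infer_instance
  haveI : Surjective (Spec.map q.appTop) := by
    rw [hSpec]
    infer_instance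
  -- the closed subscheme of the chart upstairs
  obtain ⟨i₁, hi₁⟩ : ∃ i₁ : pullback i' U'.ι ⟶ Spec Γ(U'.toScheme, ⊤),
    i₁ = pullback.snd i' U'.ι ≫ eU.hom := ⟨_, rfl⟩
  haveI : IsClosedImmersion i₁ := by
    rw [hi₁]
    infer_instance
  obtain ⟨J, hJ⟩ := exists_ideal_of_isClosedImmersion i₁
  have HJ : ∀ (T : Scheme.{u}) (v : T ⟶ Spec Γ(U'.toScheme, ⊤)),
      P T ((v ≫ Spec.map q.appTop) ≫ eV.inv ≫ V.ι) ↔ ∀ b ∈ J, (sharp v).hom b = 0 := by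
    intro T v
    have h2 : (v ≫ Spec.map q.appTop) ≫ eV.inv ≫ V.ι = (v ≫ eU.inv ≫ U'.ι) ≫ f₀ := by
      calc (v ≫ Spec.map q.appTop) ≫ eV.inv ≫ V.ι
          = v ≫ (Spec.map q.appTop ≫ eV.inv) ≫ V.ι := by simp only [Category.assoc]
        _ = v ≫ (eU.inv ≫ q) ≫ V.ι := by rw [hnat']
        _ = v ≫ eU.inv ≫ q ≫ V.ι := by simp only [Category.assoc]
        _ = v ≫ eU.inv ≫ U'.ι ≫ f₀ := by rw [hq]
        _ = (v ≫ eU.inv ≫ U'.ι) ≫ f₀ := by simp only [Category.assoc]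
    rw [h2, H T (v ≫ eU.inv ≫ U'.ι), ← hJ T v]
    constructor
    · rintro ⟨w', hw'⟩
      refine ⟨pullback.lift w' (v ≫ eU.inv) (by rw [hw', Category.assoc]), ?_⟩
      rw [hi₁, ← Category.assoc, pullback.lift_snd, Category.assoc, Iso.inv_hom_id,
        Category.comp_id]
    · rintro ⟨w₁, hw₁⟩
      refine ⟨w₁ ≫ pullback.fst i' U'.ι, ?_⟩
      rw [Category.assoc, pullback.condition, ← hw₁, hi₁]
      simp only [Category.assoc, Iso.hom_inv_id_assoc]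
  obtain ⟨I, hI⟩ := spec_local q.appTop (fun T x => P T (x ≫ eV.inv ≫ V.ι))
    (fun {T T'} t x h => by
      have h1 := hcomp t (x ≫ eV.inv ≫ V.ι) h
      rw [← Category.assoc] at h1
      exact h1)
    (fun {T T'} p _ _ _ x h => by
      apply hloc p (x ≫ eV.inv ≫ V.ι)
      rw [← Category.assoc]
      exact h)
    J HJ
  refine ⟨Spec (CommRingCat.of (Γ(V.toScheme, ⊤) ⧸ I)),
    Spec.map (CommRingCat.ofHom (Ideal.Quotient.mk I)) ≫ eV.inv, ?_, fun T x₀ => ?_⟩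
  · haveI : IsClosedImmersion (Spec.map (CommRingCat.ofHom (Ideal.Quotient.mk I))) :=
      IsClosedImmersion.spec_of_surjective _ Ideal.Quotient.mk_surjective
    infer_instance
  · have h1 : (x₀ ≫ eV.hom) ≫ eV.inv ≫ V.ι = x₀ ≫ V.ι := by
      rw [Category.assoc, Iso.hom_inv_id_assoc]
    have h2 := hI T (x₀ ≫ eV.hom)
    rw [h1] at h2
    rw [h2]
    constructor
    · rintro ⟨w, hw⟩
      refine ⟨w, ?_⟩
      rw [← Category.assoc, hw, Category.assoc, Iso.hom_inv_id, Category.comp_id]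
    · rintro ⟨w, hw⟩
      refine ⟨w, ?_⟩
      rw [← hw, Category.assoc, Category.assoc, Iso.inv_hom_id, Category.comp_id]

/-! ### The subfunctor as a functor on schemes over `X₀` -/

section Glue

variable {X₀ : Scheme.{u}} (P : ∀ T : Scheme.{u}, (T ⟶ X₀) → Prop)
  (hcomp : ∀ {T T' : Scheme.{u}} (t : T' ⟶ T) (x : T ⟶ X₀), P T x → P T' (t ≫ x))

/-- the subfunctor of the terminal functor on `Over X₀` cut out by `P` -/
def subF : (Over X₀)ᵒᵖ ⥤ Type u where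
  obj T := ULift.{u} (PLift (P T.unop.left T.unop.hom))
  map {T T'} φ := TypeCat.ofHom fun h => ⟨⟨by
    have h1 := hcomp φ.unop.left T.unop.hom h.down.down
    rw [Over.w φ.unop] at h1
    exact h1⟩⟩
  map_id T := ConcreteCategory.hom_ext _ _ fun _ => Subsingleton.elim _ _
  map_comp _ _ := ConcreteCategory.hom_ext _ _ fun _ => Subsingleton.elim _ _

instance subF_subsingleton (T : (Over X₀)ᵒᵖ) : Subsingleton ((subF P hcomp).obj T) :=
  inferInstanceAs (Subsingleton (ULift.{u} (PLift (P T.unop.left T.unop.hom))))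

theorem isZarSheaf_subF
    (hzar : ∀ (T : Scheme.{u}) (x : T ⟶ X₀) (𝒱 : Scheme.OpenCover.{u + 1} T),
      (∀ j, P (𝒱.X j) (𝒱.f j ≫ x)) → P T x) :
    IsZarSheaf.{u + 1} (subF P hcomp) where
  sep _ _ _ _ _ _ := Subsingleton.elim _ _
  glue T₀ t 𝒱 b _ := ⟨⟨⟨hzar T₀ t 𝒱 (fun j => (b j).down.down)⟩⟩, fun j => Subsingleton.elim _ _⟩

include hcomp in
theorem glue_closed
    (hzar : ∀ (T : Scheme.{u}) (x : T ⟶ X₀) (𝒱 : Scheme.OpenCover.{u + 1} T),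
      (∀ j, P (𝒱.X j) (𝒱.f j ≫ x)) → P T x)
    (hlocal : ∀ x : X₀, ∃ (V : X₀.Opens) (W₀ : Scheme.{u}) (jW : W₀ ⟶ V.toScheme),
      x ∈ V ∧ IsClosedImmersion jW ∧
      ∀ (T : Scheme.{u}) (x₀ : T ⟶ V.toScheme), P T (x₀ ≫ V.ι) ↔ ∃ w : T ⟶ W₀, w ≫ jW = x₀) :
    ∃ (W : Scheme.{u}) (i : W ⟶ X₀), IsClosedImmersion i ∧
      ∀ (T : Scheme.{u}) (x : T ⟶ X₀), P T x ↔ ∃ w : T ⟶ W, w ≫ i = x := by
  classical
  choose V W₀ jW hxV hcl hrep using hlocal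
  obtain ⟨F, hF⟩ : ∃ F : (Over X₀)ᵒᵖ ⥤ Type u, F = subF P hcomp := ⟨_, rfl⟩
  haveI hsub : ∀ T, Subsingleton (F.obj T) := fun T => by
    rw [hF]
    infer_instance
  have hdown : ∀ {T : Over X₀}, F.obj (op T) → P T.left T.hom := fun {T} b => by
    rw [hF] at b
    exact b.down.down
  have hup : ∀ {T : Over X₀}, P T.left T.hom → F.obj (op T) := fun {T} h => by
    rw [hF]
    exact ⟨⟨h⟩⟩
  have hPW : ∀ x, P (W₀ x) (jW x ≫ (V x).ι) := fun x =>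
    (hrep x _ (jW x)).2 ⟨𝟙 _, Category.id_comp _⟩
  let Wf : X₀ → Over X₀ := fun x => Over.mk (jW x ≫ (V x).ι)
  let ξ : ∀ x, F.obj (op (Wf x)) := fun x => hup (hPW x)
  haveI hmono : ∀ x, Mono (jW x ≫ (V x).ι) := fun x => by
    haveI := hcl x
    infer_instance
  have hrepF := isRepresentable_of_openCover (F := F) Wf ξ
    (fun x T a₁ a₂ _ => by
      apply Over.OverMorphism.ext
      have h1 : a₁.left ≫ jW x ≫ (V x).ι = a₂.left ≫ jW x ≫ (V x).ι :=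
        (Over.w a₁).trans (Over.w a₂).symm
      exact (cancel_mono (jW x ≫ (V x).ι)).1 h1)
    (fun x T₀ t b => t ⁻¹ᵁ (V x))
    (fun x T₀ t b T₁ φ₁ => by
      constructor
      · intro hr
        have hr' : Set.range (φ₁ ≫ t) ⊆ Set.range (V x).ι := by
          rw [Scheme.Opens.range_ι]
          rintro _ ⟨p, rfl⟩
          rw [Scheme.Hom.comp_apply]
          exact hr ⟨p, rfl⟩
        obtain ⟨x₀, hx₀⟩ : ∃ x₀ : T₁ ⟶ (V x).toScheme, x₀ ≫ (V x).ι = φ₁ ≫ t :=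
          ⟨IsOpenImmersion.lift (V x).ι (φ₁ ≫ t) hr', IsOpenImmersion.lift_fac _ _ _⟩
        have hP : P T₁ (x₀ ≫ (V x).ι) := by
          rw [hx₀]
          exact hcomp φ₁ t (hdown b)
        obtain ⟨w, hw⟩ := (hrep x T₁ x₀).1 hP
        refine ⟨Over.homMk w ?_, Subsingleton.elim _ _⟩
        change w ≫ jW x ≫ (V x).ι = φ₁ ≫ t
        rw [← Category.assoc, hw, hx₀]
      · rintro ⟨a, -⟩
        rintro _ ⟨p, rfl⟩
        have h1 : a.left ≫ jW x ≫ (V x).ι = φ₁ ≫ t := Over.w a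
        change t (φ₁ p) ∈ V x
        rw [← Scheme.Hom.comp_apply, ← h1, Scheme.Hom.comp_apply, Scheme.Hom.comp_apply]
        have h3 : (V x).ι (jW x (a.left p)) ∈ Set.range (V x).ι := ⟨_, rfl⟩
        rw [Scheme.Opens.range_ι] at h3
        exact h3)
    (by rw [hF]; exact isZarSheaf_subF P hcomp hzar)
    (fun T₀ t b p => ⟨t p, hxV (t p)⟩)
  obtain ⟨Z, ⟨r⟩⟩ := hrepF.has_representation
  haveI hmonoZ : Mono Z.hom := ⟨fun {T} w₁ w₂ h => by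
    let a₁ : Over.mk (w₁ ≫ Z.hom) ⟶ Z := Over.homMk w₁ rfl
    let a₂ : Over.mk (w₁ ≫ Z.hom) ⟶ Z := Over.homMk w₂ h.symm
    have h12 : a₁ = a₂ := r.homEquiv.injective (Subsingleton.elim _ _)
    exact congrArg (fun a => a.left) h12⟩
  have hrepZ : ∀ (T : Scheme.{u}) (x : T ⟶ X₀), P T x ↔ ∃ w : T ⟶ Z.left, w ≫ Z.hom = x := by
    intro T x
    constructor
    · intro h
      let b : F.obj (op (Over.mk x)) := hup h
      exact ⟨(r.homEquiv.symm b).left, Over.w (r.homEquiv.symm b)⟩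
    · rintro ⟨w, rfl⟩
      exact hdown (r.homEquiv (Over.homMk w rfl : Over.mk (w ≫ Z.hom) ⟶ Z))
  refine ⟨Z.left, Z.hom, ?_, hrepZ⟩
  -- closed immersion, locally on the target
  have hsup : ⨆ x : X₀, V x = ⊤ := by
    rw [eq_top_iff]
    intro p _
    exact TopologicalSpace.Opens.mem_iSup.2 ⟨p, hxV p⟩
  refine IsZariskiLocalAtTarget.of_iSup_eq_top (P := @IsClosedImmersion) V hsup (fun x => ?_)
  haveI := hcl x
  haveI : Mono (jW x) := inferInstance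
  obtain ⟨ζ, hζ⟩ := (hrepZ _ _).1 (hPW x)
  have hζrange : Set.range ζ ⊆ Set.range (Z.hom ⁻¹ᵁ V x).ι := by
    rintro _ ⟨p, rfl⟩
    rw [Scheme.Opens.range_ι]
    change Z.hom (ζ p) ∈ V x
    rw [← Scheme.Hom.comp_apply, hζ, Scheme.Hom.comp_apply]
    have h3 : (V x).ι (jW x p) ∈ Set.range (V x).ι := ⟨_, rfl⟩
    rw [Scheme.Opens.range_ι] at h3
    exact h3
  obtain ⟨κ, hκ⟩ : ∃ κ : W₀ x ⟶ (Z.hom ⁻¹ᵁ V x).toScheme, κ ≫ (Z.hom ⁻¹ᵁ V x).ι = ζ :=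
    ⟨IsOpenImmersion.lift _ ζ hζrange, IsOpenImmersion.lift_fac _ _ _⟩
  have hκj : κ ≫ (Z.hom ∣_ V x) = jW x := by
    rw [← cancel_mono (V x).ι, Category.assoc, morphismRestrict_ι, reassoc_of% hκ, hζ]
  have hPres : P _ ((Z.hom ∣_ V x) ≫ (V x).ι) := by
    rw [morphismRestrict_ι]
    exact (hrepZ _ _).2 ⟨_, rfl⟩
  obtain ⟨a', ha'⟩ := (hrep x _ (Z.hom ∣_ V x)).1 hPres
  have h1 : a' ≫ κ = 𝟙 _ := by
    rw [← cancel_mono (Z.hom ⁻¹ᵁ V x).ι, Category.assoc, hκ, Category.id_comp,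
      ← cancel_mono Z.hom, Category.assoc, hζ, ← Category.assoc, ha', morphismRestrict_ι]
  have h2 : κ ≫ a' = 𝟙 _ := by
    rw [← cancel_mono (jW x), Category.assoc, ha', hκj, Category.id_comp]
  haveI : IsIso κ := ⟨⟨a', h2, h1⟩⟩
  have h5 : Z.hom ∣_ V x = inv κ ≫ jW x := by
    rw [IsIso.eq_inv_comp]
    exact hκj
  rw [h5]
  infer_instance

end Glue

/-! ### The main theorem -/

theorem closed_descent {U₀ X₀ : Scheme.{u}} (f₀ : U₀ ⟶ X₀) [Etale f₀] [Surjective f₀]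
    (P : ∀ T : Scheme.{u}, (T ⟶ X₀) → Prop)
    (hcomp : ∀ {T T' : Scheme.{u}} (t : T' ⟶ T) (x : T ⟶ X₀), P T x → P T' (t ≫ x))
    (hloc : ∀ {T T' : Scheme.{u}} (p : T' ⟶ T) [Flat p] [Surjective p] [QuasiCompact p]
      (x : T ⟶ X₀), P T' (p ≫ x) → P T x)
    (hzar : ∀ (T : Scheme.{u}) (x : T ⟶ X₀) (𝒱 : Scheme.OpenCover.{u + 1} T),
      (∀ j, P (𝒱.X j) (𝒱.f j ≫ x)) → P T x)
    {W' : Scheme.{u}} (i' : W' ⟶ U₀) [IsClosedImmersion i']
    (H : ∀ (T : Scheme.{u}) (v : T ⟶ U₀), P T (v ≫ f₀) ↔ ∃ w : T ⟶ W', w ≫ i' = v) :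
    ∃ (W : Scheme.{u}) (i : W ⟶ X₀), IsClosedImmersion i ∧
      ∀ (T : Scheme.{u}) (x : T ⟶ X₀), P T x ↔ ∃ w : T ⟶ W, w ≫ i = x := by
  apply glue_closed P hcomp hzar
  intro x
  obtain ⟨V, U', hxV, hV, hU', e, hs⟩ := exists_chart f₀ x
  obtain ⟨W₀, jW, hcl, hrep⟩ := chart_rep f₀ P hcomp hloc i' H V U' hV hU' e hs
  exact ⟨V, W₀, jW, hxV, hcl, hrep⟩

end Groth.Agent.Helper2.ClosedDesc
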