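import Groth.Prelude.Def_Magnet3
import Groth.Agent.Lib.Helper2.Magnet.Cat2
import Groth.Agent.Lib.Helper2.Magnet.Dom
import Groth.Agent.Lib.Helper2.Magnet.AMonDom

/-!
# Change of monoid for attractors of separated schemes (helper2)
-/

set_option autoImplicit false
set_option synthInstance.maxHeartbeats 400000
set_option maxHeartbeats 4000000
set_option linter.style.haveILetI false
set_option linter.unusedSectionVars false
set_option linter.unusedVariables false
set_option linter.unusedSimpArgs false
set_option linter.unnecessarySimpa false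

universe u
open CategoryTheory MonoidalCategory CartesianMonoidalCategory MonObj AlgebraicGeometry Opposite
open Magnet

namespace Groth.Agent.Helper2.MagnetComap

open Groth.Agent.Helper2.MagnetDom Groth.Agent.Helper2.MagnetCat

theorem AMon_map_id (R : Type u) [CommRing R] (N : Type) [AddCommMonoid N] :
    AMon.map R (AddMonoidHom.id N) = 𝟙 (AMon R N) := by
  ext : 1
  rw [AMon.map_left]
  change Spec.map (CommRingCat.ofHom (MonoidAlgebra.mapDomainBialgHom R
    (MonoidHom.id (Multiplicative N))).toAlgHom.toRingHom) = 𝟙 _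
  rw [MonoidAlgebra.mapDomainBialgHom_id]
  exact Spec.map_id _

theorem AMonS_map_id (S : Scheme.{u}) (N : Type) [AddCommMonoid N] :
    AMonS.map S (AddMonoidHom.id N) = 𝟙 (AMonS S N) := by
  rw [AMonS.map, AMon_map_id, CategoryTheory.Functor.map_id]

theorem main18288 (S : Scheme.{u}) (M Z : Type) [AddCommMonoid M]
    [AddCommGroup Z] (f : M →+ Z) (hf : Function.Injective f) (Y : AddSubmonoid Z)
    (hY : Y ≤ AddMonoidHom.mrange f) (X : Over S) [IsSeparated X.hom]
    (a : Magnet.MonAct (Magnet.AMonS S M) X) :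
    IsIso (Magnet.attrComap a f Y) := by
  obtain ⟨g, hg⟩ : ∃ g : ↥(Y.comap f) →+ ↥Y,
    g = (f.comp (Y.comap f).subtype).codRestrict Y (fun x => x.2) := ⟨_, rfl⟩
  have hginj : Function.Injective g := by
    intro x y hxy
    apply Subtype.ext
    apply hf
    have := congrArg Subtype.val hxy
    subst hg
    exact this
  have hgsurj : Function.Surjective g := by
    rintro ⟨y, hy⟩
    obtain ⟨m, rfl⟩ := hY hy
    refine ⟨⟨m, hy⟩, ?_⟩
    subst hg
    rfl
  obtain ⟨ginv, h1, h2⟩ : ∃ ginv : ↥Y →+ ↥(Y.comap f),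
      g.comp ginv = AddMonoidHom.id _ ∧ ginv.comp g = AddMonoidHom.id _ := by
    refine ⟨(AddEquiv.ofBijective g ⟨hginj, hgsurj⟩).symm.toAddMonoidHom, ?_, ?_⟩
    · ext y
      exact congrArg Subtype.val ((AddEquiv.ofBijective g ⟨hginj, hgsurj⟩).apply_symm_apply y)
    · ext x
      exact congrArg Subtype.val ((AddEquiv.ofBijective g ⟨hginj, hgsurj⟩).symm_apply_apply x)
  have hs1 : AMonS.map S ginv ≫ AMonS.map S g = 𝟙 _ := by
    rw [← AMonS.map_comp, h2, AMonS_map_id]
  have hs2 : AMonS.map S g ≫ AMonS.map S ginv = 𝟙 _ := by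
    rw [← AMonS.map_comp, h1, AMonS_map_id]
  rw [NatTrans.isIso_iff_isIso_app]
  intro T
  rw [isIso_iff_bijective]
  constructor
  · intro φ₁ φ₂ h
    haveI := isSchemeTheoreticallyDominant_whiskerRight S g hginj (unop T)
    apply Subtype.ext
    have h' : (AMonS.map S g ▷ unop T) ≫ φ₁.1 = (AMonS.map S g ▷ unop T) ≫ φ₂.1 := by
      have hval := congrArg Subtype.val h
      subst hg
      exact hval
    exact eq_of_comp_eq_of_dominant _ _ _ h'
  · intro χ
    have hφ : Magnet.MonAct.IsEquivariant
        ((subAct S M (Y.comap f)).prod (Magnet.MonAct.trivial _ (unop T))) a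
        ((AMonS.map S ginv ▷ unop T) ≫ χ.1) := by
      refine isEquivariant_of_restrict (AMonS.map S f) (AMonS.map S (Y.comap f).subtype)
        (AMonS.map S Y.subtype) (AMonS.map S g) ?_ (AMonS.map S ginv) hs1 a _ ?_ ?_
      · rw [← AMonS.map_comp, ← AMonS.map_comp]
        subst hg
        rfl
      · rw [← comp_whiskerRight_assoc, hs2, id_whiskerRight, Category.id_comp]
        exact χ.2
      · intro u v huv
        haveI := isSchemeTheoreticallyDominant_whiskerRight S f hf
          (AMonS S ↥(Y.comap f) ⊗ unop T)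
        exact eq_of_comp_eq_of_dominant _ _ _ huv
    refine ⟨⟨_, hφ⟩, ?_⟩
    apply Subtype.ext
    subst hg
    change (AMonS.map S _ ▷ unop T) ≫ (AMonS.map S ginv ▷ unop T) ≫ χ.1 = χ.1
    rw [← comp_whiskerRight_assoc, hs2, id_whiskerRight, Category.id_comp]

end Groth.Agent.Helper2.MagnetComap
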