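import Groth.Agent.Lib.Helper2.Magnet.RepGeom2

/-!
# The comultiplication of `A(M)_S` on sections (helper2)

The characters `chi m` of `A(M)_S` are multiplicative (`mul_chi`, `chi_mul`); consequently the
coefficient functionals `coefL` are compatible with the multiplication (`coefL_mulMap`), the
components `coefL X m (act^# b)` of a function on an affine `A(M)_S`-scheme are homogeneous
(`act_component`), and a point of `X` whose `A(P)`-orbit extends to `A(Y)` kills all components of
degree outside the preimage of `Y` (`kills_of_comap`).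
-/

set_option autoImplicit false
set_option synthInstance.maxHeartbeats 400000
set_option maxHeartbeats 4000000
set_option linter.style.haveILetI false
set_option linter.unusedSectionVars false
set_option linter.unusedVariables false
set_option linter.unusedSimpArgs false
set_option linter.unnecessarySimpa false

universe u
open CategoryTheory Limits MonoidalCategory CartesianMonoidalCategory MonObj AlgebraicGeometry Opposite
open Magnet Magnet.MonAct

namespace Groth.Agent.Helper2.MagnetComul

open Groth.Agent.Helper2.MagnetDom Groth.Agent.Helper2.MagnetRep Groth.Agent.Helper2.MagnetRep2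
  Groth.Agent.Helper2.MagnetFun Groth.Agent.Helper2.MagnetLoc

theorem spec_section_comp {R₁ R₂ : CommRingCat.{u}} {W : Scheme.{u}} (E : W ⟶ Spec R₂)
    (δ : R₁ ⟶ R₂) :
    δ ≫ (Scheme.ΓSpecIso R₂).inv ≫ E.appTop =
      (Scheme.ΓSpecIso R₁).inv ≫ (E ≫ Spec.map δ).appTop := by
  rw [Scheme.Hom.comp_appTop, ← Category.assoc, Scheme.ΓSpecIso_inv_naturality, Category.assoc]

section Chi

variable (S : Scheme.{u}) (M : Type) [AddCommMonoid M]

/-- the projection `A(M)_S ⟶ A(M)_ℤ` -/
noncomputable abbrev pG : (AMonS S M).left ⟶ (AMon (ULift.{u} ℤ) M).left :=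
  pullback.fst (AMon (ULift.{u} ℤ) M).hom (tau S)

/-- the character `[m]` as a function on `A(M)_S` -/
noncomputable def chi (m : M) : Γ((AMonS S M).left, ⊤) :=
  (pG S M).appTop ((gIso M).inv (MonoidAlgebra.single (Multiplicative.ofAdd m) 1))

theorem i1_single (T : Over S) (m : M) :
    i1 S M T (MonoidAlgebra.single (Multiplicative.ofAdd m) 1) =
      (fst (AMonS S M) T).left.appTop (chi S M m) := by
  have h : (qA S M T).appTop = (pG S M).appTop ≫ (fst (AMonS S M) T).left.appTop :=
    Scheme.Hom.comp_appTop _ _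
  unfold i1 chi
  rw [h]
  rfl

/-- `A(M)_ℤ × A(M)_ℤ = Spec (ℤ[M] ⊗ ℤ[M])` -/
noncomputable def pSI : (AMon (ULift.{u} ℤ) M ⊗ AMon (ULift.{u} ℤ) M).left ≅
    Spec (CommRingCat.of (TensorProduct (ULift.{u} ℤ)
      (MonoidAlgebra (ULift.{u} ℤ) (Multiplicative M))
      (MonoidAlgebra (ULift.{u} ℤ) (Multiplicative M)))) :=
  pullbackSpecIso (ULift.{u} ℤ) (MonoidAlgebra (ULift.{u} ℤ) (Multiplicative M))
    (MonoidAlgebra (ULift.{u} ℤ) (Multiplicative M))

theorem pSI_hom_fst :
    (pSI.{u} M).hom ≫ Spec.map (CommRingCat.ofHom Algebra.TensorProduct.includeLeftRingHom) =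
      (fst (AMon (ULift.{u} ℤ) M) (AMon (ULift.{u} ℤ) M)).left :=
  pullbackSpecIso_hom_fst ..

theorem pSI_hom_snd :
    (pSI.{u} M).hom ≫ Spec.map (CommRingCat.ofHom
      (RingHomClass.toRingHom Algebra.TensorProduct.includeRight)) =
      (snd (AMon (ULift.{u} ℤ) M) (AMon (ULift.{u} ℤ) M)).left :=
  pullbackSpecIso_hom_snd ..

theorem mul_AMon_left :
    μ[AMon (ULift.{u} ℤ) M].left = (pSI.{u} M).hom ≫
      Spec.map (CommRingCat.ofHom (Bialgebra.comulAlgHom (ULift.{u} ℤ)
        (MonoidAlgebra (ULift.{u} ℤ) (Multiplicative M)))) :=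
  mul_spec_asOver_spec_left

theorem exists_E :
    ∃ E : (AMonS S M ⊗ AMonS S M).left ⟶
        Spec (CommRingCat.of (TensorProduct (ULift.{u} ℤ)
          (MonoidAlgebra (ULift.{u} ℤ) (Multiplicative M))
          (MonoidAlgebra (ULift.{u} ℤ) (Multiplicative M)))),
      E ≫ Spec.map (CommRingCat.ofHom Algebra.TensorProduct.includeLeftRingHom) =
        (fst (AMonS S M) (AMonS S M)).left ≫ pG S M ∧
      E ≫ Spec.map (CommRingCat.ofHom
        (RingHomClass.toRingHom Algebra.TensorProduct.includeRight)) =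
        (snd (AMonS S M) (AMonS S M)).left ≫ pG S M ∧
      E ≫ Spec.map (CommRingCat.ofHom (Bialgebra.comulAlgHom (ULift.{u} ℤ)
        (MonoidAlgebra (ULift.{u} ℤ) (Multiplicative M)))) = μ[AMonS S M].left ≫ pG S M := by
  refine ⟨(Functor.LaxMonoidal.μ (Over.pullback (tau S)) (AMon (ULift.{u} ℤ) M)
      (AMon (ULift.{u} ℤ) M)).left ≫
    pullback.fst ((AMon (ULift.{u} ℤ) M) ⊗ (AMon (ULift.{u} ℤ) M)).hom (tau S) ≫
    (pSI M).hom, ?_, ?_, ?_⟩
  · simp only [Category.assoc]
    rw [pSI_hom_fst]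
    exact Over.μ_pullback_left_fst_fst _ _
  · simp only [Category.assoc]
    rw [pSI_hom_snd]
    exact Over.μ_pullback_left_fst_snd _ _
  · simp only [Category.assoc]
    have h0 : μ[AMonS S M] = Functor.LaxMonoidal.μ (Over.pullback (tau S))
        (AMon (ULift.{u} ℤ) M) (AMon (ULift.{u} ℤ) M) ≫
        (Over.pullback (tau S)).map μ[AMon (ULift.{u} ℤ) M] := rfl
    rw [h0, Over.comp_left, Category.assoc]
    congr 1
    have h1 : ((Over.pullback (tau S)).map μ[AMon (ULift.{u} ℤ) M]).left ≫ pG S M =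
        pullback.fst _ _ ≫ μ[AMon (ULift.{u} ℤ) M].left := pullback.lift_fst _ _ _
    rw [h1, mul_AMon_left]
    rfl

theorem comul_single_one (m : Multiplicative M) :
    Bialgebra.comulAlgHom (ULift.{u} ℤ) (MonoidAlgebra (ULift.{u} ℤ) (Multiplicative M))
        (MonoidAlgebra.single m 1) =
      Algebra.TensorProduct.includeLeftRingHom (MonoidAlgebra.single m (1 : ULift.{u} ℤ)) *
        (RingHomClass.toRingHom Algebra.TensorProduct.includeRight)
          (MonoidAlgebra.single m (1 : ULift.{u} ℤ)) := by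
  simp [MonoidAlgebra.comul_single]

theorem mul_chi (m : M) :
    μ[AMonS S M].left.appTop (chi S M m) =
      (fst (AMonS S M) (AMonS S M)).left.appTop (chi S M m) *
        (snd (AMonS S M) (AMonS S M)).left.appTop (chi S M m) := by
  obtain ⟨E, hE1, hE2, hE3⟩ := exists_E S M
  obtain ⟨y, hy⟩ : ∃ y : MonoidAlgebra (ULift.{u} ℤ) (Multiplicative M),
    y = MonoidAlgebra.single (Multiplicative.ofAdd m) 1 := ⟨_, rfl⟩
  have k1 := congr($(spec_section_comp E
    (CommRingCat.ofHom Algebra.TensorProduct.includeLeftRingHom)) y)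
  have k2 := congr($(spec_section_comp E
    (CommRingCat.ofHom (RingHomClass.toRingHom Algebra.TensorProduct.includeRight))) y)
  have k3 := congr($(spec_section_comp E
    (CommRingCat.ofHom (Bialgebra.comulAlgHom (ULift.{u} ℤ)
      (MonoidAlgebra (ULift.{u} ℤ) (Multiplicative M))))) y)
  rw [hE1] at k1
  rw [hE2] at k2
  rw [hE3] at k3
  have e1 : (fst (AMonS S M) (AMonS S M)).left.appTop (chi S M m) =
      ((Scheme.ΓSpecIso _).inv ≫ ((fst (AMonS S M) (AMonS S M)).left ≫ pG S M).appTop) y := by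
    rw [Scheme.Hom.comp_appTop, hy]
    rfl
  have e2 : (snd (AMonS S M) (AMonS S M)).left.appTop (chi S M m) =
      ((Scheme.ΓSpecIso _).inv ≫ ((snd (AMonS S M) (AMonS S M)).left ≫ pG S M).appTop) y := by
    rw [Scheme.Hom.comp_appTop, hy]
    rfl
  have e3 : μ[AMonS S M].left.appTop (chi S M m) =
      ((Scheme.ΓSpecIso _).inv ≫ (μ[AMonS S M].left ≫ pG S M).appTop) y := by
    rw [Scheme.Hom.comp_appTop, hy]
    rfl
  have K1 : (fst (AMonS S M) (AMonS S M)).left.appTop (chi S M m) =
      ((Scheme.ΓSpecIso (CommRingCat.of (TensorProduct (ULift.{u} ℤ)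
        (MonoidAlgebra (ULift.{u} ℤ) (Multiplicative M))
        (MonoidAlgebra (ULift.{u} ℤ) (Multiplicative M))))).inv ≫ E.appTop)
        (Algebra.TensorProduct.includeLeftRingHom y) := e1.trans k1.symm
  have K2 : (snd (AMonS S M) (AMonS S M)).left.appTop (chi S M m) =
      ((Scheme.ΓSpecIso (CommRingCat.of (TensorProduct (ULift.{u} ℤ)
        (MonoidAlgebra (ULift.{u} ℤ) (Multiplicative M))
        (MonoidAlgebra (ULift.{u} ℤ) (Multiplicative M))))).inv ≫ E.appTop)
        ((RingHomClass.toRingHom Algebra.TensorProduct.includeRight) y) := e2.trans k2.symm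
  have K3 : μ[AMonS S M].left.appTop (chi S M m) =
      ((Scheme.ΓSpecIso (CommRingCat.of (TensorProduct (ULift.{u} ℤ)
        (MonoidAlgebra (ULift.{u} ℤ) (Multiplicative M))
        (MonoidAlgebra (ULift.{u} ℤ) (Multiplicative M))))).inv ≫ E.appTop)
        (Bialgebra.comulAlgHom (ULift.{u} ℤ)
          (MonoidAlgebra (ULift.{u} ℤ) (Multiplicative M)) y) := e3.trans k3.symm
  rw [K1, K2, K3, ← map_mul, hy, comul_single_one]

theorem chi_mul {T : Over S} (g h : T ⟶ AMonS S M) (m : M) :
    (g * h).left.appTop (chi S M m) = g.left.appTop (chi S M m) * h.left.appTop (chi S M m) := by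
  have h1 : (g * h).left.appTop = μ[AMonS S M].left.appTop ≫ (lift g h).left.appTop := by
    rw [Hom.mul_def, Over.comp_left, Scheme.Hom.comp_appTop]
  have h2 : (fst (AMonS S M) (AMonS S M)).left.appTop ≫ (lift g h).left.appTop = g.left.appTop :=
    appTop_tri _ _ _ (lift_fst g h)
  have h3 : (snd (AMonS S M) (AMonS S M)).left.appTop ≫ (lift g h).left.appTop = h.left.appTop :=
    appTop_tri _ _ _ (lift_snd g h)
  rw [h1]
  change (lift g h).left.appTop (μ[AMonS S M].left.appTop (chi S M m)) = _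
  rw [mul_chi, map_mul, ← h2, ← h3]
  rfl

end Chi

section Formula

variable (S : Scheme.{u}) (M : Type) [AddCommMonoid M]

/-- `(g, (h, t)) ↦ (g h, t)` -/
noncomputable def mulMap (T : Over S) : AMonS S M ⊗ (AMonS S M ⊗ T) ⟶ AMonS S M ⊗ T :=
  (α_ (AMonS S M) (AMonS S M) T).inv ≫ (μ[AMonS S M] ▷ T)

theorem mulMap_fst (T : Over S) :
    mulMap S M T ≫ fst (AMonS S M) T =
      fst (AMonS S M) (AMonS S M ⊗ T) * (snd (AMonS S M) (AMonS S M ⊗ T) ≫ fst (AMonS S M) T) := by
  rw [Hom.mul_def, mulMap, Category.assoc, whiskerRight_fst, ← Category.assoc]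
  congr 1
  apply CartesianMonoidalCategory.hom_ext <;> simp

theorem mulMap_snd (T : Over S) :
    mulMap S M T ≫ snd (AMonS S M) T =
      snd (AMonS S M) (AMonS S M ⊗ T) ≫ snd (AMonS S M) T := by
  rw [mulMap, Category.assoc, whiskerRight_snd]
  simp

theorem mulMap_i1_single (T : Over S) (m : M) :
    (mulMap S M T).left.appTop (i1 S M T (MonoidAlgebra.single (Multiplicative.ofAdd m) 1)) =
      i1 S M (AMonS S M ⊗ T) (MonoidAlgebra.single (Multiplicative.ofAdd m) 1) *
        i2 S M (AMonS S M ⊗ T) (i1 S M T (MonoidAlgebra.single (Multiplicative.ofAdd m) 1)) := by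
  rw [i1_single, i1_single]
  have h1 : (fst (AMonS S M) T).left.appTop ≫ (mulMap S M T).left.appTop =
      (fst (AMonS S M) (AMonS S M ⊗ T) *
        (snd (AMonS S M) (AMonS S M ⊗ T) ≫ fst (AMonS S M) T)).left.appTop :=
    appTop_tri _ _ _ (mulMap_fst S M T)
  have h2 : (snd (AMonS S M) (AMonS S M ⊗ T) ≫ fst (AMonS S M) T).left.appTop =
      (fst (AMonS S M) T).left.appTop ≫ (snd (AMonS S M) (AMonS S M ⊗ T)).left.appTop := by
    rw [Over.comp_left, Scheme.Hom.comp_appTop]
  calc (mulMap S M T).left.appTop ((fst (AMonS S M) T).left.appTop (chi S M m))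
      = (fst (AMonS S M) (AMonS S M ⊗ T) *
          (snd (AMonS S M) (AMonS S M ⊗ T) ≫ fst (AMonS S M) T)).left.appTop (chi S M m) :=
        congr($h1 (chi S M m))
    _ = (fst (AMonS S M) (AMonS S M ⊗ T)).left.appTop (chi S M m) *
          (snd (AMonS S M) (AMonS S M ⊗ T) ≫ fst (AMonS S M) T).left.appTop (chi S M m) :=
        chi_mul S M _ _ m
    _ = _ := by
        rw [h2]
        rfl

theorem mulMap_i2 (T : Over S) (s : Γ(T.left, ⊤)) :
    (mulMap S M T).left.appTop (i2 S M T s) = i2 S M (AMonS S M ⊗ T) (i2 S M T s) := by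
  have h := appTop_comm _ _ _ _ (mulMap_snd S M T)
  exact congr($h s)

theorem coefL_mulMap (T : Over S) [IsAffine T.left] [IsAffine (AMonS S M ⊗ T).left] (m : M)
    (w : Γ((AMonS S M ⊗ T).left, ⊤)) :
    coefL S M (AMonS S M ⊗ T) m ((mulMap S M T).left.appTop w) =
      i1 S M T (MonoidAlgebra.single (Multiplicative.ofAdd m) 1) *
        i2 S M T (coefL S M T m w) := by
  classical
  have key : ∀ (m₁ : M) (s : Γ(T.left, ⊤)),
      coefL S M (AMonS S M ⊗ T) m ((mulMap S M T).left.appTop
        (i1 S M T (MonoidAlgebra.single (Multiplicative.ofAdd m₁) 1) * i2 S M T s)) =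
      i1 S M T (MonoidAlgebra.single (Multiplicative.ofAdd m) 1) * i2 S M T (coefL S M T m
        (i1 S M T (MonoidAlgebra.single (Multiplicative.ofAdd m₁) 1) * i2 S M T s)) := by
    intro m₁ s
    have e0 : i2 S M (AMonS S M ⊗ T)
          (i1 S M T (MonoidAlgebra.single (Multiplicative.ofAdd m₁) 1)) *
        i2 S M (AMonS S M ⊗ T) (i2 S M T s) =
        i2 S M (AMonS S M ⊗ T)
          (i1 S M T (MonoidAlgebra.single (Multiplicative.ofAdd m₁) 1) * i2 S M T s) :=
      (map_mul _ _ _).symm
    rw [map_mul, mulMap_i1_single, mulMap_i2, _root_.mul_assoc, e0, coefL_spec, coefL_spec]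
    by_cases h : m₁ = m
    · subst h
      rw [coefHom_single_self, map_one, map_one, _root_.one_mul, _root_.one_mul]
    · rw [coefHom_single_of_ne _ _ (fun h' => h (Multiplicative.ofAdd.injective h'))]
      simp only [map_zero, zero_mul, mul_zero]
  have gen : ∀ (x : MonoidAlgebra (ULift.{u} ℤ) (Multiplicative M)) (s : Γ(T.left, ⊤)),
      coefL S M (AMonS S M ⊗ T) m ((mulMap S M T).left.appTop (i1 S M T x * i2 S M T s)) =
      i1 S M T (MonoidAlgebra.single (Multiplicative.ofAdd m) 1) *
        i2 S M T (coefL S M T m (i1 S M T x * i2 S M T s)) := by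
    intro x
    induction x using MonoidAlgebra.induction_linear with
    | zero =>
      intro s
      simp only [map_zero, zero_mul, mul_zero]
    | add x y hx hy =>
      intro s
      have eL : i1 S M T (x + y) * i2 S M T s =
          i1 S M T x * i2 S M T s + i1 S M T y * i2 S M T s := by rw [map_add, add_mul]
      rw [eL]
      simp only [map_add, mul_add, hx s, hy s]
    | single m₀ r =>
      intro s
      have hw : i1 S M T (algebraMap (ULift.{u} ℤ) _ r) = i2 S M T (rT S T r) :=
        congr($((isPushout_AMonS S M T).w) r)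
      have e1 : i1 S M T (MonoidAlgebra.single m₀ r) * i2 S M T s =
          i1 S M T (MonoidAlgebra.single m₀ 1) * i2 S M T (rT S T r * s) := by
        rw [single_eq_algebraMap_mul_single m₀ r, map_mul, map_mul, hw]
        ring
      rw [e1]
      exact key (Multiplicative.toAdd m₀) _
  have h0 : (coefL S M (AMonS S M ⊗ T) m).comp (mulMap S M T).left.appTop.hom.toAddMonoidHom =
      (AddMonoidHom.mulLeft (i1 S M T (MonoidAlgebra.single (Multiplicative.ofAdd m) 1))).comp
        ((i2 S M T).hom.toAddMonoidHom.comp (coefL S M T m)) :=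
    addHom_ext (isPushout_AMonS S M T) _ _ (fun x s => gen x s)
  exact DFunLike.congr_fun h0 w

theorem act_component {X : Over S} [IsAffine X.left] [IsAffine (AMonS S M ⊗ X).left]
    (a : MonAct (AMonS S M) X) (m : M) (b : Γ(X.left, ⊤)) :
    a.act.left.appTop (coefL S M X m (a.act.left.appTop b)) =
      i1 S M X (MonoidAlgebra.single (Multiplicative.ofAdd m) 1) *
        i2 S M X (coefL S M X m (a.act.left.appTop b)) := by
  rw [← coefL_natural S M a.act m, ← coefL_mulMap]
  congr 1
  have h : (AMonS S M ◁ a.act) ≫ a.act = mulMap S M X ≫ a.act := by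
    rw [mulMap, Category.assoc, a.mul_act, Iso.inv_hom_id_assoc]
  have h2 := appTop_comm _ _ _ _ h
  exact congr($h2 b)

theorem kills_of_comap {P : Type} [AddCommMonoid P] (f : M →+ P) (Y : AddSubmonoid P)
    {X : Over S} [IsAffine X.left] (a : MonAct (AMonS S M) X) (T : Over S) [IsAffine T.left]
    (x : T ⟶ X) (χ : AMonS S Y ⊗ T ⟶ X)
    (hχ : (AMonS.map S Y.subtype ▷ T) ≫ χ =
      (AMonS S P ◁ x) ≫ (AMonS.map S f ▷ X) ≫ a.act)
    (m : M) (hm : f m ∉ Y) (b : Γ(X.left, ⊤)) :
    x.left.appTop (coefL S M X m (a.act.left.appTop b)) = 0 := by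
  haveI := isAffine_tensor S M X
  obtain ⟨pb, hpb⟩ : ∃ pb, pb = coefL S M X m (a.act.left.appTop b) := ⟨_, rfl⟩
  rw [← hpb]
  have hcomp : a.act.left.appTop pb =
      i1 S M X (MonoidAlgebra.single (Multiplicative.ofAdd m) 1) * i2 S M X pb := by
    rw [hpb]
    exact act_component S M a m b
  have h1 : (AMonS S M ◁ x).left.appTop (a.act.left.appTop pb) =
      i1 S M T (MonoidAlgebra.single (Multiplicative.ofAdd m) 1) *
        i2 S M T (x.left.appTop pb) := by
    rw [hcomp, map_mul]
    have e1 : (AMonS S M ◁ x).left.appTop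
        (i1 S M X (MonoidAlgebra.single (Multiplicative.ofAdd m) 1)) =
        i1 S M T (MonoidAlgebra.single (Multiplicative.ofAdd m) 1) :=
      congr($(i1_whiskerLeft S M x) _)
    have e2 : (AMonS S M ◁ x).left.appTop (i2 S M X pb) = i2 S M T (x.left.appTop pb) :=
      congr($(i2_whiskerLeft S M x) pb)
    rw [e1, e2]
  have h2 : (AMonS.map S f ▷ T).left.appTop
      (i1 S M T (MonoidAlgebra.single (Multiplicative.ofAdd m) 1) *
        i2 S M T (x.left.appTop pb)) =
      i1 S P T (MonoidAlgebra.single (Multiplicative.ofAdd (f m)) 1) *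
        i2 S P T (x.left.appTop pb) := by
    rw [map_mul]
    have e1 : (AMonS.map S f ▷ T).left.appTop
        (i1 S M T (MonoidAlgebra.single (Multiplicative.ofAdd m) 1)) =
        i1 S P T (iotaHom f (MonoidAlgebra.single (Multiplicative.ofAdd m) 1)) :=
      congr($(i1_map S f T) _)
    have e2 : (AMonS.map S f ▷ T).left.appTop (i2 S M T (x.left.appTop pb)) =
        i2 S P T (x.left.appTop pb) := congr($(i2_map S f T) _)
    rw [e1, e2, iotaHom_apply, MonoidAlgebra.mapDomain_single]
    rfl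
  have h3 : (AMonS.map S f ▷ T) ≫ (AMonS S M ◁ x) ≫ a.act =
      (AMonS.map S Y.subtype ▷ T) ≫ χ := by
    rw [hχ, whisker_exchange_assoc]
  have h4 : (AMonS.map S f ▷ T).left.appTop
      ((AMonS S M ◁ x).left.appTop (a.act.left.appTop pb)) =
      (AMonS.map S Y.subtype ▷ T).left.appTop (χ.left.appTop pb) := by
    have h := appTop_comm _ _ _ _ h3
    have e : ((AMonS S M ◁ x) ≫ a.act).left.appTop =
        a.act.left.appTop ≫ (AMonS S M ◁ x).left.appTop := by
      rw [Over.comp_left, Scheme.Hom.comp_appTop]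
    rw [e] at h
    exact congr($h pb)
  have h5 : coefL S P T (f m)
      ((AMonS.map S Y.subtype ▷ T).left.appTop (χ.left.appTop pb)) = 0 :=
    coefL_map_of_notMem S Y.subtype T (f m) (by
      rintro ⟨y, hy⟩
      exact hm (hy ▸ y.2)) _
  have h6 : coefL S P T (f m)
      (i1 S P T (MonoidAlgebra.single (Multiplicative.ofAdd (f m)) 1) *
        i2 S P T (x.left.appTop pb)) = x.left.appTop pb := by
    rw [coefL_spec, coefHom_single_self, map_one, _root_.one_mul]
  rw [← h6, ← h2, ← h1, h4, h5]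

end Formula

end Groth.Agent.Helper2.MagnetComul
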