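import Groth.Prelude.Def_Magnet3
import Groth.Agent.Lib.Helper2.Magnet.AttrGlue
import Groth.Agent.Lib.Helper2.Magnet.Comul

/-!
# The attractor of a preimage magnet, for schemes affine over the base (helper2)

`main18287`: for `f : M →+ P`, a magnet `Y` of `P` and `X` affine over `S` with an action of
`A(M)_S`, the canonical map `X^{f⁻¹ Y ⊂ M} → X^{Y ⊂ P}` is an isomorphism.  Both attractors are
closed subschemes of `X` (`main18295`); the universal point of the second lifts to the first,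
locally over the affine opens of `S`, by the homogeneity of the components (`kills_of_comap`).
-/

set_option autoImplicit false
set_option synthInstance.maxHeartbeats 400000
set_option maxHeartbeats 4000000
set_option linter.style.haveILetI false
set_option linter.unusedSectionVars false
set_option linter.unusedVariables false
set_option linter.unusedSimpArgs false
set_option linter.unnecessarySimpa false

universe u
open CategoryTheory Limits MonoidalCategory CartesianMonoidalCategory MonObj AlgebraicGeometry Opposite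
open Magnet Magnet.MonAct

namespace Groth.Agent.Helper2.MagnetComap2

open Groth.Agent.Helper2.MagnetDom Groth.Agent.Helper2.MagnetCat Groth.Agent.Helper2.MagnetLoc
  Groth.Agent.Helper2.MagnetFun Groth.Agent.Helper2.MagnetComul Groth.Agent.Helper2.MagnetGlue
  Groth.Agent.Helper2.MagnetRepCover Groth.Agent.Helper2.MagnetRep

/-- gluing local lifts through a monomorphism -/
theorem exists_lift_of_local {Z X T : Scheme.{u}} (j : Z ⟶ X) [Mono j] (x : T ⟶ X)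
    (𝒰 : T.OpenCover) (h : ∀ c, ∃ z : 𝒰.X c ⟶ Z, z ≫ j = 𝒰.f c ≫ x) :
    ∃ z : T ⟶ Z, z ≫ j = x := by
  choose z hz using h
  refine ⟨𝒰.glueMorphisms z (fun c c' => ?_), ?_⟩
  · rw [← cancel_mono j, Category.assoc, Category.assoc, hz, hz, ← Category.assoc,
      ← Category.assoc, pullback.condition]
  · apply 𝒰.hom_ext
    intro c
    rw [← Category.assoc, 𝒰.ι_glueMorphisms, hz]

/-- Over an affine open `V` of `S`: a point `x : T ⟶ X` (`T` affine) lying over `V` whose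
components of degree outside `N` vanish (in the restriction of `X` over `V`) has an orbit map
extending to `A(N)_S ×_S T`. -/
theorem exists_orbit_extension (S : Scheme.{u}) (M : Type) [AddCommMonoid M] (N : AddSubmonoid M)
    (X : Over S) [IsAffineHom X.hom] (a : MonAct (AMonS S M) X) (V : S.affineOpens)
    (T : Over S) [IsAffine T.left] (x : T ⟶ X)
    (hx : ∀ p : T.left, x.left p ∈ (X.hom ⁻¹ᵁ V.1 : X.left.Opens))
    (H : ∀ (aV : MonAct (AMonS S M) (Over.mk ((X.hom ⁻¹ᵁ V.1).ι ≫ X.hom)))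
      (_ : IsAffine (Over.mk ((X.hom ⁻¹ᵁ V.1).ι ≫ X.hom)).left)
      (_ : IsEquivariant aV a
        (Over.homMk (X.hom ⁻¹ᵁ V.1).ι rfl : Over.mk ((X.hom ⁻¹ᵁ V.1).ι ≫ X.hom) ⟶ X))
      (x' : T ⟶ Over.mk ((X.hom ⁻¹ᵁ V.1).ι ≫ X.hom))
      (_ : x' ≫ (Over.homMk (X.hom ⁻¹ᵁ V.1).ι rfl :
        Over.mk ((X.hom ⁻¹ᵁ V.1).ι ≫ X.hom) ⟶ X) = x) (m : M) (_ : m ∉ N)
      (b : Γ((Over.mk ((X.hom ⁻¹ᵁ V.1).ι ≫ X.hom)).left, ⊤)),
      x'.left.appTop (coefL S M (Over.mk ((X.hom ⁻¹ᵁ V.1).ι ≫ X.hom)) m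
        (aV.act.left.appTop b)) = 0) :
    ∃ φ : AMonS S N ⊗ T ⟶ X, (AMonS.map S N.subtype ▷ T) ≫ φ = (AMonS S M ◁ x) ≫ a.act := by
  have hstab : (snd (AMonS S M) X).left ⁻¹ᵁ (X.hom ⁻¹ᵁ V.1) ≤ a.act.left ⁻¹ᵁ (X.hom ⁻¹ᵁ V.1) := by
    have e1 : (snd (AMonS S M) X).left ⁻¹ᵁ (X.hom ⁻¹ᵁ V.1) = (AMonS S M ⊗ X).hom ⁻¹ᵁ V.1 := by
      rw [← Scheme.Hom.comp_preimage, Over.w]
    have e2 : a.act.left ⁻¹ᵁ (X.hom ⁻¹ᵁ V.1) = (AMonS S M ⊗ X).hom ⁻¹ᵁ V.1 := by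
      rw [← Scheme.Hom.comp_preimage, Over.w]
    rw [e1, e2]
  obtain ⟨aV, haV⟩ := exists_action_of_stable_open a (X.hom ⁻¹ᵁ V.1) hstab
  have hXaff : IsAffine (Over.mk ((X.hom ⁻¹ᵁ V.1).ι ≫ X.hom)).left := V.2.preimage X.hom
  haveI := hXaff
  haveI : IsAffine (V.1 : Scheme.{u}) := V.2
  obtain ⟨jV, hjV⟩ : ∃ jV : Over.mk ((X.hom ⁻¹ᵁ V.1).ι ≫ X.hom) ⟶ X,
    jV = Over.homMk (X.hom ⁻¹ᵁ V.1).ι rfl := ⟨_, rfl⟩
  have hjl : jV.left = (X.hom ⁻¹ᵁ V.1).ι := by rw [hjV]; rfl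
  haveI : IsOpenImmersion jV.left := by rw [hjl]; infer_instance
  have hrV : Set.range jV.left = ((X.hom ⁻¹ᵁ V.1 : X.left.Opens) : Set X.left) := by
    rw [hjl]; exact Scheme.Opens.range_ι _
  have hrange : Set.range ((X.hom ⁻¹ᵁ V.1).ι ≫ X.hom) ⊆ Set.range V.1.ι := by
    rintro _ ⟨p, rfl⟩
    rw [Scheme.Opens.range_ι, Scheme.Hom.comp_apply]
    have hp : (X.hom ⁻¹ᵁ V.1).ι p ∈ Set.range (X.hom ⁻¹ᵁ V.1).ι := ⟨p, rfl⟩
    rw [Scheme.Opens.range_ι] at hp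
    exact hp
  have hxr : Set.range x.left ⊆ Set.range jV.left := by
    rintro _ ⟨p, rfl⟩
    rw [hrV]
    exact hx p
  let x' : T ⟶ Over.mk ((X.hom ⁻¹ᵁ V.1).ι ≫ X.hom) :=
    Over.homMk (IsOpenImmersion.lift jV.left x.left hxr) (by
      rw [← Over.w jV, ← Category.assoc, IsOpenImmersion.lift_fac, Over.w])
  have hx' : x' ≫ jV = x := by
    apply Over.OverMorphism.ext
    rw [Over.comp_left]
    exact IsOpenImmersion.lift_fac _ _ _
  have hkill : ∀ y ∈ Ideal.span (genJ N aV), x'.left.appTop y = 0 := by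
    have hle : Ideal.span (genJ N aV) ≤ RingHom.ker x'.left.appTop.hom := by
      rw [Ideal.span_le]
      rintro y ⟨m, hm, b, rfl⟩
      rw [SetLike.mem_coe, RingHom.mem_ker]
      exact H aV hXaff (hjV ▸ haV) x' (hjV ▸ hx') m hm b
    intro y hy
    exact hle hy
  obtain ⟨φ', hφ'⟩ := exists_extension N aV V.1.ι
    (IsOpenImmersion.lift V.1.ι ((X.hom ⁻¹ᵁ V.1).ι ≫ X.hom) hrange)
    (IsOpenImmersion.lift_fac _ _ _) T x' hkill
  have haV' : aV.act ≫ jV = (AMonS S M ◁ jV) ≫ a.act := by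
    rw [hjV]
    exact haV
  refine ⟨φ' ≫ jV, ?_⟩
  rw [← Category.assoc, hφ', Category.assoc, haV', ← MonoidalCategory.whiskerLeft_comp_assoc, hx']

theorem main18287 (S : Scheme.{u}) (M P : Type) [AddCommMonoid M] [AddCommMonoid P]
    (f : M →+ P) (Y : AddSubmonoid P) (X : Over S) [IsAffineHom X.hom]
    (a : MonAct (AMonS S M) X) : IsIso (attrComap a f Y) := by
  classical
  have hinjN : Function.Injective (Y.comap f).subtype := fun x y h => Subtype.ext h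
  have hinjY : Function.Injective Y.subtype := fun x y h => Subtype.ext h
  -- cancellation
  have hcancelN : ∀ (T : Over S) (φ₁ φ₂ : AMonS S (Y.comap f) ⊗ T ⟶ X),
      (AMonS.map S (Y.comap f).subtype ▷ T) ≫ φ₁ = (AMonS.map S (Y.comap f).subtype ▷ T) ≫ φ₂ →
      φ₁ = φ₂ := fun T φ₁ φ₂ h => by
    haveI := isSchemeTheoreticallyDominant_whiskerRight S (Y.comap f).subtype hinjN T
    exact eq_of_comp_eq_of_dominant (AMonS.map S (Y.comap f).subtype ▷ T) φ₁ φ₂ h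
  have hcancelY : ∀ (T : Over S) (φ₁ φ₂ : AMonS S Y ⊗ T ⟶ X),
      (AMonS.map S Y.subtype ▷ T) ≫ φ₁ = (AMonS.map S Y.subtype ▷ T) ≫ φ₂ →
      φ₁ = φ₂ := fun T φ₁ φ₂ h => by
    haveI := isSchemeTheoreticallyDominant_whiskerRight S Y.subtype hinjY T
    exact eq_of_comp_eq_of_dominant (AMonS.map S Y.subtype ▷ T) φ₁ φ₂ h
  have hcancel2 : ∀ (T : Over S) (f₁ f₂ : AMonS S M ⊗ (AMonS S (Y.comap f) ⊗ T) ⟶ X),
      (AMonS S M ◁ (AMonS.map S (Y.comap f).subtype ▷ T)) ≫ f₁ =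
        (AMonS S M ◁ (AMonS.map S (Y.comap f).subtype ▷ T)) ≫ f₂ → f₁ = f₂ :=
    fun T f₁ f₂ h => by
      haveI := isSchemeTheoreticallyDominant_whiskerRight S (Y.comap f).subtype hinjN T
      haveI := isAffineHom_map_whiskerRight S (Y.comap f).subtype T
      haveI := flat_AMonS_hom S M
      haveI := isSchemeTheoreticallyDominant_whiskerLeft_of_flat (AMonS S M)
        (AMonS.map S (Y.comap f).subtype ▷ T)
      exact eq_of_comp_eq_of_dominant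
        (AMonS S M ◁ (AMonS.map S (Y.comap f).subtype ▷ T)) f₁ f₂ h
  -- evaluation is compatible with `attrComap`
  have hev : ∀ (T : (Over S)ᵒᵖ) (φ : (attr a (Y.comap f)).obj T),
      (attrToX (a.restrict (AMonS.map S f)) Y).app T ((attrComap a f Y).app T φ) =
        (attrToX a (Y.comap f)).app T φ := by
    intro T φ
    change lift (toUnit (unop T) ≫ η[AMonS S Y]) (𝟙 (unop T)) ≫
      (AMonS.map S ((f.comp (Y.comap f).subtype).codRestrict Y (fun x => x.2)) ▷ unop T) ≫ φ.1 =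
      lift (toUnit (unop T) ≫ η[AMonS S (Y.comap f)]) (𝟙 (unop T)) ≫ φ.1
    rw [← Category.assoc, lift_whiskerRight, Category.assoc, IsMonHom.one_hom]
  -- the representing closed subschemes
  obtain ⟨Z₁, j₁, e₁, hcl₁, hc₁⟩ := main18295 S M (Y.comap f) X a
  obtain ⟨Z₂, j₂, e₂, hcl₂, hc₂⟩ := main18295 S P Y X (a.restrict (AMonS.map S f))
  haveI : Mono j₁.left := inferInstance
  -- the universal point of `Z₂` lifts to `Z₁`
  have hlocal : ∀ V : S.affineOpens,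
      ∃ z : ((j₂.left ⁻¹ᵁ (X.hom ⁻¹ᵁ V.1) : Z₂.left.Opens) : Scheme.{u}) ⟶ Z₁.left,
        z ≫ j₁.left = (j₂.left ⁻¹ᵁ (X.hom ⁻¹ᵁ V.1)).ι ≫ j₂.left := by
    intro V
    obtain ⟨ιV, hιV⟩ : ∃ ιV : Over.mk ((j₂.left ⁻¹ᵁ (X.hom ⁻¹ᵁ V.1)).ι ≫ Z₂.hom) ⟶ Z₂,
      ιV.left = (j₂.left ⁻¹ᵁ (X.hom ⁻¹ᵁ V.1)).ι := ⟨Over.homMk _ rfl, rfl⟩
    haveI hTaff : IsAffine (Over.mk ((j₂.left ⁻¹ᵁ (X.hom ⁻¹ᵁ V.1)).ι ≫ Z₂.hom)).left :=
      (V.2.preimage X.hom).preimage j₂.left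
    -- the point and the equivariant map
    obtain ⟨χe, hχe⟩ : ∃ χe : (attr (a.restrict (AMonS.map S f)) Y).obj
        (op (Over.mk ((j₂.left ⁻¹ᵁ (X.hom ⁻¹ᵁ V.1)).ι ≫ Z₂.hom))),
      χe = e₂.homEquiv ιV := ⟨_, rfl⟩
    have hχev : lift (toUnit _ ≫ η[AMonS S Y]) (𝟙 _) ≫ χe.1 = ιV ≫ j₂ := by
      rw [hχe]
      exact hc₂ _ ιV
    have hxV : ∀ p : (Over.mk ((j₂.left ⁻¹ᵁ (X.hom ⁻¹ᵁ V.1)).ι ≫ Z₂.hom)).left,
        (ιV ≫ j₂).left p ∈ (X.hom ⁻¹ᵁ V.1 : X.left.Opens) := by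
      intro p
      rw [Over.comp_left, Scheme.Hom.comp_apply, hιV]
      have h3 : (j₂.left ⁻¹ᵁ (X.hom ⁻¹ᵁ V.1)).ι p ∈ Set.range (j₂.left ⁻¹ᵁ (X.hom ⁻¹ᵁ V.1)).ι :=
        ⟨p, rfl⟩
      rw [Scheme.Opens.range_ι] at h3
      exact h3
    obtain ⟨φ, hφ⟩ := exists_orbit_extension S M (Y.comap f) X a V _ (ιV ≫ j₂) hxV (by
      intro aV hXaff haV x' hx' m hm b
      haveI := hXaff
      -- lift `χe` to the open part
      obtain ⟨jV, hjV⟩ : ∃ jV : Over.mk ((X.hom ⁻¹ᵁ V.1).ι ≫ X.hom) ⟶ X,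
        jV = Over.homMk (X.hom ⁻¹ᵁ V.1).ι rfl := ⟨_, rfl⟩
      rw [← hjV] at haV hx'
      have hjl : jV.left = (X.hom ⁻¹ᵁ V.1).ι := by rw [hjV]; rfl
      haveI : IsOpenImmersion jV.left := by rw [hjl]; infer_instance
      haveI : Mono jV.left := inferInstance
      haveI : Mono jV := Over.mono_of_mono_left jV
      have hrV : Set.range jV.left = ((X.hom ⁻¹ᵁ V.1 : X.left.Opens) : Set X.left) := by
        rw [hjl]; exact Scheme.Opens.range_ι _
      have hT : ∀ t : (Over.mk ((j₂.left ⁻¹ᵁ (X.hom ⁻¹ᵁ V.1)).ι ≫ Z₂.hom)).left,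
          (Over.mk ((j₂.left ⁻¹ᵁ (X.hom ⁻¹ᵁ V.1)).ι ≫ Z₂.hom)).hom t ∈ V.1 := fun t => by
        have h1 := hxV t
        have h2 : (ιV ≫ j₂).left ≫ X.hom =
            (Over.mk ((j₂.left ⁻¹ᵁ (X.hom ⁻¹ᵁ V.1)).ι ≫ Z₂.hom)).hom := Over.w (ιV ≫ j₂)
        rw [← h2, Scheme.Hom.comp_apply]
        exact h1
      have hχr : Set.range χe.1.left ⊆ Set.range jV.left := by
        rintro _ ⟨q, rfl⟩
        rw [hrV]
        change X.hom (χe.1.left q) ∈ V.1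
        have h3 : χe.1.left ≫ X.hom = (snd (AMonS S Y) _).left ≫
            (Over.mk ((j₂.left ⁻¹ᵁ (X.hom ⁻¹ᵁ V.1)).ι ≫ Z₂.hom)).hom := by
          rw [Over.w χe.1, Over.w (snd (AMonS S Y) _)]
        rw [← Scheme.Hom.comp_apply, h3, Scheme.Hom.comp_apply]
        exact hT _
      let χ' : AMonS S Y ⊗ Over.mk ((j₂.left ⁻¹ᵁ (X.hom ⁻¹ᵁ V.1)).ι ≫ Z₂.hom) ⟶
          Over.mk ((X.hom ⁻¹ᵁ V.1).ι ≫ X.hom) :=
        Over.homMk (IsOpenImmersion.lift jV.left χe.1.left hχr) (by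
          rw [← Over.w jV, ← Category.assoc, IsOpenImmersion.lift_fac, Over.w])
      have hχ' : χ' ≫ jV = χe.1 := by
        apply Over.OverMorphism.ext
        rw [Over.comp_left]
        exact IsOpenImmersion.lift_fac _ _ _
      have haV' : aV.act ≫ jV = (AMonS S M ◁ jV) ≫ a.act := haV
      refine kills_of_comap S M f Y aV _ x' χ' ?_ m hm b
      rw [← cancel_mono jV]
      simp only [Category.assoc]
      rw [hχ', precomp_eq_orbit (AMonS.map S Y.subtype) (a.restrict (AMonS.map S f)) χe.1 χe.2,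
        hχev, restrict_act, haV', ← whisker_exchange_assoc,
        ← MonoidalCategory.whiskerLeft_comp_assoc, hx'])
    -- the section of the first attractor
    let uV : (attr a (Y.comap f)).obj (op (Over.mk ((j₂.left ⁻¹ᵁ (X.hom ⁻¹ᵁ V.1)).ι ≫ Z₂.hom))) :=
      ⟨φ, isEquivariant_of_precomp_eq_orbit (AMonS.map S (Y.comap f).subtype) a φ (ιV ≫ j₂) hφ
        (hcancel2 _)⟩
    have huV : (attrToX a (Y.comap f)).app (op _) uV = ιV ≫ j₂ :=
      evalAt_eq_of_precomp_eq_orbit (AMonS.map S (Y.comap f).subtype) a φ (ιV ≫ j₂) hφ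
    refine ⟨(e₁.homEquiv.symm uV).left, ?_⟩
    have h4 : e₁.homEquiv.symm uV ≫ j₁ = ιV ≫ j₂ := by
      rw [← hc₁, Equiv.apply_symm_apply]
      exact huV
    rw [← Over.comp_left, h4, Over.comp_left, hιV]
  have hsup : TopologicalSpace.IsOpenCover (fun V : S.affineOpens => j₂.left ⁻¹ᵁ (X.hom ⁻¹ᵁ V.1)) := by
    change ⨆ V : S.affineOpens, j₂.left ⁻¹ᵁ (X.hom ⁻¹ᵁ V.1) = ⊤
    rw [← Scheme.Hom.preimage_iSup, ← Scheme.Hom.preimage_iSup, iSup_affineOpens_eq_top,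
      Scheme.Hom.preimage_top, Scheme.Hom.preimage_top]
  obtain ⟨z₀, hz₀⟩ := exists_lift_of_local j₁.left j₂.left
    (Z₂.left.openCoverOfIsOpenCover _ hsup) (fun V => hlocal V)
  obtain ⟨z, hz⟩ : ∃ z : Z₂ ⟶ Z₁, z ≫ j₁ = j₂ := by
    refine ⟨Over.homMk z₀ ?_, ?_⟩
    · rw [← Over.w j₁, ← Category.assoc, hz₀, Over.w]
    · apply Over.OverMorphism.ext
      rw [Over.comp_left]
      exact hz₀
  -- bijectivity
  rw [NatTrans.isIso_iff_isIso_app]
  intro T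
  rw [isIso_iff_bijective]
  constructor
  · intro φ₁ φ₂ h
    refine evalAt_injective (AMonS.map S (Y.comap f).subtype) a (unop T) (hcancelN (unop T)) ?_
    change (attrToX a (Y.comap f)).app T φ₁ = (attrToX a (Y.comap f)).app T φ₂
    rw [← hev, ← hev, h]
  · intro χ
    obtain ⟨t, ht⟩ : ∃ t : unop T ⟶ Z₂, e₂.homEquiv t = χ :=
      ⟨e₂.homEquiv.symm χ, Equiv.apply_symm_apply _ _⟩
    refine ⟨e₁.homEquiv (t ≫ z), ?_⟩
    refine evalAt_injective (AMonS.map S Y.subtype) (a.restrict (AMonS.map S f)) (unop T)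
      (hcancelY (unop T)) ?_
    change (attrToX (a.restrict (AMonS.map S f)) Y).app T
        ((attrComap a f Y).app T (e₁.homEquiv (t ≫ z))) =
      (attrToX (a.restrict (AMonS.map S f)) Y).app T χ
    rw [hev, ← ht]
    have h1 := hc₁ (unop T) (t ≫ z)
    have h2 := hc₂ (unop T) t
    have h3 : (t ≫ z) ≫ j₁ = t ≫ j₂ := by rw [Category.assoc, hz]
    exact h1.trans (h3.trans h2.symm)

end Groth.Agent.Helper2.MagnetComap2
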