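import Mathlib

/-!
# `R[G]` is free over `R[H]` along an injective homomorphism `H → G` (helper2)

`H` a commutative monoid, `G` a commutative group, `f : H →* G` injective with image a subgroup
`K`: the classes of `G ⧸ K` give a basis of `R[G]` over `R[H]`, so `R[H] → R[G]` is faithfully flat.
Also: descending a ratio of characters to a quotient group.
-/

set_option autoImplicit false
set_option synthInstance.maxHeartbeats 400000
set_option maxHeartbeats 4000000
set_option linter.style.haveILetI false
set_option linter.unusedSectionVars false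
set_option linter.unusedVariables false
set_option linter.unusedSimpArgs false
set_option linter.unnecessarySimpa false

namespace Groth.Agent.Helper2.GroupAlgFree

noncomputable section

/-- the ring map `R[H] → R[G]` -/
def psi (R : Type*) [CommRing R] {H G : Type*} [CommMonoid H] [CommGroup G] (f : H →* G) :
    MonoidAlgebra R H →+* MonoidAlgebra R G :=
  (MonoidAlgebra.mapDomainBialgHom R f).toAlgHom.toRingHom

theorem psi_apply (R : Type*) [CommRing R] {H G : Type*} [CommMonoid H] [CommGroup G]
    (f : H →* G) (a : MonoidAlgebra R H) : psi R f a = MonoidAlgebra.mapDomain f a := rfl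

/-- A copy of `R[G]`, as an algebra over `R[H]` through `f`. -/
def Cq (R : Type*) [CommRing R] {H G : Type*} [CommMonoid H] [CommGroup G] (_f : H →* G) :
    Type _ := MonoidAlgebra R G

instance (R : Type*) [CommRing R] {H G : Type*} [CommMonoid H] [CommGroup G] (f : H →* G) :
    CommRing (Cq R f) := inferInstanceAs (CommRing (MonoidAlgebra R G))

instance (R : Type*) [CommRing R] {H G : Type*} [CommMonoid H] [CommGroup G] (f : H →* G) :
    Algebra (MonoidAlgebra R H) (Cq R f) := (psi R f).toAlgebra

/-- the candidate basis: classes of `G ⧸ K` -/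
def bas (R : Type*) [CommRing R] {H G : Type*} [CommMonoid H] [CommGroup G] (f : H →* G)
    (K : Subgroup G) (c : G ⧸ K) : Cq R f :=
  (MonoidAlgebra.single (Quotient.out c) 1 : MonoidAlgebra R G)

section

variable (R : Type*) [CommRing R] {H G : Type*} [CommMonoid H] [CommGroup G] (f : H →* G)
  (K : Subgroup G)

theorem smul_bas (a : MonoidAlgebra R H) (c : G ⧸ K) :
    a • bas R f K c = (MonoidAlgebra.mapDomain f a *
      MonoidAlgebra.single (Quotient.out c) 1 : MonoidAlgebra R G) := rfl

theorem coeff_smul_bas_self (hf : Function.Injective f) (a : MonoidAlgebra R H) (c : G ⧸ K)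
    (h : H) :
    (MonoidAlgebra.mapDomain f a * MonoidAlgebra.single (Quotient.out c) (1 : R)).coeff
      (f h * Quotient.out c) = a.coeff h := by
  rw [MonoidAlgebra.coeff_mul_single_apply, mul_one, mul_inv_cancel_right]
  exact Finsupp.mapDomain_apply hf a.coeff h

theorem coeff_smul_bas_of_ne (hK : ∀ g, g ∈ K ↔ ∃ h, f h = g) (a : MonoidAlgebra R H)
    (c c' : G ⧸ K) (hcc : c ≠ c') (h : H) :
    (MonoidAlgebra.mapDomain f a * MonoidAlgebra.single (Quotient.out c') (1 : R)).coeff
      (f h * Quotient.out c) = 0 := by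
  rw [MonoidAlgebra.coeff_mul_single_apply, mul_one]
  apply Finsupp.mapDomain_of_notMem_range
  rintro ⟨h', hh'⟩
  apply hcc
  have h1 : (Quotient.out c')⁻¹ * Quotient.out c ∈ K := by
    have e : (Quotient.out c')⁻¹ * Quotient.out c = (f h)⁻¹ * f h' := by
      rw [hh', mul_assoc (f h), inv_mul_cancel_left, mul_comm]
    rw [e]
    exact K.mul_mem (K.inv_mem ((hK _).2 ⟨h, rfl⟩)) ((hK _).2 ⟨h', rfl⟩)
  have h2 : (QuotientGroup.mk (Quotient.out c') : G ⧸ K) = QuotientGroup.mk (Quotient.out c) :=
    QuotientGroup.eq.2 h1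
  rw [QuotientGroup.out_eq', QuotientGroup.out_eq'] at h2
  exact h2.symm

theorem linearIndependent_bas (hf : Function.Injective f) (hK : ∀ g, g ∈ K ↔ ∃ h, f h = g) :
    LinearIndependent (MonoidAlgebra R H) (bas R f K) := by
  rw [linearIndependent_iff']
  intro s g hg c hc
  apply MonoidAlgebra.ext
  ext h
  have h1 := congrArg (fun y : MonoidAlgebra R G => y.coeff (f h * Quotient.out c)) hg
  simp only [smul_bas] at h1
  change (∑ j ∈ s, (MonoidAlgebra.mapDomain f (g j) *
      MonoidAlgebra.single (Quotient.out j) (1 : R))).coeff (f h * Quotient.out c) = 0 at h1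
  rw [MonoidAlgebra.coeff_sum, Finset.sum_apply'] at h1
  rw [Finset.sum_eq_single_of_mem c hc
    (fun j _ hj => coeff_smul_bas_of_ne R f K hK (g j) c j (Ne.symm hj) h),
    coeff_smul_bas_self R f K hf] at h1
  simpa using h1

theorem span_bas (hK : ∀ g, g ∈ K ↔ ∃ h, f h = g) :
    ⊤ ≤ Submodule.span (MonoidAlgebra R H) (Set.range (bas R f K)) := by
  intro y _
  induction y using MonoidAlgebra.induction_linear with
  | zero => exact Submodule.zero_mem _
  | add x y hx hy => exact Submodule.add_mem _ (hx trivial) (hy trivial)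
  | single g r =>
    obtain ⟨c, hc⟩ : ∃ c : G ⧸ K, c = QuotientGroup.mk g := ⟨_, rfl⟩
    have h1 : (Quotient.out c)⁻¹ * g ∈ K := by
      apply QuotientGroup.eq.1
      rw [QuotientGroup.out_eq', hc]
    obtain ⟨h, hh⟩ := (hK _).1 h1
    have e : f h * Quotient.out c = g := by
      rw [hh, mul_comm ((Quotient.out c)⁻¹ * g) (Quotient.out c), mul_inv_cancel_left]
    have key : (MonoidAlgebra.single g r : MonoidAlgebra R G) =
        (MonoidAlgebra.single h r : MonoidAlgebra R H) • bas R f K c := by
      rw [smul_bas, MonoidAlgebra.mapDomain_single, MonoidAlgebra.single_mul_single, mul_one, e]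
    rw [key]
    exact Submodule.smul_mem _ _ (Submodule.subset_span ⟨c, rfl⟩)

/-- the basis of classes -/
def basisCq (hf : Function.Injective f) (hK : ∀ g, g ∈ K ↔ ∃ h, f h = g) :
    Module.Basis (G ⧸ K) (MonoidAlgebra R H) (Cq R f) :=
  Module.Basis.mk (linearIndependent_bas R f K hf hK) (span_bas R f K hK)

theorem faithfullyFlat_psi [Nontrivial R] (hf : Function.Injective f)
    (hK : ∀ g, g ∈ K ↔ ∃ h, f h = g) : (psi R f).FaithfullyFlat := by
  haveI : Module.Free (MonoidAlgebra R H) (Cq R f) := Module.Free.of_basis (basisCq R f K hf hK)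
  haveI : Nontrivial (Cq R f) := inferInstanceAs (Nontrivial (MonoidAlgebra R G))
  have h : Module.FaithfullyFlat (MonoidAlgebra R H) (Cq R f) := inferInstance
  exact (RingHom.faithfullyFlat_algebraMap_iff (S := Cq R f)).mpr h

end

theorem exists_quot_char {M : Type} [AddCommGroup M] (Z : AddSubgroup M) {R : Type*}
    [CommMonoid R] (χ₁ χ₂ : Multiplicative M →* R)
    (h : ∀ z ∈ Z, χ₁ (Multiplicative.ofAdd z) = χ₂ (Multiplicative.ofAdd z)) :
    ∃ κ : Multiplicative (M ⧸ Z) →* R, ∀ m : M,
      χ₁ (Multiplicative.ofAdd m) * κ (Multiplicative.ofAdd (QuotientAddGroup.mk' Z m)) =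
        χ₂ (Multiplicative.ofAdd m) := by
  have hinv : ∀ (χ : Multiplicative M →* R) (m : Multiplicative M), χ m * χ m⁻¹ = 1 := by
    intro χ m
    rw [← map_mul, mul_inv_cancel, map_one]
  obtain ⟨κ₀, hκ₀⟩ : ∃ κ₀ : Multiplicative M →* R, ∀ m, κ₀ m = χ₂ m * χ₁ m⁻¹ :=
    ⟨χ₂ * χ₁.comp invMonoidHom, fun m => rfl⟩
  have hker : ∀ z ∈ Z, κ₀ (Multiplicative.ofAdd z) = 1 := by
    intro z hz
    rw [hκ₀, ← h z hz, hinv]
  refine ⟨AddMonoidHom.toMultiplicativeLeft
    (QuotientAddGroup.lift Z (MonoidHom.toAdditiveRight κ₀) (fun z hz => ?_)), fun m => ?_⟩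
  · rw [AddMonoidHom.mem_ker]
    exact congrArg Additive.ofMul (hker z hz)
  · change χ₁ (Multiplicative.ofAdd m) * κ₀ (Multiplicative.ofAdd m) = _
    rw [hκ₀, mul_left_comm, hinv, mul_one]

end

end Groth.Agent.Helper2.GroupAlgFree
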