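import Groth.Agent.Lib.Helper2.Magnet.Pts
import Groth.Agent.Lib.Helper2.Magnet.GroupAlgFree
import Groth.Agent.Lib.Helper6.DS.ExactGen
import Mathlib.AlgebraicGeometry.Sites.Fpqc

/-!
# The attractor of a subgroup magnet is the fixed locus of `D(M/Z)` (helper2)

For a subgroup `Z` of an abelian group `M`, `A(M)_S → A(Z)_S` is a faithfully flat affine cover
with kernel `A(M/Z)_S`; an orbit map of a point fixed by `A(M/Z)_S` descends along it.
-/

set_option autoImplicit false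
set_option synthInstance.maxHeartbeats 400000
set_option maxHeartbeats 4000000
set_option linter.style.haveILetI false
set_option linter.unusedSectionVars false
set_option linter.unusedVariables false
set_option linter.unusedSimpArgs false
set_option linter.unnecessarySimpa false

universe v₁ u₁ u
open CategoryTheory Limits MonoidalCategory CartesianMonoidalCategory MonObj AlgebraicGeometry Opposite
open Magnet Magnet.MonAct

namespace Groth.Agent.Helper2.MagnetFixed

open Groth.Agent.Helper2.MagnetDom Groth.Agent.Helper2.MagnetCat Groth.Agent.Helper2.MagnetUnits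
  Groth.Agent.Helper2.MagnetOpen Groth.Agent.Helper2.MagnetFun Groth.Agent.Helper2.MagnetLoc
  Groth.Agent.Helper2.MagnetComul Groth.Agent.Helper2.MagnetPts Groth.Agent.Helper2.GroupAlgFree

section General

variable {C : Type u₁} [Category.{v₁} C] [CartesianMonoidalCategory C] {A B Q X : C}
  [MonObj A] [MonObj B] [MonObj Q]

theorem evalAt_fixed (π : A ⟶ B) [IsMonHom π] (jq : Q ⟶ A) [IsMonHom jq]
    (hjp : jq ≫ π = toUnit Q ≫ η[B]) (a : MonAct A X) {T : C} (φ : B ⊗ T ⟶ X)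
    (hφ : IsEquivariant (((regular B).restrict π).prod (trivial A T)) a φ)
    (T' : C) (t : T' ⟶ T) (g : T' ⟶ Q) :
    lift g (t ≫ lift (toUnit T ≫ η[B]) (𝟙 T) ≫ φ) ≫ (a.restrict jq).act =
      t ≫ lift (toUnit T ≫ η[B]) (𝟙 T) ≫ φ := by
  rw [mem_eqvHom_iff] at hφ
  have h := hφ T' (g ≫ jq) (toUnit T' ≫ η[B]) t
  rw [lift_restrict_act, lift_regular_act] at h
  have h1 : ((g ≫ jq) ≫ π) * (toUnit T' ≫ η[B]) = toUnit T' ≫ η[B] := by
    rw [Category.assoc, hjp, ← Category.assoc, comp_toUnit, ← Hom.one_def]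
    exact _root_.mul_one _
  have h2 : t ≫ lift (toUnit T ≫ η[B]) (𝟙 T) = lift (toUnit T' ≫ η[B]) t := by
    rw [comp_lift, Category.comp_id, ← Category.assoc, comp_toUnit]
  rw [h1] at h
  rw [lift_restrict_act, ← Category.assoc t, h2]
  exact h.symm

theorem comp_orbit (a : MonAct A X) {T K : C} (x : T ⟶ X) (u : K ⟶ A ⊗ T) :
    u ≫ (A ◁ x) ≫ a.act = lift (u ≫ fst _ _) ((u ≫ snd _ _) ≫ x) ≫ a.act := by
  rw [← lift_whiskerLeft_assoc, lift_comp_fst_snd]

/-- lift of a natural transformation into the functor of points through the fixed points -/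
noncomputable def liftFixed {F : Cᵒᵖ ⥤ Type v₁} (α : F ⟶ yoneda.obj X) (b : MonAct Q X)
    (h : ∀ (T : Cᵒᵖ) (φ : F.obj T) (T' : C) (t : T' ⟶ unop T) (g : T' ⟶ Q),
      lift g (t ≫ (α.app T φ : unop T ⟶ X)) ≫ b.act = t ≫ (α.app T φ : unop T ⟶ X)) :
    F ⟶ fixedPsh b where
  app T := TypeCat.ofHom fun φ => ⟨α.app T φ, h T φ⟩
  naturality T T' t := ConcreteCategory.hom_ext _ _ fun φ =>
    Subtype.ext (ConcreteCategory.congr_hom (α.naturality t) φ)

theorem liftFixed_app_coe {F : Cᵒᵖ ⥤ Type v₁} (α : F ⟶ yoneda.obj X) (b : MonAct Q X)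
    (h : ∀ (T : Cᵒᵖ) (φ : F.obj T) (T' : C) (t : T' ⟶ unop T) (g : T' ⟶ Q),
      lift g (t ≫ (α.app T φ : unop T ⟶ X)) ≫ b.act = t ≫ (α.app T φ : unop T ⟶ X))
    (T : Cᵒᵖ) (φ : F.obj T) :
    (((liftFixed α b h).app T φ).1 : unop T ⟶ X) = α.app T φ := rfl

theorem liftFixed_comp_ι {F : Cᵒᵖ ⥤ Type v₁} (α : F ⟶ yoneda.obj X) (b : MonAct Q X)
    (h : ∀ (T : Cᵒᵖ) (φ : F.obj T) (T' : C) (t : T' ⟶ unop T) (g : T' ⟶ Q),
      lift g (t ≫ (α.app T φ : unop T ⟶ X)) ≫ b.act = t ≫ (α.app T φ : unop T ⟶ X)) :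
    liftFixed α b h ≫ fixedPshι b = α := by
  apply NatTrans.ext
  funext T
  exact ConcreteCategory.hom_ext _ _ fun φ => rfl

end General

section Descent

variable {S : Scheme.{u}}

theorem exists_desc_of_cover {P' P X : Over S} (p : P' ⟶ P) [QuasiCompact p.left]
    [Surjective p.left] [Flat p.left] (o : P' ⟶ X)
    (h : ∀ (K : Over S) (g₁ g₂ : K ⟶ P'), g₁ ≫ p = g₂ ≫ p → g₁ ≫ o = g₂ ≫ o) :
    ∃ φ : P ⟶ X, p ≫ φ = o := by
  have hrel : ∀ {Z : Scheme.{u}} (g₁ g₂ : Z ⟶ P'.left), g₁ ≫ p.left = g₂ ≫ p.left →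
      g₁ ≫ o.left = g₂ ≫ o.left := by
    intro Z g₁ g₂ hg
    have hw : g₂ ≫ P'.hom = g₁ ≫ P'.hom := by
      rw [← Over.w p, ← Category.assoc, ← Category.assoc, hg]
    have h3 := h (Over.mk (g₁ ≫ P'.hom)) (Over.homMk g₁ rfl) (Over.homMk g₂ hw) (by
      apply Over.OverMorphism.ext
      exact hg)
    exact congrArg (fun f => f.left) h3
  have hfac : p.left ≫ EffectiveEpi.desc p.left o.left hrel = o.left :=
    EffectiveEpi.fac p.left o.left hrel
  have hw : EffectiveEpi.desc p.left o.left hrel ≫ X.hom = P.hom := by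
    rw [← cancel_epi p.left, ← Category.assoc, hfac, Over.w, Over.w]
  refine ⟨Over.homMk (EffectiveEpi.desc p.left o.left hrel) hw, ?_⟩
  apply Over.OverMorphism.ext
  exact hfac

theorem cancel_of_cover {P' P X : Over S} (p : P' ⟶ P) [QuasiCompact p.left]
    [Surjective p.left] [Flat p.left] (φ₁ φ₂ : P ⟶ X) (h : p ≫ φ₁ = p ≫ φ₂) : φ₁ = φ₂ := by
  apply Over.OverMorphism.ext
  rw [← cancel_epi p.left, ← Over.comp_left, ← Over.comp_left, h]

end Descent

section Chars

variable (S : Scheme.{u})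

theorem charOf_one_of_add_eq_zero {N : Type} [AddCommMonoid N] {W : Over S} (n n' : N)
    (h : n + n' = 0) :
    charOf S N (1 : W ⟶ AMonS S N) (Multiplicative.ofAdd n) = 1 := by
  obtain ⟨c, hc⟩ : ∃ c : Multiplicative N →* Γ(W.left, ⊤), c = charOf S N (1 : W ⟶ AMonS S N) :=
    ⟨_, rfl⟩
  rw [← hc]
  have h1 : c (Multiplicative.ofAdd n) * c (Multiplicative.ofAdd n) = c (Multiplicative.ofAdd n) := by
    have h3 := charOf_mul S N (1 : W ⟶ AMonS S N) 1 (Multiplicative.ofAdd n)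
    rw [_root_.one_mul, ← hc] at h3
    exact h3.symm
  have h2 : c (Multiplicative.ofAdd n) * c (Multiplicative.ofAdd n') = 1 := by
    rw [← map_mul, ← ofAdd_add, h]
    exact map_one c
  calc c (Multiplicative.ofAdd n) = c (Multiplicative.ofAdd n) * 1 := (_root_.mul_one _).symm
    _ = c (Multiplicative.ofAdd n) * (c (Multiplicative.ofAdd n) * c (Multiplicative.ofAdd n')) := by
        rw [h2]
    _ = (c (Multiplicative.ofAdd n) * c (Multiplicative.ofAdd n)) * c (Multiplicative.ofAdd n') :=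
        (_root_.mul_assoc _ _ _).symm
    _ = c (Multiplicative.ofAdd n) * c (Multiplicative.ofAdd n') := by rw [h1]
    _ = 1 := h2

theorem map_zero_eq_one {N M' : Type} [AddCommMonoid N] [AddCommMonoid M']
    (hneg : ∀ n : N, ∃ n', n + n' = 0) :
    AMonS.map S (0 : N →+ M') = 1 := by
  apply charOf_injective S N
  apply MonoidHom.ext
  intro n
  obtain ⟨n', hn'⟩ := hneg (Multiplicative.toAdd n)
  have e1 : charOf S N (1 : AMonS S M' ⟶ AMonS S N) n = 1 :=
    charOf_one_of_add_eq_zero S (Multiplicative.toAdd n) n' hn'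
  have e2 : charOf S N (𝟙 (AMonS S M') ≫ AMonS.map S (0 : N →+ M')) n = 1 := by
    rw [charOf_map]
    exact map_one _
  rw [Category.id_comp] at e2
  rw [e1, e2]

theorem map_mk_comp_subtype {M : Type} [AddCommGroup M] (Z : AddSubgroup M) :
    AMonS.map S (QuotientAddGroup.mk' Z) ≫ AMonS.map S Z.toAddSubmonoid.subtype =
      toUnit _ ≫ η[AMonS S ↥Z.toAddSubmonoid] := by
  have e : (QuotientAddGroup.mk' Z).comp Z.toAddSubmonoid.subtype = 0 := by
    apply AddMonoidHom.ext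
    intro z
    exact (QuotientAddGroup.eq_zero_iff _).2 z.2
  rw [← AMonS.map_comp, e, ← Hom.one_def]
  exact map_zero_eq_one S (fun n => ⟨⟨-n.1, Z.neg_mem n.2⟩, Subtype.ext (add_neg_cancel _)⟩)

theorem exists_kernel_point {M : Type} [AddCommGroup M] (Z : AddSubgroup M) {K : Over S}
    (g₁ g₂ : K ⟶ AMonS S M)
    (h : g₁ ≫ AMonS.map S Z.toAddSubmonoid.subtype =
      g₂ ≫ AMonS.map S Z.toAddSubmonoid.subtype) :
    ∃ k : K ⟶ AMonS S (M ⧸ Z), g₂ = g₁ * (k ≫ AMonS.map S (QuotientAddGroup.mk' Z)) := by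
  have hZ : ∀ z ∈ Z, charOf S M g₁ (Multiplicative.ofAdd z) =
      charOf S M g₂ (Multiplicative.ofAdd z) := by
    intro z hz
    have h1 : charOf S ↥Z.toAddSubmonoid (g₁ ≫ AMonS.map S Z.toAddSubmonoid.subtype)
        (Multiplicative.ofAdd ⟨z, hz⟩) =
        charOf S ↥Z.toAddSubmonoid (g₂ ≫ AMonS.map S Z.toAddSubmonoid.subtype)
          (Multiplicative.ofAdd ⟨z, hz⟩) := by rw [h]
    rw [charOf_map, charOf_map] at h1
    exact h1
  obtain ⟨κ, hκ⟩ := exists_quot_char Z (charOf S M g₁) (charOf S M g₂) hZ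
  obtain ⟨k, hk⟩ := exists_point S (M ⧸ Z) κ
  refine ⟨k, ?_⟩
  apply charOf_injective S M
  apply MonoidHom.ext
  intro m
  rw [charOf_mul, charOf_map, hk]
  exact (hκ (Multiplicative.toAdd m)).symm

end Chars

section Geometry

variable (S : Scheme.{u}) {M : Type} [AddCommGroup M] (Z : AddSubgroup M)

theorem faithfullyFlat_iotaHom :
    (iotaHom.{u} Z.toAddSubmonoid.subtype).hom.FaithfullyFlat := by
  have h := faithfullyFlat_psi (ULift.{u} ℤ)
    (AddMonoidHom.toMultiplicative Z.toAddSubmonoid.subtype) (AddSubgroup.toSubgroup Z)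
    (fun x y hxy => congrArg Multiplicative.ofAdd
      (Subtype.ext (congrArg Multiplicative.toAdd hxy)))
    (fun g => ⟨fun hg => ⟨Multiplicative.ofAdd ⟨Multiplicative.toAdd g, hg⟩, rfl⟩, by
      rintro ⟨h, rfl⟩
      exact (Multiplicative.toAdd h).2⟩)
  exact h

theorem flat_surj_AMon_map :
    Flat (AMon.map (ULift.{u} ℤ) Z.toAddSubmonoid.subtype).left ∧
      Surjective (AMon.map (ULift.{u} ℤ) Z.toAddSubmonoid.subtype).left :=
  (flat_and_surjective_SpecMap_iff (iotaHom.{u} Z.toAddSubmonoid.subtype)).mpr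
    (faithfullyFlat_iotaHom Z)

theorem cover_props (T : Over S) :
    Flat (AMonS.map S Z.toAddSubmonoid.subtype ▷ T).left ∧
      Surjective (AMonS.map S Z.toAddSubmonoid.subtype ▷ T).left := by
  obtain ⟨h1, h2⟩ := flat_surj_AMon_map.{u} Z
  have h1' : Flat (AMonS.map S Z.toAddSubmonoid.subtype).left :=
    Groth.Agent.Lib.Helper6.DS.prop_pullback_map (tau S) @Flat
      (AMon.map (ULift.{u} ℤ) Z.toAddSubmonoid.subtype) h1
  have h2' : Surjective (AMonS.map S Z.toAddSubmonoid.subtype).left :=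
    Groth.Agent.Lib.Helper6.DS.prop_pullback_map (tau S) @Surjective
      (AMon.map (ULift.{u} ℤ) Z.toAddSubmonoid.subtype) h2
  exact ⟨MorphismProperty.of_isPullback (P := @Flat) (isPullback_whiskerRight _ T) h1',
    MorphismProperty.of_isPullback (P := @Surjective) (isPullback_whiskerRight _ T) h2'⟩

end Geometry

theorem main18289 (S : Scheme.{u}) (M : Type) [AddCommGroup M] (Z : AddSubgroup M) (X : Over S)
    (a : MonAct (AMonS S M) X) :
    ∃ e : attr a Z.toAddSubmonoid ≅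
        fixedPsh (a.restrict (AMonS.map S (QuotientAddGroup.mk' Z))),
      e.hom ≫ fixedPshι _ = attrToX a Z.toAddSubmonoid := by
  have hjp := map_mk_comp_subtype S Z
  have hcov := cover_props S Z
  have hqc : ∀ T : Over S, QuasiCompact (AMonS.map S Z.toAddSubmonoid.subtype ▷ T).left := by
    intro T
    haveI := isAffineHom_map_whiskerRight S Z.toAddSubmonoid.subtype T
    infer_instance
  have hcancel1 : ∀ (T : Over S) (φ₁ φ₂ : AMonS S ↥Z.toAddSubmonoid ⊗ T ⟶ X),
      (AMonS.map S Z.toAddSubmonoid.subtype ▷ T) ≫ φ₁ =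
        (AMonS.map S Z.toAddSubmonoid.subtype ▷ T) ≫ φ₂ → φ₁ = φ₂ := by
    intro T φ₁ φ₂ h
    obtain ⟨hfl, hsu⟩ := hcov T
    haveI := hfl
    haveI := hsu
    haveI := hqc T
    exact cancel_of_cover _ φ₁ φ₂ h
  have hcancel2 : ∀ (T : Over S)
      (f₁ f₂ : AMonS S M ⊗ (AMonS S ↥Z.toAddSubmonoid ⊗ T) ⟶ X),
      (AMonS S M ◁ (AMonS.map S Z.toAddSubmonoid.subtype ▷ T)) ≫ f₁ =
        (AMonS S M ◁ (AMonS.map S Z.toAddSubmonoid.subtype ▷ T)) ≫ f₂ → f₁ = f₂ := by
    intro T f₁ f₂ h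
    obtain ⟨hfl, hsu⟩ := hcov T
    haveI : Flat (AMonS S M ◁ (AMonS.map S Z.toAddSubmonoid.subtype ▷ T)).left :=
      MorphismProperty.of_isPullback (P := @Flat) (isPullback_whiskerLeft (AMonS S M) _).flip hfl
    haveI : Surjective (AMonS S M ◁ (AMonS.map S Z.toAddSubmonoid.subtype ▷ T)).left :=
      MorphismProperty.of_isPullback (P := @Surjective)
        (isPullback_whiskerLeft (AMonS S M) _).flip hsu
    haveI : QuasiCompact (AMonS S M ◁ (AMonS.map S Z.toAddSubmonoid.subtype ▷ T)).left :=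
      MorphismProperty.of_isPullback (P := @QuasiCompact)
        (isPullback_whiskerLeft (AMonS S M) _).flip (hqc T)
    exact cancel_of_cover _ f₁ f₂ h
  obtain ⟨hom, hhomdef, hhomι⟩ : ∃ hom : attr a Z.toAddSubmonoid ⟶
      fixedPsh (a.restrict (AMonS.map S (QuotientAddGroup.mk' Z))),
      (∀ (T : (Over S)ᵒᵖ) (φ : (attr a Z.toAddSubmonoid).obj T),
        ((hom.app T φ).1 : unop T ⟶ X) = (attrToX a Z.toAddSubmonoid).app T φ) ∧
      hom ≫ fixedPshι _ = attrToX a Z.toAddSubmonoid := by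
    refine ⟨liftFixed (attrToX a Z.toAddSubmonoid)
      (a.restrict (AMonS.map S (QuotientAddGroup.mk' Z)))
      (fun T φ T' t g => evalAt_fixed (AMonS.map S Z.toAddSubmonoid.subtype)
        (AMonS.map S (QuotientAddGroup.mk' Z)) hjp a φ.1 φ.2 T' t g), fun T φ => rfl, ?_⟩
    exact liftFixed_comp_ι _ _ _
  haveI : IsIso hom := by
    rw [NatTrans.isIso_iff_isIso_app]
    intro T
    rw [isIso_iff_bijective]
    constructor
    · intro φ₁ φ₂ h
      apply evalAt_injective (AMonS.map S Z.toAddSubmonoid.subtype) a (unop T) (hcancel1 (unop T))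
      have h3 := congrArg Subtype.val h
      exact (hhomdef T φ₁).symm.trans (h3.trans (hhomdef T φ₂))
    · intro x
      obtain ⟨hfl, hsu⟩ := hcov (unop T)
      haveI := hfl
      haveI := hsu
      haveI := hqc (unop T)
      obtain ⟨φ, hφ⟩ := exists_desc_of_cover (AMonS.map S Z.toAddSubmonoid.subtype ▷ unop T)
        ((AMonS S M ◁ x.1) ≫ a.act) (by
          intro K u₁ u₂ hu
          have hf : (u₁ ≫ fst _ _) ≫ AMonS.map S Z.toAddSubmonoid.subtype =
              (u₂ ≫ fst _ _) ≫ AMonS.map S Z.toAddSubmonoid.subtype := by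
            have h1 : (u₁ ≫ (AMonS.map S Z.toAddSubmonoid.subtype ▷ unop T)) ≫ fst _ _ =
                (u₂ ≫ (AMonS.map S Z.toAddSubmonoid.subtype ▷ unop T)) ≫ fst _ _ := by rw [hu]
            rw [Category.assoc, Category.assoc, whiskerRight_fst, ← Category.assoc,
              ← Category.assoc] at h1
            exact h1
          have hs : u₁ ≫ snd _ _ = u₂ ≫ snd _ _ := by
            have h1 : (u₁ ≫ (AMonS.map S Z.toAddSubmonoid.subtype ▷ unop T)) ≫ snd _ _ =
                (u₂ ≫ (AMonS.map S Z.toAddSubmonoid.subtype ▷ unop T)) ≫ snd _ _ := by rw [hu]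
            rw [Category.assoc, Category.assoc, whiskerRight_snd] at h1
            exact h1
          obtain ⟨k, hk⟩ := exists_kernel_point S Z (u₁ ≫ fst _ _) (u₂ ≫ fst _ _) hf
          have hfix := x.2 K (u₁ ≫ snd _ _) k
          rw [lift_restrict_act] at hfix
          rw [comp_orbit, comp_orbit, ← hs, hk, lift_mul_act, hfix])
      have heq := isEquivariant_of_precomp_eq_orbit (AMonS.map S Z.toAddSubmonoid.subtype) a φ x.1
        hφ (hcancel2 (unop T))
      refine ⟨⟨φ, heq⟩, ?_⟩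
      apply Subtype.ext
      refine (hhomdef T ⟨φ, heq⟩).trans ?_
      exact evalAt_eq_of_precomp_eq_orbit (AMonS.map S Z.toAddSubmonoid.subtype) a φ x.1 hφ
  exact ⟨asIso hom, hhomι⟩

end Groth.Agent.Helper2.MagnetFixed
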