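import Groth.Prelude.Def_Magnet3
import Groth.Agent.Lib.Helper2.Magnet.FixedPts
import Groth.Agent.Lib.Helper2.Magnet.CharAlg

/-!
# Change of monoid for attractors of arbitrary schemes, groups, `Y ⊆ f(M)` (helper2)

`f : M → Z` a homomorphism of abelian groups, `Y ⊆ f(M)` a submonoid, `N = f⁻¹ Y`.  The map
`D(M) × A(Y) × T → A(N) × T`, `(g, y, t) ↦ (g·y, t)` has sections fpqc locally (lift the restriction
to `ker f` of a character of `N` to `M`), and an orbit map `(g, y, t) ↦ g • ψ(y, t)` of a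
`D(Z)`-equivariant `ψ` is constant on its fibres (fpqc locally on the source the ratio of two
characters of `M` extends from `f(M)` to `Z`).  So `X^{N ⊂ M} → X^{Y ⊂ Z}` is bijective.
-/

set_option autoImplicit false
set_option synthInstance.maxHeartbeats 400000
set_option maxHeartbeats 4000000
set_option linter.style.haveILetI false
set_option linter.unusedSectionVars false
set_option linter.unusedVariables false
set_option linter.unusedSimpArgs false
set_option linter.unnecessarySimpa false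

universe v₁ u₁ u
open CategoryTheory Limits MonoidalCategory CartesianMonoidalCategory MonObj AlgebraicGeometry Opposite
open Magnet Magnet.MonAct

namespace Groth.Agent.Helper2.MagnetComap3

open Groth.Agent.Helper2.MagnetDom Groth.Agent.Helper2.MagnetCat Groth.Agent.Helper2.MagnetUnits
  Groth.Agent.Helper2.MagnetOpen Groth.Agent.Helper2.MagnetFun Groth.Agent.Helper2.MagnetLoc
  Groth.Agent.Helper2.MagnetComul Groth.Agent.Helper2.MagnetPts Groth.Agent.Helper2.GroupAlgFree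
  Groth.Agent.Helper2.MagnetFixed Groth.Agent.Helper2.CharAlg

section General

variable {C : Type u₁} [Category.{v₁} C] [CartesianMonoidalCategory C]

theorem isEquivariant_of_cover {A B' P X : C} [MonObj A] (ρ : MonAct A B') (a : MonAct A X)
    (m : A ⊗ P ⟶ B')
    (hm : ∀ (K : C) (g' g : K ⟶ A) (w : K ⟶ P),
      lift g' (lift g w ≫ m) ≫ ρ.act = lift (g' * g) w ≫ m)
    (φ : B' ⟶ X) (ψ₀ : P ⟶ X) (h : m ≫ φ = (A ◁ ψ₀) ≫ a.act)
    (hcancel : ∀ f₁ f₂ : A ⊗ B' ⟶ X, (A ◁ m) ≫ f₁ = (A ◁ m) ≫ f₂ → f₁ = f₂) :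
    IsEquivariant ρ a φ := by
  unfold IsEquivariant
  apply hcancel
  apply hom_ext_lift₂
  intro K g' z
  rw [← lift_comp_fst_snd z]
  generalize z ≫ fst A P = g
  generalize z ≫ snd A P = w
  have key : ∀ (g₀ : K ⟶ A), lift g₀ w ≫ m ≫ φ = lift g₀ (w ≫ ψ₀) ≫ a.act := by
    intro g₀
    rw [h, lift_whiskerLeft_assoc]
  calc lift g' (lift g w) ≫ (A ◁ m) ≫ ρ.act ≫ φ
      = (lift g' (lift g w ≫ m) ≫ ρ.act) ≫ φ := by
        rw [lift_whiskerLeft_assoc, Category.assoc]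
    _ = (lift (g' * g) w ≫ m) ≫ φ := by rw [hm]
    _ = lift (g' * g) (w ≫ ψ₀) ≫ a.act := by rw [Category.assoc, key]
    _ = lift g' (lift g (w ≫ ψ₀) ≫ a.act) ≫ a.act := a.lift_mul_act g' g (w ≫ ψ₀)
    _ = lift g' ((lift g w ≫ m) ≫ φ) ≫ a.act := by rw [Category.assoc, key]
    _ = lift g' (lift g w) ≫ (A ◁ m) ≫ (A ◁ φ) ≫ a.act := by
        rw [lift_whiskerLeft_assoc, lift_whiskerLeft_assoc]

variable {A B B₂ X : C} [MonObj A] [MonObj B]

/-- the map `(g, y, t) ↦ (π(g) gm(y), t)` -/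
noncomputable def mT (π : A ⟶ B) [IsMonHom π] (gm : B₂ ⟶ B) (T : C) :
    A ⊗ (B₂ ⊗ T) ⟶ B ⊗ T :=
  (A ◁ (gm ▷ T)) ≫ (((regular B).restrict π).prod (trivial A T)).act

theorem lift_mT (π : A ⟶ B) [IsMonHom π] (gm : B₂ ⟶ B) (T : C) {K : C} (g : K ⟶ A)
    (y : K ⟶ B₂) (t : K ⟶ T) :
    lift g (lift y t) ≫ mT π gm T = lift ((g ≫ π) * (y ≫ gm)) t := by
  unfold mT
  rw [lift_whiskerLeft_assoc, lift_whiskerRight, lift_prod_act, lift_restrict_act,
    lift_regular_act, lift_trivial_act]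

theorem mT_equivariant (π : A ⟶ B) [IsMonHom π] (gm : B₂ ⟶ B) (T : C) {K : C} (g' g : K ⟶ A)
    (w : K ⟶ B₂ ⊗ T) :
    lift g' (lift g w ≫ mT π gm T) ≫ (((regular B).restrict π).prod (trivial A T)).act =
      lift (g' * g) w ≫ mT π gm T := by
  rw [← lift_comp_fst_snd w]
  generalize w ≫ fst B₂ T = y
  generalize w ≫ snd B₂ T = t
  rw [lift_mT, lift_mT, lift_prod_act, lift_restrict_act, lift_regular_act, lift_trivial_act,
    MonObj.mul_comp, _root_.mul_assoc]

theorem mT_comp_of_equivariant (π : A ⟶ B) [IsMonHom π] (gm : B₂ ⟶ B) (T : C) (a : MonAct A X)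
    (φ : B ⊗ T ⟶ X)
    (hφ : IsEquivariant (((regular B).restrict π).prod (trivial A T)) a φ) :
    mT π gm T ≫ φ = (A ◁ ((gm ▷ T) ≫ φ)) ≫ a.act := by
  unfold mT
  unfold IsEquivariant at hφ
  rw [Category.assoc, hφ, MonoidalCategory.whiskerLeft_comp, Category.assoc]

theorem unit_mT (π : A ⟶ B) [IsMonHom π] (gm : B₂ ⟶ B) (T : C) :
    lift (toUnit (B₂ ⊗ T) ≫ η[A]) (𝟙 (B₂ ⊗ T)) ≫ mT π gm T = gm ▷ T := by
  have h1 : lift (toUnit (B₂ ⊗ T) ≫ η[A]) (𝟙 (B₂ ⊗ T)) =
      lift (toUnit (B₂ ⊗ T) ≫ η[A]) (lift (fst B₂ T) (snd B₂ T)) := by rw [lift_fst_snd]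
  rw [h1, lift_mT, Category.assoc, IsMonHom.one_hom, ← Hom.one_def, _root_.one_mul]
  apply CartesianMonoidalCategory.hom_ext
  · rw [lift_fst, whiskerRight_fst]
  · rw [lift_snd, whiskerRight_snd]

theorem eq_lift₃ {P : C} {T K : C} (u : K ⟶ A ⊗ (P ⊗ T)) :
    u = lift (u ≫ fst _ _) (lift ((u ≫ snd _ _) ≫ fst _ _) ((u ≫ snd _ _) ≫ snd _ _)) := by
  rw [lift_comp_fst_snd, lift_comp_fst_snd]

end General

section Descent

variable {S : Scheme.{u}}

theorem exists_pullback_cover {G₁ G₂ P : Over S} (π₁ : G₁ ⟶ G₂) (hfl : Flat π₁.left)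
    (hsu : Surjective π₁.left) (hqc : QuasiCompact π₁.left) (r : P ⟶ G₂) :
    ∃ (W' : Over S) (c : W' ⟶ P) (g : W' ⟶ G₁),
      Flat c.left ∧ Surjective c.left ∧ QuasiCompact c.left ∧ g ≫ π₁ = c ≫ r := by
  have hsq := IsPullback.of_hasPullback π₁.left r.left
  have hw : pullback.fst π₁.left r.left ≫ G₁.hom = pullback.snd π₁.left r.left ≫ P.hom := by
    rw [← Over.w π₁, ← Over.w r, ← Category.assoc, ← Category.assoc, pullback.condition]
  refine ⟨Over.mk (pullback.snd π₁.left r.left ≫ P.hom),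
    Over.homMk (pullback.snd π₁.left r.left) rfl,
    Over.homMk (pullback.fst π₁.left r.left) hw, ?_, ?_, ?_, ?_⟩
  · exact MorphismProperty.of_isPullback (P := @Flat) hsq hfl
  · exact MorphismProperty.of_isPullback (P := @Surjective) hsq hsu
  · exact MorphismProperty.of_isPullback (P := @QuasiCompact) hsq hqc
  · apply Over.OverMorphism.ext
    exact pullback.condition

theorem cancel_of_local_section {P' P X W' : Over S} (m : P' ⟶ P) (c : W' ⟶ P)
    (hfl : Flat c.left) (hsu : Surjective c.left) (hqc : QuasiCompact c.left) (s : W' ⟶ P')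
    (hs : s ≫ m = c) (φ₁ φ₂ : P ⟶ X) (h : m ≫ φ₁ = m ≫ φ₂) : φ₁ = φ₂ := by
  haveI := hfl
  haveI := hsu
  haveI := hqc
  apply cancel_of_cover c
  rw [← hs, Category.assoc, Category.assoc, h]

theorem exists_desc_of_local_section {P' P X W' : Over S} (m : P' ⟶ P) (c : W' ⟶ P)
    (hfl : Flat c.left) (hsu : Surjective c.left) (hqc : QuasiCompact c.left) (s : W' ⟶ P')
    (hs : s ≫ m = c) (o : P' ⟶ X)
    (hDC : ∀ (K : Over S) (u₁ u₂ : K ⟶ P'), u₁ ≫ m = u₂ ≫ m → u₁ ≫ o = u₂ ≫ o) :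
    ∃ φ : P ⟶ X, m ≫ φ = o := by
  haveI := hfl
  haveI := hsu
  haveI := hqc
  obtain ⟨φ, hφ⟩ := exists_desc_of_cover c (s ≫ o) (fun K v₁ v₂ hv => by
    rw [← Category.assoc, ← Category.assoc]
    apply hDC
    rw [Category.assoc, Category.assoc, hs, hv])
  refine ⟨φ, ?_⟩
  obtain ⟨K', p, v, hpfl, hpsu, hpqc, hpv⟩ := exists_pullback_cover c hfl hsu hqc m
  haveI := hpfl
  haveI := hpsu
  haveI := hpqc
  apply cancel_of_cover p
  have h1 : (v ≫ s) ≫ o = p ≫ o := hDC K' (v ≫ s) p (by rw [Category.assoc, hs, hpv])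
  rw [← Category.assoc, ← hpv, Category.assoc, hφ, ← Category.assoc, h1]

end Descent

section Main

variable (S : Scheme.{u})

theorem cover_props₀ {M : Type} [AddCommGroup M] (Z : AddSubgroup M) :
    Flat (AMonS.map S Z.toAddSubmonoid.subtype).left ∧
      Surjective (AMonS.map S Z.toAddSubmonoid.subtype).left ∧
      QuasiCompact (AMonS.map S Z.toAddSubmonoid.subtype).left := by
  obtain ⟨h1, h2⟩ := flat_surj_AMon_map.{u} Z
  have h3 : QuasiCompact (AMon.map (ULift.{u} ℤ) Z.toAddSubmonoid.subtype).left :=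
    inferInstanceAs (QuasiCompact (Spec.map (iotaHom.{u} Z.toAddSubmonoid.subtype)))
  exact ⟨Groth.Agent.Lib.Helper6.DS.prop_pullback_map (tau S) @Flat
      (AMon.map (ULift.{u} ℤ) Z.toAddSubmonoid.subtype) h1,
    Groth.Agent.Lib.Helper6.DS.prop_pullback_map (tau S) @Surjective
      (AMon.map (ULift.{u} ℤ) Z.toAddSubmonoid.subtype) h2,
    Groth.Agent.Lib.Helper6.DS.prop_pullback_map (tau S) @QuasiCompact
      (AMon.map (ULift.{u} ℤ) Z.toAddSubmonoid.subtype) h3⟩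

variable {M Z : Type} [AddCommGroup M] [AddCommGroup Z] (f : M →+ Z) (Y : AddSubmonoid Z)

/-- the monoid map `f⁻¹Y → Y` -/
noncomputable abbrev g₀ : ↥(Y.comap f) →+ ↥Y :=
  (f.comp (Y.comap f).subtype).codRestrict Y (fun x => x.2)

theorem exists_local_section (hY : Y ≤ AddMonoidHom.mrange f) (T : Over S) :
    ∃ (W' : Over S) (c : W' ⟶ AMonS S ↥(Y.comap f) ⊗ T)
      (s : W' ⟶ AMonS S M ⊗ (AMonS S ↥Y ⊗ T)),
      Flat c.left ∧ Surjective c.left ∧ QuasiCompact c.left ∧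
      s ≫ mT (AMonS.map S (Y.comap f).subtype) (AMonS.map S (g₀ f Y)) T = c := by
  have h0N : (f.ker).toAddSubmonoid ≤ Y.comap f := by
    intro z hz
    show f z ∈ Y
    rw [(AddMonoidHom.mem_ker).1 hz]
    exact Y.zero_mem
  obtain ⟨hfl, hsu, hqc⟩ := cover_props₀ S f.ker
  obtain ⟨W', c, g, hcfl, hcsu, hcqc, hcg⟩ := exists_pullback_cover
    (AMonS.map S (f.ker).toAddSubmonoid.subtype) hfl hsu hqc
    (fst (AMonS S ↥(Y.comap f)) T ≫ AMonS.map S (AddSubmonoid.inclusion h0N))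
  obtain ⟨d, hd⟩ := exists_char_section f Y (fun y hy => AddMonoidHom.mem_mrange.1 (hY hy))
    (charOf S ↥(Y.comap f) (c ≫ fst _ _)) (charOf S M g) (by
      intro n hn
      have hnk : n.1 ∈ (f.ker).toAddSubmonoid := (AddMonoidHom.mem_ker).2 hn
      have h1 : charOf S ↥(f.ker).toAddSubmonoid
          (g ≫ AMonS.map S (f.ker).toAddSubmonoid.subtype) (Multiplicative.ofAdd ⟨n.1, hnk⟩) =
          charOf S ↥(f.ker).toAddSubmonoid
            ((c ≫ fst _ _) ≫ AMonS.map S (AddSubmonoid.inclusion h0N))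
            (Multiplicative.ofAdd ⟨n.1, hnk⟩) := by
        rw [hcg, Category.assoc]
      rw [charOf_map, charOf_map] at h1
      exact h1.symm)
  obtain ⟨y, hy⟩ := exists_point S ↥Y d
  refine ⟨W', c, lift g (lift y (c ≫ snd _ _)), hcfl, hcsu, hcqc, ?_⟩
  rw [lift_mT]
  have h2 : (g ≫ AMonS.map S (Y.comap f).subtype) * (y ≫ AMonS.map S (g₀ f Y)) =
      c ≫ fst _ _ := by
    apply charOf_injective S ↥(Y.comap f)
    apply MonoidHom.ext
    intro n
    rw [charOf_mul, charOf_map, charOf_map, hy]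
    exact (hd (Multiplicative.toAdd n)).symm
  rw [h2]
  exact lift_comp_fst_snd c

theorem orbit_eq_of_mT_eq (hY : Y ≤ AddMonoidHom.mrange f) {X : Over S}
    (a : MonAct (AMonS S M) X) (T : Over S) (ψ : AMonS S ↥Y ⊗ T ⟶ X)
    (hψ : IsEquivariant ((subAct S Z Y).prod (trivial (AMonS S Z) T))
      (a.restrict (AMonS.map S f)) ψ)
    {K : Over S} (g₁ g₂ : K ⟶ AMonS S M) (y₁ y₂ : K ⟶ AMonS S ↥Y) (t : K ⟶ T)
    (h : (g₁ ≫ AMonS.map S (Y.comap f).subtype) * (y₁ ≫ AMonS.map S (g₀ f Y)) =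
      (g₂ ≫ AMonS.map S (Y.comap f).subtype) * (y₂ ≫ AMonS.map S (g₀ f Y))) :
    lift g₁ (lift y₁ t ≫ ψ) ≫ a.act = lift g₂ (lift y₂ t ≫ ψ) ≫ a.act := by
  have hchar : ∀ n : ↥(Y.comap f),
      charOf S M g₁ (Multiplicative.ofAdd n.1) *
        charOf S ↥Y y₁ (Multiplicative.ofAdd (⟨f n.1, n.2⟩ : ↥Y)) =
      charOf S M g₂ (Multiplicative.ofAdd n.1) *
        charOf S ↥Y y₂ (Multiplicative.ofAdd (⟨f n.1, n.2⟩ : ↥Y)) := by
    intro n
    have h1 : charOf S ↥(Y.comap f)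
        ((g₁ ≫ AMonS.map S (Y.comap f).subtype) * (y₁ ≫ AMonS.map S (g₀ f Y)))
        (Multiplicative.ofAdd n) =
        charOf S ↥(Y.comap f)
          ((g₂ ≫ AMonS.map S (Y.comap f).subtype) * (y₂ ≫ AMonS.map S (g₀ f Y)))
          (Multiplicative.ofAdd n) := by rw [h]
    rw [charOf_mul, charOf_mul, charOf_map, charOf_map, charOf_map, charOf_map] at h1
    exact h1
  have hYr : ∀ y ∈ Y, y ∈ (f.range).toAddSubmonoid := fun y hy =>
    (AddMonoidHom.mem_range (f := f)).2 (AddMonoidHom.mem_mrange.1 (hY hy))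
  obtain ⟨hb, hb1, hb2⟩ := exists_char_ratio f Y (f.range).toAddSubmonoid
    (fun y hy => AddMonoidHom.mem_mrange.1 (hY hy))
    (fun m => (AddMonoidHom.mem_range (f := f)).2 ⟨m, rfl⟩)
    (fun z hz => (AddMonoidHom.mem_range (f := f)).1 hz) hYr
    (charOf S M g₁) (charOf S M g₂) (charOf S ↥Y y₁) (charOf S ↥Y y₂) hchar
  obtain ⟨hbp, hhbp⟩ := exists_point S ↥(f.range).toAddSubmonoid hb
  obtain ⟨hfl, hsu, hqc⟩ := cover_props₀ S f.range
  obtain ⟨K', p, k, hpfl, hpsu, hpqc, hpk⟩ := exists_pullback_cover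
    (AMonS.map S (f.range).toAddSubmonoid.subtype) hfl hsu hqc hbp
  haveI := hpfl
  haveI := hpsu
  haveI := hpqc
  apply cancel_of_cover p
  have hk : ∀ z₁ : ↥(f.range).toAddSubmonoid,
      charOf S Z k (Multiplicative.ofAdd z₁.1) =
        p.left.appTop (hb (Multiplicative.ofAdd z₁)) := by
    intro z₁
    have h1 : charOf S ↥(f.range).toAddSubmonoid
        (k ≫ AMonS.map S (f.range).toAddSubmonoid.subtype) (Multiplicative.ofAdd z₁) =
        charOf S ↥(f.range).toAddSubmonoid (p ≫ hbp) (Multiplicative.ofAdd z₁) := by rw [hpk]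
    rw [charOf_map, charOf_comp, hhbp] at h1
    exact h1
  have F1 : p ≫ g₂ = (p ≫ g₁) * (k ≫ AMonS.map S f) := by
    apply charOf_injective S M
    apply MonoidHom.ext
    intro m
    have e1 : charOf S M (p ≫ g₂) m = p.left.appTop (charOf S M g₂ m) := charOf_comp S M p g₂ m
    have e2 : charOf S M (p ≫ g₁) m = p.left.appTop (charOf S M g₁ m) := charOf_comp S M p g₁ m
    have e3 : charOf S M (k ≫ AMonS.map S f) m =
        charOf S Z k (AddMonoidHom.toMultiplicative f m) := charOf_map S f k m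
    rw [charOf_mul, e1, e2, e3]
    have h1 := hb1 (Multiplicative.toAdd m)
    have h2 := hk ⟨f (Multiplicative.toAdd m),
      (AddMonoidHom.mem_range (f := f)).2 ⟨Multiplicative.toAdd m, rfl⟩⟩
    refine (congrArg (fun r => p.left.appTop r) h1).trans ?_
    rw [map_mul]
    congr 1
    exact h2.symm
  have F2 : p ≫ y₁ = (k ≫ AMonS.map S Y.subtype) * (p ≫ y₂) := by
    apply charOf_injective S ↥Y
    apply MonoidHom.ext
    intro y
    have e1 : charOf S ↥Y (p ≫ y₁) y = p.left.appTop (charOf S ↥Y y₁ y) := charOf_comp S ↥Y p y₁ y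
    have e2 : charOf S ↥Y (p ≫ y₂) y = p.left.appTop (charOf S ↥Y y₂ y) := charOf_comp S ↥Y p y₂ y
    have e3 : charOf S ↥Y (k ≫ AMonS.map S Y.subtype) y =
        charOf S Z k (AddMonoidHom.toMultiplicative Y.subtype y) := charOf_map S Y.subtype k y
    rw [charOf_mul, e1, e2, e3]
    have h1 := hb2 (Multiplicative.toAdd y)
    have h2 := hk ⟨(Multiplicative.toAdd y).1, hYr _ (Multiplicative.toAdd y).2⟩
    refine (congrArg (fun r => p.left.appTop r) h1).trans ?_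
    rw [map_mul]
    congr 1
    exact h2.symm
  rw [mem_eqvHom_iff] at hψ
  have hψ' := hψ K' k (p ≫ y₂) (p ≫ t)
  have hact : lift k (p ≫ y₂) ≫ (subAct S Z Y).act =
      (k ≫ AMonS.map S Y.subtype) * (p ≫ y₂) := by
    change lift k (p ≫ y₂) ≫ ((regular (AMonS S ↥Y)).restrict (AMonS.map S Y.subtype)).act = _
    rw [lift_restrict_act, lift_regular_act]
  rw [hact, ← F2, lift_restrict_act] at hψ'
  rw [comp_lift_assoc, comp_lift_assoc, comp_lift_assoc, comp_lift_assoc, F1, lift_mul_act,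
    ← hψ']

theorem main18298 (S : Scheme.{u}) (M Z : Type) [AddCommGroup M] [AddCommGroup Z] (f : M →+ Z)
    (Y : AddSubmonoid Z) (hY : Y ≤ AddMonoidHom.mrange f) (X : Over S)
    (a : MonAct (AMonS S M) X) : IsIso (attrComap a f Y) := by
  rw [NatTrans.isIso_iff_isIso_app]
  intro T
  rw [isIso_iff_bijective]
  obtain ⟨W', c, s, hcfl, hcsu, hcqc, hsc⟩ := exists_local_section S f Y hY (unop T)
  constructor
  · intro φ₁ φ₂ h
    apply Subtype.ext
    have h' : (AMonS.map S (g₀ f Y) ▷ unop T) ≫ φ₁.1 =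
        (AMonS.map S (g₀ f Y) ▷ unop T) ≫ φ₂.1 := congrArg Subtype.val h
    apply cancel_of_local_section
      (mT (AMonS.map S (Y.comap f).subtype) (AMonS.map S (g₀ f Y)) (unop T)) c hcfl hcsu hcqc s hsc
    rw [mT_comp_of_equivariant _ _ _ a φ₁.1 φ₁.2, mT_comp_of_equivariant _ _ _ a φ₂.1 φ₂.2, h']
  · intro ψ
    obtain ⟨φ, hφ⟩ := exists_desc_of_local_section
      (mT (AMonS.map S (Y.comap f).subtype) (AMonS.map S (g₀ f Y)) (unop T)) c hcfl hcsu hcqc s hsc
      ((AMonS S M ◁ ψ.1) ≫ a.act) (by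
        intro K u₁ u₂ hu
        obtain ⟨g₁, y₁, t₁, rfl⟩ : ∃ g₁ y₁ t₁, u₁ = lift g₁ (lift y₁ t₁) :=
          ⟨_, _, _, eq_lift₃ u₁⟩
        obtain ⟨g₂, y₂, t₂, rfl⟩ : ∃ g₂ y₂ t₂, u₂ = lift g₂ (lift y₂ t₂) :=
          ⟨_, _, _, eq_lift₃ u₂⟩
        rw [lift_mT, lift_mT] at hu
        have h1 := congrArg (fun v => v ≫ fst _ _) hu
        have h2 := congrArg (fun v => v ≫ snd _ _) hu
        simp only [lift_fst, lift_snd] at h1 h2
        rw [lift_whiskerLeft_assoc, lift_whiskerLeft_assoc, ← h2]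
        exact orbit_eq_of_mT_eq S f Y hY a (unop T) ψ.1 ψ.2 g₁ g₂ y₁ y₂ t₁ h1)
    have hcancelG : ∀ f₁ f₂ : AMonS S M ⊗ (AMonS S ↥(Y.comap f) ⊗ unop T) ⟶ X,
        (AMonS S M ◁ mT (AMonS.map S (Y.comap f).subtype) (AMonS.map S (g₀ f Y)) (unop T)) ≫ f₁ =
          (AMonS S M ◁ mT (AMonS.map S (Y.comap f).subtype) (AMonS.map S (g₀ f Y)) (unop T)) ≫
            f₂ → f₁ = f₂ := by
      intro f₁ f₂ hf
      refine cancel_of_local_section
        (AMonS S M ◁ mT (AMonS.map S (Y.comap f).subtype) (AMonS.map S (g₀ f Y)) (unop T))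
        (AMonS S M ◁ c) ?_ ?_ ?_ (AMonS S M ◁ s) ?_ f₁ f₂ hf
      · exact MorphismProperty.of_isPullback (P := @Flat)
          (isPullback_whiskerLeft (AMonS S M) c).flip hcfl
      · exact MorphismProperty.of_isPullback (P := @Surjective)
          (isPullback_whiskerLeft (AMonS S M) c).flip hcsu
      · exact MorphismProperty.of_isPullback (P := @QuasiCompact)
          (isPullback_whiskerLeft (AMonS S M) c).flip hcqc
      · rw [← MonoidalCategory.whiskerLeft_comp, hsc]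
    have heq : IsEquivariant ((subAct S M (Y.comap f)).prod (trivial _ (unop T))) a φ :=
      isEquivariant_of_cover _ a
        (mT (AMonS.map S (Y.comap f).subtype) (AMonS.map S (g₀ f Y)) (unop T))
        (fun K g' g w => mT_equivariant _ _ _ g' g w) φ ψ.1 hφ hcancelG
    refine ⟨⟨φ, heq⟩, ?_⟩
    apply Subtype.ext
    change (AMonS.map S (g₀ f Y) ▷ unop T) ≫ φ = ψ.1
    rw [← unit_mT (AMonS.map S (Y.comap f).subtype) (AMonS.map S (g₀ f Y)) (unop T),
      Category.assoc, hφ, lift_whiskerLeft_assoc, Category.id_comp, ← Hom.one_def]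
    exact a.lift_one_act ψ.1

end Main

end Groth.Agent.Helper2.MagnetComap3
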