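import Groth.Prelude.Def_Magnet4
import Mathlib

/-!
# Faces of finitely generated monoids are cut out by a character to `ℕ` (helper2)

`exists_face_char`: for a face `F` of a finitely generated submonoid `N` of a commutative group there
is an additive map `χ : N → ℕ` with `χ⁻¹(0) = F`.  Ingredients: Gordan's theorem of the alternative
over `ℚ` (`gordan`, proved by induction on the number of forms), injectivity of `ℚ` as an abelian
group (`exists_hom_rat`), and clearing of denominators.
-/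

set_option autoImplicit false
set_option synthInstance.maxHeartbeats 400000
set_option maxHeartbeats 4000000
set_option linter.style.haveILetI false
set_option linter.unusedSectionVars false
set_option linter.unusedVariables false
set_option linter.unusedSimpArgs false
set_option linter.unnecessarySimpa false

namespace Groth.Agent.Helper2.FaceChar

section Gordan

variable {D : Type*} [AddCommGroup D] [Module ℚ D]

theorem gordan_perturb {n : ℕ} (a : Fin n → D →ₗ[ℚ] ℚ) (l : D →ₗ[ℚ] ℚ) (hl : l ≠ 0) (y : D)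
    (hy : ∀ j, 0 < a j y) (hly : l y = 0) : ∃ y' : D, (∀ j, 0 < a j y') ∧ 0 < l y' := by
  obtain ⟨z₀, hz₀⟩ : ∃ z, l z ≠ 0 := by
    by_contra hcon
    push Not at hcon
    exact hl (LinearMap.ext fun z => by simpa using hcon z)
  obtain ⟨z, hz⟩ : ∃ z, 0 < l z := by
    rcases lt_or_gt_of_ne hz₀ with h | h
    · exact ⟨-z₀, by rw [map_neg]; linarith⟩
    · exact ⟨z₀, h⟩
  obtain ⟨r, hr⟩ : ∃ r : Fin n → ℚ, r = fun j => |a j z| / a j y := ⟨_, rfl⟩
  have hr0 : ∀ j, 0 ≤ r j := fun j => by
    rw [hr]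
    exact div_nonneg (abs_nonneg _) (hy j).le
  have hrj : ∀ j, r j ≤ ∑ k, r k := fun j =>
    Finset.single_le_sum (fun k _ => hr0 k) (Finset.mem_univ j)
  refine ⟨(1 + ∑ k, r k) • y + z, fun j => ?_, ?_⟩
  · rw [map_add, map_smul, smul_eq_mul]
    have h1 : |a j z| = r j * a j y := by
      rw [hr]
      exact (div_mul_cancel₀ _ (hy j).ne').symm
    have h2 : -|a j z| ≤ a j z := neg_abs_le _
    have h3 : 0 < (1 + ∑ k, r k - r j) * a j y := mul_pos (by linarith [hrj j]) (hy j)
    have h3' : 0 < (1 + ∑ k, r k) * a j y - r j * a j y := by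
      rw [← sub_mul]
      exact h3
    linarith
  · rw [map_add, map_smul, hly, smul_zero, zero_add]
    exact hz

/-- **Gordan's theorem** (dual form): finitely many linear forms on a `ℚ`-vector space without a
nontrivial nonnegative linear relation are simultaneously positive at some vector. -/
theorem gordan : ∀ (n : ℕ) (a : Fin n → D →ₗ[ℚ] ℚ),
    (∀ b : Fin n → ℚ, (∀ j, 0 ≤ b j) → (∑ j, b j • a j) = 0 → ∀ j, b j = 0) →
    ∃ y : D, ∀ j, 0 < a j y := by
  intro n
  induction n with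
  | zero =>
    intro a _
    exact ⟨0, fun j => j.elim0⟩
  | succ n ih =>
    intro a ha
    have hrel : ∀ (u : Fin n → ℚ) (s : ℚ), (∀ j, 0 ≤ u j) → 0 ≤ s →
        (∑ j, u j • a j.castSucc) + s • a (Fin.last n) = 0 → (∀ j, u j = 0) ∧ s = 0 := by
      intro u s hu hs h
      have hb : ∀ j, 0 ≤ (Fin.snoc u s : Fin (n + 1) → ℚ) j := by
        intro j
        refine Fin.lastCases ?_ (fun i => ?_) j
        · rw [Fin.snoc_last]
          exact hs
        · rw [Fin.snoc_castSucc]
          exact hu i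
      have hsum : ∑ j, (Fin.snoc u s : Fin (n + 1) → ℚ) j • a j = 0 := by
        rw [Fin.sum_univ_castSucc]
        simp only [Fin.snoc_castSucc, Fin.snoc_last]
        exact h
      have key := ha _ hb hsum
      refine ⟨fun j => ?_, ?_⟩
      · have h1 := key j.castSucc
        rwa [Fin.snoc_castSucc] at h1
      · have h1 := key (Fin.last n)
        rwa [Fin.snoc_last] at h1
    have hl0 : a (Fin.last n) ≠ 0 := by
      intro h0
      have := (hrel (fun _ => 0) 1 (fun _ => le_rfl) zero_le_one (by simp [h0])).2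
      exact one_ne_zero this
    have ha'rel : ∀ b : Fin n → ℚ, (∀ j, 0 ≤ b j) → (∑ j, b j • a j.castSucc) = 0 →
        ∀ j, b j = 0 := by
      intro b hb h
      exact (hrel b 0 hb le_rfl (by rw [h, zero_smul, add_zero])).1
    obtain ⟨y, hy0⟩ := ih (fun j => a j.castSucc) ha'rel
    have hy : ∀ j : Fin n, 0 < a j.castSucc y := hy0
    have finish : ∀ y' : D, (∀ j : Fin n, 0 < a j.castSucc y') → 0 < a (Fin.last n) y' →
        ∃ y : D, ∀ j, 0 < a j y := by
      intro y' h1 h2
      refine ⟨y', fun j => ?_⟩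
      refine Fin.lastCases ?_ (fun i => ?_) j
      · exact h2
      · exact h1 i
    rcases lt_trichotomy (a (Fin.last n) y) 0 with hc | hc | hc
    · obtain ⟨lam, hlam⟩ : ∃ lam : Fin n → ℚ,
          lam = fun j => -(a j.castSucc y) / (a (Fin.last n) y) := ⟨_, rfl⟩
      have hlampos : ∀ j, 0 < lam j := fun j => by
        rw [hlam]
        exact div_pos_of_neg_of_neg (by linarith [hy j]) hc
      have hlamy : ∀ j : Fin n, a j.castSucc y + lam j * a (Fin.last n) y = 0 := fun j => by
        rw [hlam]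
        show a j.castSucc y + -(a j.castSucc y) / a (Fin.last n) y * a (Fin.last n) y = 0
        rw [div_mul_cancel₀ _ hc.ne]
        ring
      obtain ⟨b, hb⟩ : ∃ b : Fin n → D →ₗ[ℚ] ℚ,
          b = fun j => a j.castSucc + lam j • a (Fin.last n) := ⟨_, rfl⟩
      have hbapp : ∀ j x, b j x = a j.castSucc x + lam j * a (Fin.last n) x := fun j x => by
        rw [hb]
        rfl
      have hbrel : ∀ u : Fin n → ℚ, (∀ j, 0 ≤ u j) → (∑ j, u j • b j) = 0 → ∀ j, u j = 0 := by
        intro u hu h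
        have e : ∑ j, u j • a j.castSucc + (∑ j, u j * lam j) • a (Fin.last n) =
            ∑ j, u j • b j := by
          rw [hb]
          simp only [smul_add, Finset.sum_add_distrib, smul_smul, Finset.sum_smul]
        refine (hrel u (∑ j, u j * lam j) hu
          (Finset.sum_nonneg fun j _ => mul_nonneg (hu j) (hlampos j).le) ?_).1
        rw [e, h]
      obtain ⟨v, hv⟩ := ih b hbrel
      obtain ⟨w, hw⟩ : ∃ w : D, w = v - (a (Fin.last n) v / a (Fin.last n) y) • y := ⟨_, rfl⟩
      have hlw : a (Fin.last n) w = 0 := by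
        rw [hw, map_sub, map_smul, smul_eq_mul, div_mul_cancel₀ _ hc.ne, sub_self]
      have haw : ∀ j : Fin n, 0 < a j.castSucc w := fun j => by
        have e1 : b j w = b j v := by
          rw [hw, map_sub, map_smul, hbapp j y, hlamy j, smul_zero, sub_zero]
        have e2 : a j.castSucc w = b j w := by
          rw [hbapp j w, hlw, mul_zero, add_zero]
        rw [e2, e1]
        exact hv j
      obtain ⟨y', h1, h2⟩ :=
        gordan_perturb (fun j => a j.castSucc) (a (Fin.last n)) hl0 w haw hlw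
      exact finish y' h1 h2
    · obtain ⟨y', h1, h2⟩ :=
        gordan_perturb (fun j => a j.castSucc) (a (Fin.last n)) hl0 y hy hc
      exact finish y' h1 h2
    · exact finish y hy hc

end Gordan

section Sep

/-- `ℚ` is an injective abelian group: a non-torsion element is detected by a character to `ℚ` -/
theorem exists_hom_rat {G : Type*} [AddCommGroup G] (m : G)
    (hm : ∀ k : ℕ, 0 < k → k • m ≠ 0) : ∃ χ : G →+ ℚ, χ m = 1 := by
  have hf : Function.Injective (zmultiplesHom G m) := by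
    rw [injective_iff_map_eq_zero]
    intro k hk
    rw [zmultiplesHom_apply] at hk
    by_contra hk0
    have hpos : 0 < k.natAbs := Int.natAbs_pos.2 hk0
    apply hm k.natAbs hpos
    rcases Int.natAbs_eq k with h | h
    · rw [← natCast_zsmul, ← h]
      exact hk
    · rw [← natCast_zsmul]
      have : ((k.natAbs : ℤ)) = -k := by omega
      rw [this, neg_zsmul, hk, neg_zero]
  obtain ⟨χ, hχ⟩ := (Module.Baer.of_divisible ℚ).extension_property_addMonoidHom
    (zmultiplesHom G m) hf (Int.castAddHom ℚ)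
  refine ⟨χ, ?_⟩
  have := congrArg (fun g => g 1) hχ
  simpa [zmultiplesHom_apply] using this

theorem mem_closure_iff {M : Type*} [AddCommGroup M] (F : AddSubmonoid M) (x : M) :
    x ∈ AddSubgroup.closure (F : Set M) ↔ ∃ f ∈ F, ∃ f' ∈ F, x + f' = f := by
  constructor
  · intro hx
    refine AddSubgroup.closure_induction (p := fun x _ => ∃ f ∈ F, ∃ f' ∈ F, x + f' = f)
      ?_ ?_ ?_ ?_ hx
    · intro x hx
      exact ⟨x, hx, 0, F.zero_mem, add_zero x⟩
    · exact ⟨0, F.zero_mem, 0, F.zero_mem, add_zero 0⟩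
    · rintro x y _ _ ⟨f₁, hf₁, f₁', hf₁', h₁⟩ ⟨f₂, hf₂, f₂', hf₂', h₂⟩
      refine ⟨f₁ + f₂, F.add_mem hf₁ hf₂, f₁' + f₂', F.add_mem hf₁' hf₂', ?_⟩
      rw [← h₁, ← h₂]
      abel
    · rintro x _ ⟨f, hf, f', hf', h⟩
      refine ⟨f', hf', f, hf, ?_⟩
      rw [← h]
      abel
  · rintro ⟨f, hf, f', hf', h⟩
    have : x = f - f' := by rw [← h]; abel
    rw [this]
    exact (AddSubgroup.closure _).sub_mem (AddSubgroup.subset_closure hf)
      (AddSubgroup.subset_closure hf')

end Sep

section Den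

theorem exists_common_den {ι : Type*} [DecidableEq ι] (s : Finset ι) (b : ι → ℚ)
    (hb : ∀ i ∈ s, 0 ≤ b i) :
    ∃ d : ℕ, 0 < d ∧ ∀ i ∈ s, ∃ B : ℕ, (B : ℚ) = d * b i := by
  refine ⟨∏ i ∈ s, (b i).den, Finset.prod_pos fun i _ => (b i).den_pos, fun i hi => ?_⟩
  refine ⟨(∏ j ∈ s.erase i, (b j).den) * (b i).num.toNat, ?_⟩
  have h1 : ((b i).num.toNat : ℚ) = (b i).num := by
    have h0 : 0 ≤ (b i).num := Rat.num_nonneg.2 (hb i hi)
    have : ((b i).num.toNat : ℤ) = (b i).num := Int.toNat_of_nonneg h0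
    exact_mod_cast this
  have h2 : (∏ j ∈ s, (b j).den) = (∏ j ∈ s.erase i, (b j).den) * (b i).den :=
    (Finset.prod_erase_mul s _ hi).symm
  have h3 : ((b i).den : ℚ) * b i = (b i).num := by
    rw [mul_comm]
    exact Rat.mul_den_eq_num (b i)
  rw [h2]
  push_cast
  rw [h1, mul_assoc, h3]

end Den

section Face

variable {M : Type*} [AddCommGroup M] {N F : AddSubmonoid M}

theorem exists_face_hom_rat (hF : Magnet.IsFace N F) (Gs : Finset M)
    (hGs : AddSubmonoid.closure (Gs : Set M) = N) :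
    ∃ ψ : M →+ ℚ, (∀ f ∈ F, ψ f = 0) ∧ ∀ s ∈ Gs, s ∉ F → 0 < ψ s := by
  classical
  obtain ⟨H, hH⟩ : ∃ H : AddSubgroup M, H = AddSubgroup.closure (F : Set M) := ⟨_, rfl⟩
  obtain ⟨J, hJ⟩ : ∃ J : Finset M, J = Gs.filter (fun s => s ∉ F) := ⟨_, rfl⟩
  obtain ⟨g, hg⟩ : ∃ g : Fin J.card → M, g = fun j => ((J.equivFin.symm j : ↥J) : M) := ⟨_, rfl⟩
  have hgJ : ∀ j, g j ∈ J := fun j => by
    rw [hg]
    exact (J.equivFin.symm j).2
  have hgGs : ∀ j, g j ∈ Gs := fun j => by
    have := hgJ j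
    rw [hJ] at this
    exact (Finset.mem_filter.1 this).1
  have hgN : ∀ j, g j ∈ N := fun j => by
    rw [← hGs]
    exact AddSubmonoid.subset_closure (hgGs j)
  have hgF : ∀ j, g j ∉ F := fun j => by
    have := hgJ j
    rw [hJ] at this
    exact (Finset.mem_filter.1 this).2
  have hsurj : ∀ s ∈ J, ∃ j, g j = s := fun s hs => ⟨J.equivFin ⟨s, hs⟩, by
    rw [hg]
    simp⟩
  obtain ⟨a, ha⟩ : ∃ a : Fin J.card → ((M ⧸ H) →+ ℚ) →ₗ[ℚ] ℚ,
      ∀ j χ, a j χ = χ (QuotientAddGroup.mk (g j)) :=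
    ⟨fun j => { toFun := fun χ => χ (QuotientAddGroup.mk (g j))
                map_add' := fun _ _ => rfl
                map_smul' := fun _ _ => rfl }, fun _ _ => rfl⟩
  have hyp : ∀ b : Fin J.card → ℚ, (∀ j, 0 ≤ b j) → (∑ j, b j • a j) = 0 → ∀ j, b j = 0 := by
    intro b hb hsum
    obtain ⟨d, hd, hB0⟩ := exists_common_den Finset.univ b (fun j _ => hb j)
    choose B hB using fun j => hB0 j (Finset.mem_univ j)
    obtain ⟨m₀, hm₀def⟩ : ∃ m₀ : M, m₀ = ∑ j, B j • g j := ⟨_, rfl⟩
    have hm₀ : ∀ χ : (M ⧸ H) →+ ℚ, χ (QuotientAddGroup.mk m₀) = 0 := by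
      intro χ
      have h1 : ∑ j, b j * χ (QuotientAddGroup.mk (g j)) = 0 := by
        have := congrArg (fun φ => φ χ) hsum
        simp only [LinearMap.sum_apply, LinearMap.smul_apply, smul_eq_mul, LinearMap.zero_apply,
          ha] at this
        exact this
      have h2 : χ (QuotientAddGroup.mk m₀) =
          ∑ j, (B j : ℚ) * χ (QuotientAddGroup.mk (g j)) := by
        have e : (QuotientAddGroup.mk m₀ : M ⧸ H) =
            ∑ j, B j • (QuotientAddGroup.mk (g j) : M ⧸ H) := by
          rw [hm₀def]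
          exact (map_sum (QuotientAddGroup.mk' H) _ _).trans
            (Finset.sum_congr rfl fun j _ => map_nsmul (QuotientAddGroup.mk' H) _ _)
        rw [e, map_sum]
        refine Finset.sum_congr rfl fun j _ => ?_
        rw [map_nsmul, nsmul_eq_mul]
      rw [h2]
      calc ∑ j, (B j : ℚ) * χ (QuotientAddGroup.mk (g j))
          = (d : ℚ) * ∑ j, b j * χ (QuotientAddGroup.mk (g j)) := by
            rw [Finset.mul_sum]
            refine Finset.sum_congr rfl fun j _ => ?_
            rw [hB j]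
            ring
        _ = 0 := by rw [h1, mul_zero]
    have htors : ∃ k : ℕ, 0 < k ∧ k • m₀ ∈ H := by
      by_contra hcon
      push Not at hcon
      obtain ⟨χ, hχ⟩ := exists_hom_rat (QuotientAddGroup.mk m₀ : M ⧸ H) (fun k hk h0 =>
        hcon k hk ((QuotientAddGroup.eq_zero_iff _).1
          ((map_nsmul (QuotientAddGroup.mk' H) k m₀).trans h0)))
      rw [hm₀ χ] at hχ
      exact zero_ne_one hχ
    obtain ⟨k, hk, hkm⟩ := htors
    rw [hH] at hkm
    obtain ⟨f, hf, f', hf', hff⟩ := (mem_closure_iff F _).1 hkm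
    have hBz : ∀ j, B j = 0 := by
      intro j₀
      by_contra hne
      have hpos : 0 < k * B j₀ := Nat.mul_pos hk (Nat.pos_of_ne_zero hne)
      have h1 : k • m₀ = ∑ j, (k * B j) • g j := by
        rw [hm₀def, Finset.smul_sum]
        refine Finset.sum_congr rfl fun j _ => ?_
        rw [mul_smul]
      have h2 : (k * B j₀) • g j₀ = g j₀ + (k * B j₀ - 1) • g j₀ := by
        conv_lhs => rw [← Nat.sub_add_cancel hpos]
        rw [succ_nsmul']
      have hdecomp : k • m₀ = g j₀ + ((k * B j₀ - 1) • g j₀ +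
          ∑ j ∈ Finset.univ.erase j₀, (k * B j) • g j) := by
        rw [h1, ← Finset.add_sum_erase _ _ (Finset.mem_univ j₀), h2, add_assoc]
      have hr : ((k * B j₀ - 1) • g j₀ + ∑ j ∈ Finset.univ.erase j₀, (k * B j) • g j) + f' ∈ N :=
        N.add_mem (N.add_mem (N.nsmul_mem (hgN j₀) _)
          (N.sum_mem fun j _ => N.nsmul_mem (hgN j) _)) (hF.le hf')
      have hmem : g j₀ + (((k * B j₀ - 1) • g j₀ +
          ∑ j ∈ Finset.univ.erase j₀, (k * B j) • g j) + f') ∈ F := by
        rw [← add_assoc, ← hdecomp, hff]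
        exact hf
      exact hgF j₀ (hF.mem_of_add_mem _ (hgN j₀) _ hr hmem).1
    intro j
    have h1 := hB j
    rw [hBz j] at h1
    have hd' : (d : ℚ) ≠ 0 := by exact_mod_cast hd.ne'
    have h2 : (d : ℚ) * b j = 0 := by
      rw [← h1]
      simp
    rcases mul_eq_zero.1 h2 with h | h
    · exact absurd h hd'
    · exact h
  obtain ⟨χ₀, hχ₀⟩ := gordan J.card a hyp
  refine ⟨χ₀.comp (QuotientAddGroup.mk' H), fun f hf => ?_, fun s hs hsF => ?_⟩
  · have h0 : (QuotientAddGroup.mk' H) f = 0 := by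
      refine (QuotientAddGroup.eq_zero_iff f).2 ?_
      rw [hH]
      exact AddSubgroup.subset_closure hf
    rw [AddMonoidHom.comp_apply, h0, map_zero]
  · have hsJ : s ∈ J := by
      rw [hJ]
      exact Finset.mem_filter.2 ⟨hs, hsF⟩
    obtain ⟨j, rfl⟩ := hsurj s hsJ
    have := hχ₀ j
    rw [ha] at this
    exact this

/-- a face of a finitely generated submonoid of a commutative group is the zero set of an additive
character to `ℕ` -/
theorem exists_face_char (hF : Magnet.IsFace N F) (hN : N.FG) :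
    ∃ χ : ↥N →+ ℕ, ∀ n : ↥N, χ n = 0 ↔ (n : M) ∈ F := by
  classical
  obtain ⟨Gs, hGs⟩ := hN
  obtain ⟨ψ₀, hψF, hψpos⟩ := exists_face_hom_rat hF Gs hGs
  have hnonneg : ∀ s ∈ Gs, 0 ≤ ψ₀ s := fun s hs => by
    by_cases h : s ∈ F
    · rw [hψF s h]
    · exact (hψpos s hs h).le
  obtain ⟨d, hd, hB⟩ := exists_common_den Gs (fun s => ψ₀ s) hnonneg
  have hdQ : (0 : ℚ) < d := by exact_mod_cast hd
  have hP : ∀ n ∈ N, (∃ k : ℕ, (k : ℚ) = d * ψ₀ n) ∧ (ψ₀ n = 0 → n ∈ F) ∧ 0 ≤ ψ₀ n := by
    intro n hn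
    rw [← hGs] at hn
    refine AddSubmonoid.closure_induction
      (motive := fun n _ => (∃ k : ℕ, (k : ℚ) = d * ψ₀ n) ∧ (ψ₀ n = 0 → n ∈ F) ∧ 0 ≤ ψ₀ n)
      ?_ ?_ ?_ hn
    · intro s hs
      refine ⟨hB s hs, fun h0 => ?_, hnonneg s hs⟩
      by_contra hsF
      exact (hψpos s hs hsF).ne' h0
    · exact ⟨⟨0, by simp⟩, fun _ => F.zero_mem, by simp⟩
    · rintro x y _ _ ⟨⟨kx, hkx⟩, hxF, hx0⟩ ⟨⟨ky, hky⟩, hyF, hy0⟩
      refine ⟨⟨kx + ky, by push_cast; rw [hkx, hky, map_add]; ring⟩, fun h0 => ?_,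
        by rw [map_add]; exact add_nonneg hx0 hy0⟩
      rw [map_add] at h0
      have hx : ψ₀ x = 0 := by linarith
      have hy : ψ₀ y = 0 := by linarith
      exact F.add_mem (hxF hx) (hyF hy)
  choose k hk using fun n : ↥N => (hP n n.2).1
  refine ⟨{ toFun := k, map_zero' := ?_, map_add' := fun x y => ?_ }, fun n => ?_⟩
  · have h0 := hk 0
    rw [AddSubmonoid.coe_zero, map_zero, mul_zero] at h0
    exact_mod_cast h0
  · have h0 : ((k (x + y) : ℕ) : ℚ) = ((k x + k y : ℕ) : ℚ) := by
      push_cast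
      rw [hk, hk, hk, AddSubmonoid.coe_add, map_add, mul_add]
    exact_mod_cast h0
  · change k n = 0 ↔ _
    constructor
    · intro h0
      have h1 := hk n
      rw [h0] at h1
      have h2 : (d : ℚ) * ψ₀ n = 0 := by
        rw [← h1]
        simp
      rcases mul_eq_zero.1 h2 with h | h
      · exact absurd h hdQ.ne'
      · exact (hP n n.2).2.1 h
    · intro hnF
      have h1 := hk n
      rw [hψF _ hnF, mul_zero] at h1
      exact_mod_cast h1

end Face

end Groth.Agent.Helper2.FaceChar
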