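import Groth.Agent.Lib.Helper2.Magnet.FaceHomotopy

/-!
# Connectedness of the fibres of the face projection of attractors (helper2)

Using the homotopy `delta` (multiplication by `c^χ`), every point `z` of a representing scheme `Z_N`
of `X^N` is joined to `s (j z)` by the image of an affine line over its residue field.
-/

set_option autoImplicit false
set_option synthInstance.maxHeartbeats 400000
set_option maxHeartbeats 1000000
set_option linter.style.haveILetI false
set_option linter.unusedSectionVars false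
set_option linter.unusedVariables false
set_option linter.unusedSimpArgs false
set_option linter.unnecessarySimpa false

universe u
open CategoryTheory Limits MonoidalCategory CartesianMonoidalCategory MonObj AlgebraicGeometry Opposite
open Magnet Magnet.MonAct

namespace Groth.Agent.Helper2.FaceConn

open Groth.Agent.Helper2.MagnetDom Groth.Agent.Helper2.MagnetFun Groth.Agent.Helper2.MagnetComul
  Groth.Agent.Helper2.MagnetPts Groth.Agent.Helper2.MagnetGrading Groth.Agent.Helper2.FaceChar
  Groth.Agent.Helper2.FaceHomotopy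

section Delta

variable (S : Scheme.{u}) {M : Type} [AddCommMonoid M] {N F : AddSubmonoid M} (χ : ↥N →+ ℕ)
  {X : Over S} (a : MonAct (AMonS S M) X)

/-- the homotopy `δ(x, c) = x ∘ (· c^χ)` -/
noncomputable def delta (T : Over S) (x : (attr a N).obj (op T)) (c : Γ(T.left, ⊤)) :
    (attr a N).obj (op T) :=
  ⟨mulPt S χ T c ≫ x.1, isEquivariant_mulPt_comp S χ a c x⟩

theorem delta_coe (T : Over S) (x : (attr a N).obj (op T)) (c : Γ(T.left, ⊤)) :
    (delta S χ a T x c).1 = mulPt S χ T c ≫ x.1 := rfl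

theorem delta_naturality {T T' : Over S} (t : T' ⟶ T) (x : (attr a N).obj (op T))
    (c : Γ(T.left, ⊤)) :
    (attr a N).map t.op (delta S χ a T x c) =
      delta S χ a T' ((attr a N).map t.op x) (t.left.appTop c) := by
  apply Subtype.ext
  change (AMonS S ↥N ◁ t) ≫ mulPt S χ T c ≫ x.1 =
    mulPt S χ T' (t.left.appTop c) ≫ (AMonS S ↥N ◁ t) ≫ x.1
  rw [← Category.assoc, ← mulPt_naturality, Category.assoc]

theorem delta_one (T : Over S) (x : (attr a N).obj (op T)) : delta S χ a T x 1 = x :=
  Subtype.ext (by rw [delta_coe, mulPt_one, Category.id_comp])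

theorem delta_zero (hF : IsFace N F) (hχ : ∀ n : ↥N, χ n = 0 ↔ (n : M) ∈ F) (T : Over S)
    (x : (attr a N).obj (op T)) :
    delta S χ a T x 0 = (attrMap a hF.le).app (op T) ((attrFace a hF).app (op T) x) := by
  apply Subtype.ext
  change mulPt S χ T 0 ≫ x.1 = (AMonS.map S (AddSubmonoid.inclusion hF.le) ▷ T) ≫
    (AMonS.faceMap S hF ▷ T) ≫ x.1
  rw [mulPt_zero S χ hF hχ, comp_whiskerRight, Category.assoc]

theorem faceMap_whisker_mulPt (hF : IsFace N F) (hχ : ∀ n : ↥N, χ n = 0 ↔ (n : M) ∈ F)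
    (T : Over S) (c : Γ(T.left, ⊤)) :
    (AMonS.faceMap S hF ▷ T) ≫ mulPt S χ T c = AMonS.faceMap S hF ▷ T := by
  have key : (fst (AMonS S ↥F) T ≫ AMonS.faceMap S hF) *
      (snd (AMonS S ↥F) T ≫ ptPow S χ T c) = fst (AMonS S ↥F) T ≫ AMonS.faceMap S hF := by
    apply charOf_injective S ↥N
    refine MonoidHom.ext fun n' => ?_
    obtain ⟨n, rfl⟩ : ∃ n : ↥N, Multiplicative.ofAdd n = n' := ⟨Multiplicative.toAdd n', rfl⟩
    rw [charOf_mul]
    by_cases h : (n : M) ∈ F
    · rw [charOf_comp S ↥N (snd (AMonS S ↥F) T) (ptPow S χ T c), charOf_ptPow, toAdd_ofAdd,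
        (hχ n).2 h, pow_zero, map_one, _root_.mul_one]
    · rw [charOf_faceMap_of_not_mem S hF _ n h, zero_mul]
  unfold mulPt
  rw [comp_lift, MonObj.comp_mul, whiskerRight_fst, whiskerRight_snd_assoc, whiskerRight_snd, key]
  apply CartesianMonoidalCategory.hom_ext
  · rw [lift_fst, whiskerRight_fst]
  · rw [lift_snd, whiskerRight_snd]

theorem attrFace_delta (hF : IsFace N F) (hχ : ∀ n : ↥N, χ n = 0 ↔ (n : M) ∈ F) (T : Over S)
    (x : (attr a N).obj (op T)) (c : Γ(T.left, ⊤)) :
    (attrFace a hF).app (op T) (delta S χ a T x c) = (attrFace a hF).app (op T) x := by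
  apply Subtype.ext
  change (AMonS.faceMap S hF ▷ T) ≫ mulPt S χ T c ≫ x.1 = (AMonS.faceMap S hF ▷ T) ≫ x.1
  rw [← Category.assoc, faceMap_whisker_mulPt S χ hF hχ]

end Delta

section Rep

variable {S : Scheme.{u}} {M : Type} [AddCommMonoid M] {N F : AddSubmonoid M} (χ : ↥N →+ ℕ)
  {X : Over S} (a : MonAct (AMonS S M) X) (hF : IsFace N F)
  (hχ : ∀ n : ↥N, χ n = 0 ↔ (n : M) ∈ F)
  {ZN Z0 : Over S} (eN : (attr a N).RepresentableBy ZN) (e0 : (attr a F).RepresentableBy Z0)
  (j : ZN ⟶ Z0)
  (hj : ∀ (T : Over S) (z : T ⟶ ZN),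
    e0.homEquiv (z ≫ j) = (attrFace a hF).app (op T) (eN.homEquiv z))

/-- the section of `j` corresponding to `X^F ⟶ X^N` -/
noncomputable def sec : Z0 ⟶ ZN :=
  eN.homEquiv.symm ((attrMap a hF.le).app (op Z0) (e0.homEquiv (𝟙 Z0)))

theorem homEquiv_comp_sec {T : Over S} (y : T ⟶ Z0) :
    eN.homEquiv (y ≫ sec a hF eN e0) = (attrMap a hF.le).app (op T) (e0.homEquiv y) := by
  rw [eN.homEquiv_comp, sec, Equiv.apply_symm_apply]
  have h1 : e0.homEquiv y = (attr a F).map y.op (e0.homEquiv (𝟙 Z0)) := by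
    rw [← e0.homEquiv_comp, Category.comp_id]
  rw [h1]
  apply Subtype.ext
  change (AMonS S ↥N ◁ y) ≫ (AMonS.map S (AddSubmonoid.inclusion hF.le) ▷ Z0) ≫
      (e0.homEquiv (𝟙 Z0)).1 =
    (AMonS.map S (AddSubmonoid.inclusion hF.le) ▷ T) ≫ (AMonS S ↥F ◁ y) ≫
      (e0.homEquiv (𝟙 Z0)).1
  rw [← Category.assoc, whisker_exchange, Category.assoc]

include hj in
theorem sec_comp : sec a hF eN e0 ≫ j = 𝟙 Z0 := by
  apply e0.homEquiv.injective
  rw [hj, sec, Equiv.apply_symm_apply]
  have := congrArg (fun α => α.app (op Z0) (e0.homEquiv (𝟙 Z0))) (attrMap_comp_attrFace a hF)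
  exact this

include hχ hj in
theorem exists_homotopy (L : Type u) [Field L] (w : Spec (CommRingCat.of L) ⟶ ZN.left) :
    ∃ h : Spec (CommRingCat.of (Polynomial L)) ⟶ ZN.left,
      Spec.map (CommRingCat.ofHom (Polynomial.evalRingHom (1 : L))) ≫ h = w ∧
      Spec.map (CommRingCat.ofHom (Polynomial.evalRingHom (0 : L))) ≫ h =
        w ≫ j.left ≫ (sec a hF eN e0).left ∧
      h ≫ j.left = Spec.map (CommRingCat.ofHom (Polynomial.C : L →+* Polynomial L)) ≫
        w ≫ j.left := by
  obtain ⟨π, hπ⟩ : ∃ π : Spec (CommRingCat.of (Polynomial L)) ⟶ Spec (CommRingCat.of L),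
    π = Spec.map (CommRingCat.ofHom (Polynomial.C : L →+* Polynomial L)) := ⟨_, rfl⟩
  have hev : ∀ c : L, Spec.map (CommRingCat.ofHom (Polynomial.evalRingHom c)) ≫ π = 𝟙 _ := by
    intro c
    rw [hπ, ← Spec.map_comp]
    have : CommRingCat.ofHom (Polynomial.C : L →+* Polynomial L) ≫
        CommRingCat.ofHom (Polynomial.evalRingHom c) = 𝟙 _ := by
      ext l
      simp
    rw [this, Spec.map_id]
  -- objects over S
  obtain ⟨zL, hzL⟩ : ∃ zL : Over.mk (w ≫ ZN.hom) ⟶ ZN, zL.left = w := ⟨Over.homMk w rfl, rfl⟩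
  obtain ⟨πo, hπo⟩ : ∃ πo : Over.mk (π ≫ w ≫ ZN.hom) ⟶ Over.mk (w ≫ ZN.hom), πo.left = π :=
    ⟨Over.homMk π rfl, rfl⟩
  have hi : ∀ c : L, ∃ i : Over.mk (w ≫ ZN.hom) ⟶ Over.mk (π ≫ w ≫ ZN.hom),
      i.left = Spec.map (CommRingCat.ofHom (Polynomial.evalRingHom c)) := fun c =>
    ⟨Over.homMk (Spec.map (CommRingCat.ofHom (Polynomial.evalRingHom c))) (by
      change Spec.map (CommRingCat.ofHom (Polynomial.evalRingHom c)) ≫ π ≫ w ≫ ZN.hom =
        w ≫ ZN.hom
      rw [← Category.assoc, hev, Category.id_comp]), rfl⟩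
  obtain ⟨cX, hcX⟩ : ∃ cX : Γ((Over.mk (π ≫ w ≫ ZN.hom)).left, ⊤),
    cX = (Scheme.ΓSpecIso (CommRingCat.of (Polynomial L))).inv Polynomial.X := ⟨_, rfl⟩
  have hcXi : ∀ (c : L) (i : Over.mk (w ≫ ZN.hom) ⟶ Over.mk (π ≫ w ≫ ZN.hom)),
      i.left = Spec.map (CommRingCat.ofHom (Polynomial.evalRingHom c)) →
      i.left.appTop cX = (Scheme.ΓSpecIso (CommRingCat.of L)).inv c := by
    intro c i hi'
    rw [hi', hcX]
    have nat := Scheme.ΓSpecIso_inv_naturality (CommRingCat.ofHom (Polynomial.evalRingHom c))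
    have := congr($nat (Polynomial.X : Polynomial L))
    refine this.symm.trans ?_
    change (Scheme.ΓSpecIso (CommRingCat.of L)).inv (Polynomial.eval c Polynomial.X) = _
    rw [Polynomial.eval_X]
  have hiπ : ∀ (c : L) (i : Over.mk (w ≫ ZN.hom) ⟶ Over.mk (π ≫ w ≫ ZN.hom)),
      i.left = Spec.map (CommRingCat.ofHom (Polynomial.evalRingHom c)) → i ≫ πo = 𝟙 _ := by
    intro c i hi'
    apply Over.OverMorphism.ext
    rw [Over.comp_left, hi', hπo, hev]
    rfl
  -- the homotopy
  obtain ⟨xA, hxA⟩ : ∃ xA, xA = eN.homEquiv (πo ≫ zL) := ⟨_, rfl⟩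
  obtain ⟨h, hh⟩ : ∃ h : Over.mk (π ≫ w ≫ ZN.hom) ⟶ ZN,
    eN.homEquiv h = delta S χ a _ xA cX := ⟨eN.homEquiv.symm _, Equiv.apply_symm_apply _ _⟩
  have hmap : ∀ (c : L) (i : Over.mk (w ≫ ZN.hom) ⟶ Over.mk (π ≫ w ≫ ZN.hom)),
      i.left = Spec.map (CommRingCat.ofHom (Polynomial.evalRingHom c)) →
      eN.homEquiv (i ≫ h) = delta S χ a _ (eN.homEquiv zL)
        ((Scheme.ΓSpecIso (CommRingCat.of L)).inv c) := by
    intro c i hi'
    rw [eN.homEquiv_comp, hh, delta_naturality, hcXi c i hi', hxA, ← eN.homEquiv_comp,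
      ← Category.assoc, hiπ c i hi', Category.id_comp]
  refine ⟨h.left, ?_, ?_, ?_⟩
  · obtain ⟨i, hi'⟩ := hi 1
    have h1 : i ≫ h = zL := by
      apply eN.homEquiv.injective
      rw [hmap 1 i hi', map_one, delta_one]
    rw [← hi', ← Over.comp_left, h1, hzL]
  · obtain ⟨i, hi'⟩ := hi 0
    have h0 : i ≫ h = (zL ≫ j) ≫ sec a hF eN e0 := by
      apply eN.homEquiv.injective
      rw [hmap 0 i hi', map_zero, delta_zero S χ a hF hχ, homEquiv_comp_sec, hj]
    rw [← hi', ← Over.comp_left, h0, Over.comp_left, Over.comp_left, hzL, Category.assoc]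
  · have h2 : h ≫ j = (πo ≫ zL) ≫ j := by
      apply e0.homEquiv.injective
      rw [hj, hh, attrFace_delta S χ a hF hχ, hj, hxA]
    rw [← Over.comp_left, h2, Over.comp_left, Over.comp_left, hπo, hzL, hπ, Category.assoc]

include hχ hj in
theorem mem_connectedComponent_sec (z : ZN.left) :
    z ∈ connectedComponent ((sec a hF eN e0).left (j.left z)) := by
  obtain ⟨h, h1, h0, -⟩ := exists_homotopy χ a hF hχ eN e0 j hj (ZN.left.residueField z)
    (ZN.left.fromSpecResidueField z)
  obtain ⟨p⟩ : Nonempty ↥(Spec (ZN.left.residueField z)) := inferInstance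
  haveI : PreconnectedSpace
      ↥(Spec (CommRingCat.of (Polynomial (ZN.left.residueField z)))) := inferInstance
  have hpre : _root_.IsPreconnected (Set.range h) := isPreconnected_range h.continuous
  have hz : z ∈ Set.range h :=
    ⟨Spec.map (CommRingCat.ofHom (Polynomial.evalRingHom (1 : ZN.left.residueField z))) p, by
      rw [← Scheme.Hom.comp_apply, h1, Scheme.fromSpecResidueField_apply]⟩
  have hs : (sec a hF eN e0).left (j.left z) ∈ Set.range h :=
    ⟨Spec.map (CommRingCat.ofHom (Polynomial.evalRingHom (0 : ZN.left.residueField z))) p, by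
      rw [← Scheme.Hom.comp_apply, h0, Scheme.Hom.comp_apply, Scheme.Hom.comp_apply,
        Scheme.fromSpecResidueField_apply]⟩
  exact hpre.subset_connectedComponent hs hz

include hχ hj in
theorem connectedSpace_fibre (K : Type u) [Field K] (k : Spec (CommRingCat.of K) ⟶ Z0.left) :
    ConnectedSpace ↥(pullback j.left k) := by
  have hsj : (sec a hF eN e0).left ≫ j.left = 𝟙 _ := by
    rw [← Over.comp_left, sec_comp a hF eN e0 j hj]
    rfl
  obtain ⟨b, hb1, hb2⟩ : ∃ b : Spec (CommRingCat.of K) ⟶ pullback j.left k,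
      b ≫ pullback.fst j.left k = k ≫ (sec a hF eN e0).left ∧
        b ≫ pullback.snd j.left k = 𝟙 _ :=
    ⟨pullback.lift (k ≫ (sec a hF eN e0).left) (𝟙 _) (by
      rw [Category.assoc, hsj, Category.comp_id, Category.id_comp]),
      pullback.lift_fst _ _ _, pullback.lift_snd _ _ _⟩
  obtain ⟨q⟩ : Nonempty ↥(Spec (CommRingCat.of K)) := inferInstance
  rw [connectedSpace_iff_connectedComponent]
  refine ⟨b q, Set.eq_univ_of_forall fun zt => ?_⟩
  obtain ⟨wt, hwt⟩ : ∃ wt : Spec ((pullback j.left k).residueField zt) ⟶ pullback j.left k,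
    wt = (pullback j.left k).fromSpecResidueField zt := ⟨_, rfl⟩
  obtain ⟨h, h1, h0, h2⟩ := exists_homotopy χ a hF hχ eN e0 j hj
    ((pullback j.left k).residueField zt) (wt ≫ pullback.fst j.left k)
  have hcond : h ≫ j.left = (Spec.map (CommRingCat.ofHom
      (Polynomial.C : (pullback j.left k).residueField zt →+* _)) ≫ wt ≫
        pullback.snd j.left k) ≫ k := by
    rw [h2]
    simp only [Category.assoc]
    rw [pullback.condition]
  obtain ⟨ht, ht1, ht2⟩ : ∃ ht : Spec (CommRingCat.of
      (Polynomial ((pullback j.left k).residueField zt))) ⟶ pullback j.left k,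
      ht ≫ pullback.fst j.left k = h ∧ ht ≫ pullback.snd j.left k =
        Spec.map (CommRingCat.ofHom
          (Polynomial.C : (pullback j.left k).residueField zt →+* _)) ≫ wt ≫
            pullback.snd j.left k :=
    ⟨pullback.lift _ _ hcond, pullback.lift_fst _ _ _, pullback.lift_snd _ _ _⟩
  have hev : ∀ c : (pullback j.left k).residueField zt,
      Spec.map (CommRingCat.ofHom (Polynomial.evalRingHom c)) ≫
        Spec.map (CommRingCat.ofHom
          (Polynomial.C : (pullback j.left k).residueField zt →+* _)) = 𝟙 _ := by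
    intro c
    rw [← Spec.map_comp]
    have : CommRingCat.ofHom (Polynomial.C : (pullback j.left k).residueField zt →+* _) ≫
        CommRingCat.ofHom (Polynomial.evalRingHom c) = 𝟙 _ := by
      ext l
      simp
    rw [this, Spec.map_id]
  have e1 : Spec.map (CommRingCat.ofHom (Polynomial.evalRingHom
      (1 : (pullback j.left k).residueField zt))) ≫ ht = wt := by
    apply pullback.hom_ext
    · rw [Category.assoc, ht1, h1]
    · rw [Category.assoc, ht2, ← Category.assoc, hev, Category.id_comp]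
  have e0' : Spec.map (CommRingCat.ofHom (Polynomial.evalRingHom
      (0 : (pullback j.left k).residueField zt))) ≫ ht =
      (wt ≫ pullback.snd j.left k) ≫ b := by
    apply pullback.hom_ext
    · rw [Category.assoc, ht1, h0]
      simp only [Category.assoc]
      rw [hb1, pullback.condition_assoc]
    · rw [Category.assoc, ht2, ← Category.assoc, hev, Category.id_comp, Category.assoc, hb2,
        Category.comp_id]
  obtain ⟨p⟩ : Nonempty ↥(Spec ((pullback j.left k).residueField zt)) := inferInstance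
  haveI : PreconnectedSpace ↥(Spec (CommRingCat.of
      (Polynomial ((pullback j.left k).residueField zt)))) := inferInstance
  have hpre : _root_.IsPreconnected (Set.range ht) := isPreconnected_range ht.continuous
  have hz : zt ∈ Set.range ht :=
    ⟨Spec.map (CommRingCat.ofHom (Polynomial.evalRingHom
      (1 : (pullback j.left k).residueField zt))) p, by
      rw [← Scheme.Hom.comp_apply, e1, hwt, Scheme.fromSpecResidueField_apply]⟩
  have hb : b q ∈ Set.range ht :=
    ⟨Spec.map (CommRingCat.ofHom (Polynomial.evalRingHom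
      (0 : (pullback j.left k).residueField zt))) p, by
      rw [← Scheme.Hom.comp_apply, e0', Scheme.Hom.comp_apply]
      congr 1
      exact Subsingleton.elim _ _⟩
  exact hpre.subset_connectedComponent hb hz

include hχ hj in
theorem bijective_connectedComponentsMap :
    Function.Bijective (Continuous.connectedComponentsMap (Scheme.Hom.continuous j.left)) := by
  have hsj : ∀ y : Z0.left, j.left ((sec a hF eN e0).left y) = y := by
    intro y
    rw [← Scheme.Hom.comp_apply, ← Over.comp_left, sec_comp a hF eN e0 j hj]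
    rfl
  constructor
  · intro A B hAB
    obtain ⟨z, rfl⟩ := _root_.ConnectedComponents.surjective_coe A
    obtain ⟨z', rfl⟩ := _root_.ConnectedComponents.surjective_coe B
    have hAB' : (_root_.ConnectedComponents.mk (j.left z) :
        _root_.ConnectedComponents Z0.left) = _root_.ConnectedComponents.mk (j.left z') := hAB
    rw [_root_.ConnectedComponents.coe_eq_coe'] at hAB'
    rw [_root_.ConnectedComponents.coe_eq_coe]
    have h1 : (sec a hF eN e0).left (j.left z) ∈
        connectedComponent ((sec a hF eN e0).left (j.left z')) :=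
      (sec a hF eN e0).left.continuous.image_connectedComponent_subset _ ⟨_, hAB', rfl⟩
    have h2 := mem_connectedComponent_sec χ a hF hχ eN e0 j hj z
    have h3 := mem_connectedComponent_sec χ a hF hχ eN e0 j hj z'
    exact (connectedComponent_eq h2).symm.trans
      ((connectedComponent_eq h1).symm.trans (connectedComponent_eq h3))
  · intro B
    obtain ⟨y, rfl⟩ := _root_.ConnectedComponents.surjective_coe B
    refine ⟨_root_.ConnectedComponents.mk ((sec a hF eN e0).left y), ?_⟩
    rw [Continuous.connectedComponentsMap_mk, hsj]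

end Rep

section Main

theorem main18242 (S : Scheme.{u}) (M : Type) [AddCommGroup M] (N : AddSubmonoid M) (hN : N.FG)
    {X : Over S} (a : Magnet.MonAct (Magnet.AMonS S M) X) {ZN Z0 : Over S}
    (eN : (Magnet.attr a N).RepresentableBy ZN)
    (e0 : (Magnet.attr a (Magnet.unitFace N)).RepresentableBy Z0) (j : ZN ⟶ Z0)
    (hj : ∀ (T : Over S) (z : T ⟶ ZN), e0.homEquiv (z ≫ j) =
      (Magnet.attrFace a (Magnet.isFace_unitFace N)).app (op T) (eN.homEquiv z)) :
    (∀ (K : Type u) [Field K] (k : Spec (CommRingCat.of K) ⟶ Z0.left),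
        ConnectedSpace ↥(Limits.pullback j.left k)) ∧
      Function.Bijective
        (Continuous.connectedComponentsMap (Scheme.Hom.continuous j.left)) := by
  obtain ⟨χ, hχ⟩ := exists_face_char (Magnet.isFace_unitFace N) hN
  exact ⟨fun K _ k => connectedSpace_fibre χ a _ hχ eN e0 j hj K k,
    bijective_connectedComponentsMap χ a _ hχ eN e0 j hj⟩

end Main

end Groth.Agent.Helper2.FaceConn
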