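import Groth.Agent.Lib.Helper2.Magnet.Grading
import Groth.Agent.Lib.Helper2.Magnet.FaceChar

/-!
# The attractor of a face is a strong deformation retract (helper2)

For a face `F` of a finitely generated magnet `N` and a character `χ : N → ℕ` with `χ⁻¹(0) = F`,
multiplication by the point `c^χ` of `A(N)` gives the homotopy `δ(x, c) = x ∘ (· c^χ)`.
-/

set_option autoImplicit false
set_option synthInstance.maxHeartbeats 400000
set_option maxHeartbeats 1000000
set_option linter.style.haveILetI false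
set_option linter.unusedSectionVars false
set_option linter.unusedVariables false
set_option linter.unusedSimpArgs false
set_option linter.unnecessarySimpa false

universe u
open CategoryTheory Limits MonoidalCategory CartesianMonoidalCategory MonObj AlgebraicGeometry Opposite
open Magnet Magnet.MonAct

namespace Groth.Agent.Helper2.FaceHomotopy

open Groth.Agent.Helper2.MagnetDom Groth.Agent.Helper2.MagnetFun Groth.Agent.Helper2.MagnetComul
  Groth.Agent.Helper2.MagnetPts Groth.Agent.Helper2.MagnetGrading Groth.Agent.Helper2.FaceChar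

section FaceChi

variable (S : Scheme.{u}) {M : Type} [AddCommMonoid M] {N F : AddSubmonoid M} (hF : IsFace N F)

theorem face_chi_aux (n : ↥N) :
    (AMonS.faceMap S hF).left.appTop (chi S ↥N n) =
      (pG S ↥F).appTop ((gIso ↥F).inv (faceAlgHom (ULift.{u} ℤ) hF
        (MonoidAlgebra.single (Multiplicative.ofAdd n) 1))) := by
  have h1 : (AMonS.faceMap S hF).left ≫ pG S ↥N =
      pG S ↥F ≫ (AMon.faceMap (ULift.{u} ℤ) hF).left :=
    pullback.lift_fst _ _ _
  have key : (gIso ↥N).inv ≫ (AMon.faceMap (ULift.{u} ℤ) hF).left.appTop =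
      CommRingCat.ofHom (faceAlgHom (ULift.{u} ℤ) hF).toRingHom ≫ (gIso ↥F).inv :=
    (Scheme.ΓSpecIso_inv_naturality
      (CommRingCat.ofHom (faceAlgHom (ULift.{u} ℤ) hF).toRingHom)).symm
  have h2 : (pG S ↥N).appTop ≫ (AMonS.faceMap S hF).left.appTop =
      (AMon.faceMap (ULift.{u} ℤ) hF).left.appTop ≫ (pG S ↥F).appTop := by
    rw [← Scheme.Hom.comp_appTop, h1, Scheme.Hom.comp_appTop]
  unfold chi
  have h3 := congr($h2 ((gIso ↥N).inv (MonoidAlgebra.single (Multiplicative.ofAdd n) 1)))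
  refine h3.trans ?_
  have h4 := congr($key (MonoidAlgebra.single (Multiplicative.ofAdd n) 1))
  change (pG S ↥F).appTop ((AMon.faceMap (ULift.{u} ℤ) hF).left.appTop
    ((gIso ↥N).inv (MonoidAlgebra.single (Multiplicative.ofAdd n) 1))) = _
  have h5 : (AMon.faceMap (ULift.{u} ℤ) hF).left.appTop
      ((gIso ↥N).inv (MonoidAlgebra.single (Multiplicative.ofAdd n) 1)) =
      (gIso ↥F).inv (faceAlgHom (ULift.{u} ℤ) hF
        (MonoidAlgebra.single (Multiplicative.ofAdd n) 1)) := h4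
  rw [h5]

theorem charOf_faceMap_of_mem {W : Over S} (g : W ⟶ AMonS S ↥F) (n : ↥N) (h : (n : M) ∈ F) :
    charOf S ↥N (g ≫ AMonS.faceMap S hF) (Multiplicative.ofAdd n) =
      charOf S ↥F g (Multiplicative.ofAdd (⟨n, h⟩ : ↥F)) := by
  rw [charOf_apply, charOf_apply, Over.comp_left, Scheme.Hom.comp_appTop]
  change g.left.appTop ((AMonS.faceMap S hF).left.appTop (chi S ↥N n)) = _
  rw [face_chi_aux, faceAlgHom_single_of_mem _ hF n h]
  rfl

theorem charOf_faceMap_of_not_mem {W : Over S} (g : W ⟶ AMonS S ↥F) (n : ↥N)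
    (h : (n : M) ∉ F) :
    charOf S ↥N (g ≫ AMonS.faceMap S hF) (Multiplicative.ofAdd n) = 0 := by
  rw [charOf_apply, Over.comp_left, Scheme.Hom.comp_appTop]
  change g.left.appTop ((AMonS.faceMap S hF).left.appTop (chi S ↥N n)) = _
  rw [face_chi_aux, faceAlgHom_single_of_not_mem _ hF n h]
  simp only [map_zero]

end FaceChi

section Homotopy

variable (S : Scheme.{u}) {M : Type} [AddCommMonoid M] {N F : AddSubmonoid M} (χ : ↥N →+ ℕ)

/-- the `T`-point `c^χ` of `A(N)_S` -/
noncomputable def ptPow (T : Over S) (c : Γ(T.left, ⊤)) : T ⟶ AMonS S ↥N :=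
  (exists_point S ↥N
    ((powersHom Γ(T.left, ⊤) c).comp (AddMonoidHom.toMultiplicative χ))).choose

theorem charOf_ptPow (T : Over S) (c : Γ(T.left, ⊤)) (n : Multiplicative ↥N) :
    charOf S ↥N (ptPow S χ T c) n = c ^ χ (Multiplicative.toAdd n) := by
  have h := (exists_point S ↥N
    ((powersHom Γ(T.left, ⊤) c).comp (AddMonoidHom.toMultiplicative χ))).choose_spec
  have h2 := DFunLike.congr_fun h n
  refine h2.trans ?_
  rw [MonoidHom.comp_apply, powersHom_apply]
  rfl

theorem comp_ptPow {T T' : Over S} (t : T' ⟶ T) (c : Γ(T.left, ⊤)) :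
    t ≫ ptPow S χ T c = ptPow S χ T' (t.left.appTop c) := by
  apply charOf_injective S ↥N
  refine MonoidHom.ext fun n => ?_
  rw [charOf_comp, charOf_ptPow, charOf_ptPow, map_pow]

theorem ptPow_one (T : Over S) : ptPow S χ T 1 = 1 := by
  apply charOf_injective S ↥N
  refine MonoidHom.ext fun n => ?_
  rw [charOf_ptPow, one_pow, charOf_one]

/-- multiplication by `c^χ` on `A(N)_S × T` -/
noncomputable def mulPt (T : Over S) (c : Γ(T.left, ⊤)) : AMonS S ↥N ⊗ T ⟶ AMonS S ↥N ⊗ T :=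
  lift (fst _ _ * (snd _ _ ≫ ptPow S χ T c)) (snd _ _)

theorem lift_mulPt {T T' : Over S} (c : Γ(T.left, ⊤)) (b : T' ⟶ AMonS S ↥N) (t : T' ⟶ T) :
    lift b t ≫ mulPt S χ T c = lift (b * (t ≫ ptPow S χ T c)) t := by
  unfold mulPt
  rw [comp_lift, MonObj.comp_mul, lift_fst, lift_snd, lift_snd_assoc]

theorem mulPt_one (T : Over S) : mulPt S χ T 1 = 𝟙 _ := by
  unfold mulPt
  rw [ptPow_one, MonObj.comp_one, _root_.mul_one, lift_fst_snd]

theorem mulPt_naturality {T T' : Over S} (t : T' ⟶ T) (c : Γ(T.left, ⊤)) :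
    mulPt S χ T' (t.left.appTop c) ≫ (AMonS S ↥N ◁ t) =
      (AMonS S ↥N ◁ t) ≫ mulPt S χ T c := by
  have hL : mulPt S χ T' (t.left.appTop c) ≫ (AMonS S ↥N ◁ t) =
      lift (fst _ _ * (snd _ _ ≫ ptPow S χ T' (t.left.appTop c))) (snd _ _ ≫ t) := by
    unfold mulPt
    rw [lift_whiskerLeft]
  have hR : (AMonS S ↥N ◁ t) ≫ mulPt S χ T c =
      lift (fst _ _ * (snd _ _ ≫ t ≫ ptPow S χ T c)) (snd _ _ ≫ t) := by
    unfold mulPt
    rw [comp_lift, MonObj.comp_mul, whiskerLeft_fst, whiskerLeft_snd, whiskerLeft_snd_assoc]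
  rw [hL, hR, ← comp_ptPow S χ t c]

variable {X : Over S} (a : MonAct (AMonS S M) X)

theorem isEquivariant_mulPt_comp {T : Over S} (c : Γ(T.left, ⊤))
    (x : (attr a N).obj (op T)) :
    IsEquivariant ((subAct S M N).prod (MonAct.trivial (AMonS S M) T)) a
      (mulPt S χ T c ≫ x.1) := by
  have hx := (mem_eqvHom_iff (ρ := subAct S M N) (a := a) x.1).1 x.2
  refine (mem_eqvHom_iff (ρ := subAct S M N) (a := a) (mulPt S χ T c ≫ x.1)).2 ?_
  intro T' g b t
  have e : (lift g b ≫ (subAct S M N).act) * (t ≫ ptPow S χ T c) =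
      lift g (b * (t ≫ ptPow S χ T c)) ≫ (subAct S M N).act := by
    unfold subAct
    rw [MonAct.lift_restrict_act, MonAct.lift_regular_act, MonAct.lift_restrict_act,
      MonAct.lift_regular_act, _root_.mul_assoc]
  calc lift (lift g b ≫ (subAct S M N).act) t ≫ mulPt S χ T c ≫ x.1
      = (lift (lift g b ≫ (subAct S M N).act) t ≫ mulPt S χ T c) ≫ x.1 :=
        (Category.assoc _ _ _).symm
    _ = lift ((lift g b ≫ (subAct S M N).act) * (t ≫ ptPow S χ T c)) t ≫ x.1 :=
        congrArg (· ≫ x.1) (lift_mulPt S χ c _ t)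
    _ = lift (lift g (b * (t ≫ ptPow S χ T c)) ≫ (subAct S M N).act) t ≫ x.1 := by rw [e]
    _ = lift g (lift (b * (t ≫ ptPow S χ T c)) t ≫ x.1) ≫ a.act :=
        hx T' g (b * (t ≫ ptPow S χ T c)) t
    _ = lift g ((lift b t ≫ mulPt S χ T c) ≫ x.1) ≫ a.act := by rw [lift_mulPt S χ c b t]
    _ = lift g (lift b t ≫ mulPt S χ T c ≫ x.1) ≫ a.act := by rw [Category.assoc]

theorem mulPt_zero (hF : IsFace N F) (hχ : ∀ n : ↥N, χ n = 0 ↔ (n : M) ∈ F) (T : Over S) :
    mulPt S χ T 0 =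
      (AMonS.map S (AddSubmonoid.inclusion hF.le) ≫ AMonS.faceMap S hF) ▷ T := by
  apply CartesianMonoidalCategory.hom_ext
  · rw [whiskerRight_fst]
    unfold mulPt
    rw [lift_fst]
    apply charOf_injective S ↥N
    refine MonoidHom.ext fun n' => ?_
    obtain ⟨n, rfl⟩ : ∃ n : ↥N, Multiplicative.ofAdd n = n' := ⟨Multiplicative.toAdd n', rfl⟩
    have hL : charOf S ↥N (fst (AMonS S ↥N) T * (snd (AMonS S ↥N) T ≫ ptPow S χ T 0))
        (Multiplicative.ofAdd n) =
        charOf S ↥N (fst (AMonS S ↥N) T) (Multiplicative.ofAdd n) *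
          (snd (AMonS S ↥N) T).left.appTop ((0 : Γ(T.left, ⊤)) ^ χ n) := by
      rw [charOf_mul, charOf_comp S ↥N (snd (AMonS S ↥N) T) (ptPow S χ T 0), charOf_ptPow]
      rfl
    rw [hL]
    by_cases h : (n : M) ∈ F
    · have h0 : χ n = 0 := (hχ n).2 h
      rw [← Category.assoc, charOf_faceMap_of_mem S hF _ n h, charOf_map, h0, pow_zero, map_one,
        _root_.mul_one]
      rfl
    · have h0 : χ n ≠ 0 := fun h0 => h ((hχ n).1 h0)
      rw [← Category.assoc, charOf_faceMap_of_not_mem S hF _ n h, zero_pow h0, map_zero,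
        mul_zero]
  · rw [whiskerRight_snd]
    unfold mulPt
    rw [lift_snd]

theorem mulPt_comp_map (hF : IsFace N F) (hχ : ∀ n : ↥N, χ n = 0 ↔ (n : M) ∈ F) (T : Over S)
    (c : Γ(T.left, ⊤)) :
    mulPt S χ T c ≫ (AMonS.map S (AddSubmonoid.inclusion hF.le) ▷ T) =
      AMonS.map S (AddSubmonoid.inclusion hF.le) ▷ T := by
  have h1 : ptPow S χ T c ≫ AMonS.map S (AddSubmonoid.inclusion hF.le) = 1 := by
    apply charOf_injective S ↥F
    refine MonoidHom.ext fun f => ?_
    rw [charOf_map, charOf_ptPow, charOf_one]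
    have h0 : χ (Multiplicative.toAdd
        (AddMonoidHom.toMultiplicative (AddSubmonoid.inclusion hF.le) f)) = 0 :=
      (hχ _).2 (Multiplicative.toAdd f).2
    rw [h0, pow_zero]
  unfold mulPt
  rw [lift_whiskerRight, MonObj.mul_comp, Category.assoc, h1, MonObj.comp_one, _root_.mul_one]
  apply CartesianMonoidalCategory.hom_ext
  · rw [lift_fst, whiskerRight_fst]
  · rw [lift_snd, whiskerRight_snd]

end Homotopy

section Main

theorem main18244 (S : Scheme.{u}) (M : Type) [AddCommGroup M] {X : Over S}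
    (a : Magnet.MonAct (Magnet.AMonS S M) X) {N F : AddSubmonoid M} (hN : N.FG)
    (hF : Magnet.IsFace N F) :
    ∃ δ : ∀ T : Over S, (Magnet.attr a N).obj (op T) → Γ(T.left, ⊤) →
        (Magnet.attr a N).obj (op T),
      (∀ (T T' : Over S) (t : T' ⟶ T) (x : (Magnet.attr a N).obj (op T)) (c : Γ(T.left, ⊤)),
          δ T' ((Magnet.attr a N).map t.op x) (t.left.appTop c) =
            (Magnet.attr a N).map t.op (δ T x c)) ∧
      (∀ (T : Over S) (x : (Magnet.attr a N).obj (op T)),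
          δ T x 0 = (Magnet.attrMap a hF.le).app (op T) ((Magnet.attrFace a hF).app (op T) x)) ∧
      (∀ (T : Over S) (x : (Magnet.attr a N).obj (op T)), δ T x 1 = x) ∧
      (∀ (T : Over S) (y : (Magnet.attr a F).obj (op T)) (c : Γ(T.left, ⊤)),
          δ T ((Magnet.attrMap a hF.le).app (op T) y) c =
            (Magnet.attrMap a hF.le).app (op T) y) := by
  obtain ⟨χ, hχ⟩ := exists_face_char hF hN
  refine ⟨fun T x c => ⟨mulPt S χ T c ≫ x.1, isEquivariant_mulPt_comp S χ a c x⟩,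
    ?_, ?_, ?_, ?_⟩
  · intro T T' t x c
    apply Subtype.ext
    change mulPt S χ T' (t.left.appTop c) ≫ (AMonS S ↥N ◁ t) ≫ x.1 =
      (AMonS S ↥N ◁ t) ≫ mulPt S χ T c ≫ x.1
    rw [← Category.assoc, mulPt_naturality, Category.assoc]
  · intro T x
    apply Subtype.ext
    change mulPt S χ T 0 ≫ x.1 = (AMonS.map S (AddSubmonoid.inclusion hF.le) ▷ T) ≫
      (AMonS.faceMap S hF ▷ T) ≫ x.1
    rw [mulPt_zero S χ hF hχ, comp_whiskerRight, Category.assoc]
  · intro T x
    apply Subtype.ext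
    change mulPt S χ T 1 ≫ x.1 = x.1
    rw [mulPt_one, Category.id_comp]
  · intro T y c
    apply Subtype.ext
    change mulPt S χ T c ≫ (AMonS.map S (AddSubmonoid.inclusion hF.le) ▷ T) ≫ y.1 =
      (AMonS.map S (AddSubmonoid.inclusion hF.le) ▷ T) ≫ y.1
    rw [← Category.assoc, mulPt_comp_map S χ hF hχ]

end Main

end Groth.Agent.Helper2.FaceHomotopy
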