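import Groth.Prelude.Def_Magnet3
import Groth.Agent.Lib.Helper2.Magnet.ClosedDesc

/-!
# Fixed points of an FPR atlas descend to a closed subscheme (helper2)

`main18299`: for an equivariant étale surjective `f : U ⟶ X` over `S` which is fixed-point
reflecting, if the fixed-point functor of `U` is represented by a closed subscheme of `U` then the
fixed-point functor of `X` is represented by a closed subscheme of `X`
(via `ClosedDesc.closed_descent`).
-/

set_option autoImplicit false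
set_option synthInstance.maxHeartbeats 400000
set_option maxHeartbeats 4000000
set_option linter.style.haveILetI false
set_option linter.unusedSectionVars false
set_option linter.unusedVariables false
set_option linter.unusedSimpArgs false
set_option linter.unnecessarySimpa false

universe w u
open CategoryTheory Limits MonoidalCategory CartesianMonoidalCategory MonObj AlgebraicGeometry Opposite
open Magnet Magnet.MonAct

namespace Groth.Agent.Helper2.MagnetFixedRep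

open Groth.Agent.Helper2.ClosedDesc

variable {S : Scheme.{u}} {A X U : Over S} [MonObj A]

/-- a point fixed by the action -/
def IsFixed (a : MonAct A X) {T : Over S} (x : T ⟶ X) : Prop :=
  ∀ (T' : Over S) (t : T' ⟶ T) (g : T' ⟶ A), lift g (t ≫ x) ≫ a.act = t ≫ x

theorem IsFixed.comp {a : MonAct A X} {T T' : Over S} {x : T ⟶ X} (h : IsFixed a x)
    (t : T' ⟶ T) : IsFixed a (t ≫ x) := fun T'' t' g => by
  rw [← Category.assoc]
  exact h T'' (t' ≫ t) g

theorem IsFixed.map {aU : MonAct A U} {aX : MonAct A X} (f : U ⟶ X)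
    (hf : IsEquivariant aU aX f) {T : Over S} {v : T ⟶ U} (h : IsFixed aU v) :
    IsFixed aX (v ≫ f) := fun T' t g => by
  rw [isEquivariant_iff] at hf
  rw [← Category.assoc t v f, ← hf T' g (t ≫ v), ← Category.assoc, h T' t g]

theorem cancel_cover {P' P Y : Over S} (p : P' ⟶ P) [QuasiCompact p.left] [Surjective p.left]
    [Flat p.left] (φ₁ φ₂ : P ⟶ Y) (h : p ≫ φ₁ = p ≫ φ₂) : φ₁ = φ₂ := by
  apply Over.OverMorphism.ext
  rw [← cancel_epi p.left, ← Over.comp_left, ← Over.comp_left, h]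

theorem isFixed_of_cover (a : MonAct A X) {T' T : Over S} (p : T' ⟶ T) [QuasiCompact p.left]
    [Surjective p.left] [Flat p.left] (x : T ⟶ X) (h : IsFixed a (p ≫ x)) : IsFixed a x := by
  intro T'' t g
  obtain ⟨π₁, hπ₁⟩ : ∃ π₁ : Over.mk (pullback.fst t.left p.left ≫ T''.hom) ⟶ T'',
      π₁.left = pullback.fst t.left p.left := ⟨Over.homMk _ rfl, rfl⟩
  have hw₂ : pullback.snd t.left p.left ≫ T'.hom = pullback.fst t.left p.left ≫ T''.hom := by
    rw [← Over.w p, ← Over.w t, ← Category.assoc, ← Category.assoc, pullback.condition]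
  obtain ⟨π₂, hπ₂⟩ : ∃ π₂ : Over.mk (pullback.fst t.left p.left ≫ T''.hom) ⟶ T',
      π₂.left = pullback.snd t.left p.left := ⟨Over.homMk _ hw₂, rfl⟩
  have hπ : π₁ ≫ t = π₂ ≫ p := by
    apply Over.OverMorphism.ext
    rw [Over.comp_left, Over.comp_left, hπ₁, hπ₂]
    exact pullback.condition
  haveI : QuasiCompact π₁.left := by rw [hπ₁]; infer_instance
  haveI : Surjective π₁.left := by rw [hπ₁]; infer_instance
  haveI : Flat π₁.left := by rw [hπ₁]; infer_instance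
  apply cancel_cover π₁
  calc π₁ ≫ lift g (t ≫ x) ≫ a.act = lift (π₁ ≫ g) (π₁ ≫ t ≫ x) ≫ a.act := by
        rw [← Category.assoc, comp_lift]
    _ = lift (π₁ ≫ g) (π₂ ≫ p ≫ x) ≫ a.act := by
        rw [← Category.assoc π₁ t x, hπ, Category.assoc]
    _ = π₂ ≫ p ≫ x := h _ π₂ (π₁ ≫ g)
    _ = π₁ ≫ t ≫ x := by rw [← Category.assoc, ← hπ, Category.assoc]

theorem isFixed_of_openCover (a : MonAct A X) {T : Over S} (x : T ⟶ X)
    (𝒱 : Scheme.OpenCover.{w} T.left)
    (h : ∀ j, IsFixed a ((Over.homMk (𝒱.f j) rfl : Over.mk (𝒱.f j ≫ T.hom) ⟶ T) ≫ x)) :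
    IsFixed a x := by
  intro T'' t g
  apply Over.OverMorphism.ext
  apply Scheme.Cover.hom_ext (𝒱.pullback₁ t.left)
  intro j
  change pullback.fst t.left (𝒱.f j) ≫ (lift g (t ≫ x) ≫ a.act).left =
    pullback.fst t.left (𝒱.f j) ≫ (t ≫ x).left
  obtain ⟨π₁, hπ₁⟩ : ∃ π₁ : Over.mk (pullback.fst t.left (𝒱.f j) ≫ T''.hom) ⟶ T'',
      π₁.left = pullback.fst t.left (𝒱.f j) := ⟨Over.homMk _ rfl, rfl⟩
  have hw₂ : pullback.snd t.left (𝒱.f j) ≫ 𝒱.f j ≫ T.hom =
      pullback.fst t.left (𝒱.f j) ≫ T''.hom := by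
    rw [← Over.w t, ← Category.assoc, ← Category.assoc, pullback.condition]
  obtain ⟨π₂, hπ₂⟩ : ∃ π₂ : Over.mk (pullback.fst t.left (𝒱.f j) ≫ T''.hom) ⟶
      Over.mk (𝒱.f j ≫ T.hom), π₂.left = pullback.snd t.left (𝒱.f j) :=
    ⟨Over.homMk _ hw₂, rfl⟩
  have hπ : π₁ ≫ t = π₂ ≫ (Over.homMk (𝒱.f j) rfl : Over.mk (𝒱.f j ≫ T.hom) ⟶ T) := by
    apply Over.OverMorphism.ext
    rw [Over.comp_left, Over.comp_left, hπ₁, hπ₂]
    exact pullback.condition
  have key : π₁ ≫ lift g (t ≫ x) ≫ a.act = π₁ ≫ t ≫ x := by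
    calc π₁ ≫ lift g (t ≫ x) ≫ a.act = lift (π₁ ≫ g) (π₁ ≫ t ≫ x) ≫ a.act := by
          rw [← Category.assoc, comp_lift]
      _ = lift (π₁ ≫ g)
            (π₂ ≫ (Over.homMk (𝒱.f j) rfl : Over.mk (𝒱.f j ≫ T.hom) ⟶ T) ≫ x) ≫ a.act := by
          rw [← Category.assoc π₁ t x, hπ, Category.assoc]
      _ = π₂ ≫ (Over.homMk (𝒱.f j) rfl : Over.mk (𝒱.f j ≫ T.hom) ⟶ T) ≫ x :=
          h j _ π₂ (π₁ ≫ g)
      _ = π₁ ≫ t ≫ x := by rw [← Category.assoc, ← hπ, Category.assoc]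
  have key' : π₁.left ≫ (lift g (t ≫ x) ≫ a.act).left = π₁.left ≫ (t ≫ x).left := by
    rw [← Over.comp_left, ← Over.comp_left, key]
  rw [hπ₁] at key'
  exact key'

/-- fixedness, as a predicate on morphisms of schemes to the underlying scheme of `X` -/
def PFix (aX : MonAct A X) (T : Scheme.{u}) (x : T ⟶ X.left) : Prop :=
  ∀ (s : T ⟶ S) (hs : x ≫ X.hom = s), IsFixed aX (Over.homMk x hs : Over.mk s ⟶ X)

theorem pFix_of_isFixed (aX : MonAct A X) {T : Over S} {x : T ⟶ X} (h : IsFixed aX x) :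
    PFix aX T.left x.left := by
  intro s hs
  have hsT : s = T.hom := hs.symm.trans (Over.w x)
  obtain ⟨c, hc⟩ : ∃ c : Over.mk s ⟶ T, c.left = 𝟙 T.left :=
    ⟨Over.homMk (𝟙 T.left) ((Category.id_comp T.hom).trans hsT.symm), rfl⟩
  have hcx : (Over.homMk x.left hs : Over.mk s ⟶ X) = c ≫ x := by
    apply Over.OverMorphism.ext
    rw [Over.comp_left, hc]
    exact (Category.id_comp _).symm
  rw [hcx]
  exact h.comp c

theorem isFixed_of_pFix (aX : MonAct A X) {T : Over S} {x : T ⟶ X}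
    (h : PFix aX T.left x.left) : IsFixed aX x := by
  have h0 := h T.hom (Over.w x)
  obtain ⟨c, hc⟩ : ∃ c : T ⟶ Over.mk T.hom, c.left = 𝟙 T.left :=
    ⟨Over.homMk (𝟙 T.left) (Category.id_comp T.hom), rfl⟩
  have hcx : c ≫ (Over.homMk x.left (Over.w x) : Over.mk T.hom ⟶ X) = x := by
    apply Over.OverMorphism.ext
    rw [Over.comp_left, hc]
    exact Category.id_comp _
  have h1 := h0.comp c
  rw [hcx] at h1
  exact h1

theorem pFix_comp (aX : MonAct A X) {T T' : Scheme.{u}} (t : T' ⟶ T) (x : T ⟶ X.left)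
    (h : PFix aX T x) : PFix aX T' (t ≫ x) := by
  intro s hs
  have h0 := h (x ≫ X.hom) rfl
  have hts : t ≫ x ≫ X.hom = s := by
    rw [← Category.assoc]
    exact hs
  obtain ⟨t', ht'⟩ : ∃ t' : Over.mk s ⟶ Over.mk (x ≫ X.hom), t'.left = t :=
    ⟨Over.homMk t hts, rfl⟩
  have htx : (Over.homMk (t ≫ x) hs : Over.mk s ⟶ X) =
      t' ≫ (Over.homMk x rfl : Over.mk (x ≫ X.hom) ⟶ X) := by
    apply Over.OverMorphism.ext
    rw [Over.comp_left, ht']
    rfl
  rw [htx]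
  exact h0.comp t'

theorem pFix_loc (aX : MonAct A X) {T T' : Scheme.{u}} (p : T' ⟶ T) [Flat p] [Surjective p]
    [QuasiCompact p] (x : T ⟶ X.left) (h : PFix aX T' (p ≫ x)) : PFix aX T x := by
  intro s hs
  have hps : (p ≫ x) ≫ X.hom = p ≫ s := by rw [Category.assoc, hs]
  have h0 := h (p ≫ s) hps
  obtain ⟨p', hp'⟩ : ∃ p' : Over.mk (p ≫ s) ⟶ Over.mk s, p'.left = p := ⟨Over.homMk p rfl, rfl⟩
  haveI : Flat p'.left := by rw [hp']; infer_instance
  haveI : Surjective p'.left := by rw [hp']; infer_instance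
  haveI : QuasiCompact p'.left := by rw [hp']; infer_instance
  have hpp : (Over.homMk (p ≫ x) hps : Over.mk (p ≫ s) ⟶ X) =
      p' ≫ (Over.homMk x hs : Over.mk s ⟶ X) := by
    apply Over.OverMorphism.ext
    rw [Over.comp_left, hp']
    rfl
  apply isFixed_of_cover aX p'
  rw [← hpp]
  exact h0

theorem pFix_zar (aX : MonAct A X) (T : Scheme.{u}) (x : T ⟶ X.left)
    (𝒱 : Scheme.OpenCover.{w} T) (h : ∀ j, PFix aX (𝒱.X j) (𝒱.f j ≫ x)) : PFix aX T x := by
  intro s hs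
  apply isFixed_of_openCover aX (T := Over.mk s) (Over.homMk x hs) 𝒱
  intro j
  have hjs : (𝒱.f j ≫ x) ≫ X.hom = 𝒱.f j ≫ s := by rw [Category.assoc, hs]
  have h0 := h j (𝒱.f j ≫ s) hjs
  have hpp : (Over.homMk (𝒱.f j ≫ x) hjs : Over.mk (𝒱.f j ≫ s) ⟶ X) =
      (Over.homMk (𝒱.f j) rfl : Over.mk (𝒱.f j ≫ (Over.mk s).hom) ⟶ Over.mk s) ≫
        (Over.homMk x hs : Over.mk s ⟶ X) := by
    apply Over.OverMorphism.ext
    rfl
  rw [← hpp]
  exact h0

theorem pFix_H (aX : MonAct A X) (aU : MonAct A U) (f : U ⟶ X) (hf : IsEquivariant aU aX f)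
    (hfpr : IsPullback (fixedPsh.map f hf) (fixedPshι aU) (fixedPshι aX) (yoneda.map f))
    {W' : Over S} (i' : W' ⟶ U) (e' : (fixedPsh aU).RepresentableBy W')
    (he' : ∀ (T : Over S) (w : T ⟶ W'),
      (fixedPshι aU).app (op T) (e'.homEquiv w) = w ≫ i')
    (T : Scheme.{u}) (v : T ⟶ U.left) :
    PFix aX T (v ≫ f.left) ↔ ∃ w : T ⟶ W'.left, w ≫ i'.left = v := by
  obtain ⟨v', hv'⟩ : ∃ v' : Over.mk (v ≫ U.hom) ⟶ U, v'.left = v := ⟨Over.homMk v rfl, rfl⟩
  have hvf : (v ≫ f.left) ≫ X.hom = v ≫ U.hom := by rw [Category.assoc, Over.w f]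
  have hvf' : (Over.homMk (v ≫ f.left) hvf : Over.mk (v ≫ U.hom) ⟶ X) = v' ≫ f := by
    apply Over.OverMorphism.ext
    rw [Over.comp_left, hv']
    rfl
  constructor
  · intro h
    have hfix : IsFixed aX (v' ≫ f) := by
      rw [← hvf']
      exact h _ hvf
    have sq : IsPullback ((fixedPsh.map f hf).app (op (Over.mk (v ≫ U.hom))))
        ((fixedPshι aU).app (op (Over.mk (v ≫ U.hom))))
        ((fixedPshι aX).app (op (Over.mk (v ≫ U.hom))))
        ((yoneda.map f).app (op (Over.mk (v ≫ U.hom)))) :=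
      hfpr.map ((evaluation _ _).obj (op (Over.mk (v ≫ U.hom))))
    obtain ⟨z, -, hz2⟩ := Limits.Types.exists_of_isPullback sq
      (⟨v' ≫ f, hfix⟩ : (fixedPsh aX).obj (op (Over.mk (v ≫ U.hom)))) v' rfl
    obtain ⟨w', hw'def⟩ : ∃ w' : Over.mk (v ≫ U.hom) ⟶ W', w' = e'.homEquiv.symm z :=
      ⟨_, rfl⟩
    have hw' : w' ≫ i' = v' := by
      have h1 := he' _ w'
      rw [hw'def, Equiv.apply_symm_apply] at h1
      rw [hw'def, ← h1]
      exact hz2
    refine ⟨w'.left, ?_⟩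
    calc w'.left ≫ i'.left = (w' ≫ i').left := rfl
      _ = v'.left := by rw [hw']
      _ = v := hv'
  · rintro ⟨w, hw⟩
    have hww : w ≫ W'.hom = v ≫ U.hom := by
      rw [← Over.w i', ← Category.assoc, hw]
    obtain ⟨w', hw'l⟩ : ∃ w' : Over.mk (v ≫ U.hom) ⟶ W', w'.left = w :=
      ⟨Over.homMk w hww, rfl⟩
    have hw' : w' ≫ i' = v' := by
      apply Over.OverMorphism.ext
      rw [Over.comp_left, hw'l, hv', hw]
    have h1 : (e'.homEquiv w').1 = v' := (he' _ w').trans hw'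
    have hfixU : IsFixed aU v' := by
      rw [← h1]
      exact (e'.homEquiv w').2
    have hfixX : IsFixed aX (v' ≫ f) := hfixU.map f hf
    intro s hs
    obtain rfl : s = v ≫ U.hom := hs.symm.trans hvf
    have hvf'' : (Over.homMk (v ≫ f.left) hs : Over.mk (v ≫ U.hom) ⟶ X) = v' ≫ f := hvf'
    rw [hvf'']
    exact hfixX

theorem main18299 (X U : Over S) (aX : MonAct A X) (aU : MonAct A U)
    (f : U ⟶ X) [Etale f.left] [Surjective f.left] (hf : IsEquivariant aU aX f)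
    (hfpr : IsPullback (fixedPsh.map f hf) (fixedPshι aU) (fixedPshι aX) (yoneda.map f))
    (hU : ∃ (W' : Over S) (i' : W' ⟶ U) (e' : (fixedPsh aU).RepresentableBy W'),
      IsClosedImmersion i'.left ∧ ∀ (T : Over S) (w : T ⟶ W'),
        (fixedPshι aU).app (op T) (e'.homEquiv w) = w ≫ i') :
    ∃ (W : Over S) (i : W ⟶ X) (e : (fixedPsh aX).RepresentableBy W),
      IsClosedImmersion i.left ∧ ∀ (T : Over S) (w : T ⟶ W),
        (fixedPshι aX).app (op T) (e.homEquiv w) = w ≫ i := by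
  obtain ⟨W', i', e', hcl', he'⟩ := hU
  haveI := hcl'
  obtain ⟨W₀, i₀, hcl, hrep⟩ := closed_descent f.left (PFix aX)
    (fun {T T'} t x h => pFix_comp aX t x h)
    (fun {T T'} p _ _ _ x h => pFix_loc aX p x h)
    (fun T x 𝒱 h => pFix_zar aX T x 𝒱 h)
    i'.left (fun T v => pFix_H aX aU f hf hfpr i' e' he' T v)
  haveI := hcl
  haveI : Mono i₀ := inferInstance
  obtain ⟨i, hil⟩ : ∃ i : Over.mk (i₀ ≫ X.hom) ⟶ X, i.left = i₀ := ⟨Over.homMk i₀ rfl, rfl⟩
  haveI : Mono i.left := by rw [hil]; infer_instance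
  haveI : Mono i := Over.mono_of_mono_left i
  have hfixi : IsFixed aX i := by
    apply isFixed_of_pFix
    rw [hil]
    exact (hrep W₀ i₀).2 ⟨𝟙 _, Category.id_comp _⟩
  have hsurj : ∀ (T : Over S) (x : T ⟶ X), IsFixed aX x →
      ∃ w : T ⟶ Over.mk (i₀ ≫ X.hom), w ≫ i = x := by
    intro T x hx
    obtain ⟨w, hw⟩ := (hrep T.left x.left).1 (pFix_of_isFixed aX hx)
    have hww : w ≫ i₀ ≫ X.hom = T.hom := by rw [← Category.assoc, hw, Over.w]
    refine ⟨Over.homMk w hww, ?_⟩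
    apply Over.OverMorphism.ext
    rw [Over.comp_left, hil]
    exact hw
  let e : (fixedPsh aX).RepresentableBy (Over.mk (i₀ ≫ X.hom)) :=
    { homEquiv := fun {T} => Equiv.ofBijective
        (fun w => (⟨w ≫ i, hfixi.comp w⟩ : (fixedPsh aX).obj (op T)))
        ⟨fun w₁ w₂ h => (cancel_mono i).1 (congrArg Subtype.val h), fun z => by
          obtain ⟨w, hw⟩ := hsurj T z.1 z.2
          exact ⟨w, Subtype.ext hw⟩⟩
      homEquiv_comp := fun {T T'} g w => Subtype.ext (Category.assoc g w i) }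
  refine ⟨Over.mk (i₀ ≫ X.hom), i, e, ?_, fun T w => rfl⟩
  rw [hil]
  exact hcl

end Groth.Agent.Helper2.MagnetFixedRep
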