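import Mathlib

/-!
# Scheme-theoretic helpers for formal neighbourhoods (helper2)

* `exists_lift_basicOpen` : a morphism pulling `g` back to a unit factors through `D(g)`.
* `basicOpen_loc` : for an affine scheme, `Γ(D(g))` is the localisation of `Γ` at `g`
  (in the form used here).
* `eq_zero_of_forall_X_pow_dvd`, `isUnit_mk_of_coeff_zero` : polynomial algebra.
* `exists_affine_point` : `Spec` of a `Γ(Y)`-algebra as a point of an affine `Y` over `S`.
* `exists_field_point` : a field-valued point through a given point, carrying a unit `ν`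
  transcendental over the functions.
-/

set_option autoImplicit false
set_option synthInstance.maxHeartbeats 400000
set_option maxHeartbeats 4000000
set_option linter.style.haveILetI false
set_option linter.unusedSectionVars false
set_option linter.unusedVariables false
set_option linter.unusedSimpArgs false
set_option linter.unnecessarySimpa false

universe u
open CategoryTheory Limits AlgebraicGeometry Opposite

namespace Groth.Agent.Helper2.MagnetFormal

theorem exists_lift_basicOpen {T P : Scheme.{u}} (f : T ⟶ P) (g : Γ(P, ⊤))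
    (hu : IsUnit (f.appTop.hom g)) :
    ∃ v : T ⟶ (P.basicOpen g).toScheme, v ≫ (P.basicOpen g).ι = f := by
  have hr : Set.range f ⊆ Set.range (P.basicOpen g).ι := by
    rw [Scheme.Opens.range_ι]
    rintro _ ⟨x, rfl⟩
    have h1 : f ⁻¹ᵁ P.basicOpen g = ⊤ := by
      rw [Scheme.preimage_basicOpen_top]
      exact T.basicOpen_of_isUnit hu
    have hx : x ∈ f ⁻¹ᵁ P.basicOpen g := by rw [h1]; trivial
    exact hx
  exact ⟨IsOpenImmersion.lift _ f hr, IsOpenImmersion.lift_fac _ _ _⟩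

theorem basicOpen_loc {P : Scheme.{u}} [IsAffine P] (g : Γ(P, ⊤)) :
    IsUnit ((P.basicOpen g).ι.appTop.hom g) ∧
      ∀ d : Γ((P.basicOpen g).toScheme, ⊤), ∃ (k : ℕ) (p : Γ(P, ⊤)),
        d * ((P.basicOpen g).ι.appTop.hom g) ^ k = (P.basicOpen g).ι.appTop.hom p := by
  haveI hloc : IsLocalization.Away g Γ(P, P.basicOpen g) := isLocalization_away_of_isAffine g
  have hk : P.presheaf.map (homOfLE (x := (P.basicOpen g).ι ''ᵁ ⊤) (y := ⊤) le_top).op ≫
      P.presheaf.map (eqToHom (P.basicOpen g).ι_image_top.symm).op =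
      P.presheaf.map (homOfLE (P.basicOpen_le g)).op := by
    rw [← Functor.map_comp]
    rfl
  have key : ∀ p : Γ(P, ⊤), (P.basicOpen g).topIso.hom.hom ((P.basicOpen g).ι.appTop.hom p) =
      algebraMap Γ(P, ⊤) Γ(P, P.basicOpen g) p := fun p => congr($hk p)
  have hinj : Function.Injective (P.basicOpen g).topIso.hom.hom :=
    (ConcreteCategory.bijective_of_isIso (P.basicOpen g).topIso.hom).1
  constructor
  · have hu : IsUnit (algebraMap Γ(P, ⊤) Γ(P, P.basicOpen g) g) :=
      IsLocalization.Away.algebraMap_isUnit g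
    rw [← key g] at hu
    have h2 := hu.map (P.basicOpen g).topIso.inv.hom
    have e : (P.basicOpen g).topIso.inv.hom
        ((P.basicOpen g).topIso.hom.hom ((P.basicOpen g).ι.appTop.hom g)) =
        (P.basicOpen g).ι.appTop.hom g :=
      congr($((P.basicOpen g).topIso.hom_inv_id) ((P.basicOpen g).ι.appTop.hom g))
    rwa [e] at h2
  · intro d
    obtain ⟨k, p, hkp⟩ := IsLocalization.Away.surj g ((P.basicOpen g).topIso.hom.hom d)
    refine ⟨k, p, hinj ?_⟩
    rw [map_mul, map_pow, key, key]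
    exact hkp

theorem eq_zero_of_forall_X_pow_dvd {R : Type*} [CommRing R] (p : Polynomial R)
    (h : ∀ n : ℕ, (Polynomial.X : Polynomial R) ^ (n + 1) ∣ p) : p = 0 := by
  ext d
  rw [Polynomial.coeff_zero]
  exact (Polynomial.X_pow_dvd_iff.mp (h d)) d (Nat.lt_succ_self d)

theorem isUnit_mk_of_coeff_zero {R : Type*} [CommRing R] (n : ℕ) (p : Polynomial R)
    (hu : IsUnit (p.coeff 0)) :
    IsUnit (Ideal.Quotient.mk (Ideal.span {(Polynomial.X : Polynomial R) ^ (n + 1)}) p) := by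
  have hp : p = Polynomial.C (p.coeff 0) + Polynomial.X * p.divX := by
    rw [add_comm]
    exact (Polynomial.X_mul_divX_add p).symm
  rw [hp, map_add, map_mul]
  have hnil : IsNilpotent
      (Ideal.Quotient.mk (Ideal.span {(Polynomial.X : Polynomial R) ^ (n + 1)}) Polynomial.X *
        Ideal.Quotient.mk (Ideal.span {(Polynomial.X : Polynomial R) ^ (n + 1)}) p.divX) := by
    refine ⟨n + 1, ?_⟩
    rw [mul_pow, ← map_pow,
      Ideal.Quotient.eq_zero_iff_mem.mpr (Ideal.mem_span_singleton_self _), zero_mul]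
  have hC : IsUnit (Ideal.Quotient.mk (Ideal.span {(Polynomial.X : Polynomial R) ^ (n + 1)})
      (Polynomial.C (p.coeff 0))) := (hu.map Polynomial.C).map _
  exact hnil.isUnit_add_left_of_commute hC (Commute.all _ _)

theorem eval₂_eval₂_shift {R B Γ' : Type*} [CommRing R] [CommRing B] [CommRing Γ']
    (f : R →+* B) (x : B) (φ : B →+* Γ') (ν : Γ') (q : Polynomial R) :
    Polynomial.eval₂ φ ν
        (Polynomial.eval₂ (Polynomial.C.comp f) (Polynomial.X * Polynomial.C x) q) =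
      Polynomial.eval₂ (φ.comp f) (ν * φ x) q := by
  have h := Polynomial.hom_eval₂ q (Polynomial.C.comp f) (Polynomial.eval₂RingHom φ ν)
    (Polynomial.X * Polynomial.C x)
  rw [Polynomial.coe_eval₂RingHom] at h
  have e1 : (Polynomial.eval₂RingHom φ ν).comp (Polynomial.C.comp f) = φ.comp f := by
    apply RingHom.ext
    intro r
    simp [Polynomial.eval₂_C]
  have e2 : Polynomial.eval₂ φ ν (Polynomial.X * Polynomial.C x) = ν * φ x := by
    rw [Polynomial.eval₂_mul, Polynomial.eval₂_X, Polynomial.eval₂_C]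
  rw [h, e1, e2]

theorem coeff_zero_eval₂_shift {R B : Type*} [CommRing R] [CommRing B] (f : R →+* B) (x : B)
    (q : Polynomial R) :
    (Polynomial.eval₂ (Polynomial.C.comp f) (Polynomial.X * Polynomial.C x) q).coeff 0 =
      f (q.coeff 0) := by
  have h := Polynomial.hom_eval₂ q (Polynomial.C.comp f) (Polynomial.evalRingHom (0 : B))
    (Polynomial.X * Polynomial.C x)
  rw [Polynomial.coe_evalRingHom] at h
  have e1 : (Polynomial.evalRingHom (0 : B)).comp (Polynomial.C.comp f) = f := by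
    apply RingHom.ext
    intro r
    simp
  have e2 : Polynomial.eval (0 : B) (Polynomial.X * Polynomial.C x) = 0 := by simp
  rw [Polynomial.coeff_zero_eq_eval_zero, h, e1, e2, Polynomial.eval₂_at_zero]

section Over

variable {S : Scheme.{u}}

theorem exists_affine_point (Y : Over S) [IsAffine Y.left] (R : CommRingCat.{u})
    (φ : Γ(Y.left, ⊤) ⟶ R) :
    ∃ (T : Over S) (t : T ⟶ Y) (e : Γ(T.left, ⊤) ≅ R),
      IsAffine T.left ∧ t.left.appTop ≫ e.hom = φ := by
  refine ⟨Over.mk ((Spec.map φ ≫ Y.left.isoSpec.inv) ≫ Y.hom),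
    Over.homMk (Spec.map φ ≫ Y.left.isoSpec.inv) rfl, Scheme.ΓSpecIso R,
    inferInstanceAs (IsAffine (Spec R)), ?_⟩
  change (Spec.map φ ≫ Y.left.isoSpec.inv).appTop ≫ (Scheme.ΓSpecIso R).hom = φ
  have h1 : Y.left.isoSpec.inv.appTop ≫ (Scheme.ΓSpecIso Γ(Y.left, ⊤)).hom = 𝟙 _ := by
    have h2 : Y.left.isoSpec.hom.appTop = (Scheme.ΓSpecIso Γ(Y.left, ⊤)).hom :=
      Scheme.toSpecΓ_appTop _
    rw [← h2, ← Scheme.Hom.comp_appTop, Iso.hom_inv_id]
    rfl
  rw [Scheme.Hom.comp_appTop, Category.assoc, Scheme.ΓSpecIso_naturality, ← Category.assoc, h1,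
    Category.id_comp]

theorem field_point_aux (K : Type u) [Field K] (P : Over S)
    (f₁ : Spec (CommRingCat.of K) ⟶ P.left) :
    ∃ (TF : Over S) (pF : TF ⟶ P) (ν : Γ(TF.left, ⊤)),
      (∀ p : P.left, (∀ s, f₁ s = p) → p ∈ Set.range pF.left) ∧ IsUnit ν ∧
      ∀ q : Polynomial Γ(P.left, ⊤), IsUnit (q.coeff 0) →
        IsUnit (Polynomial.eval₂ pF.left.appTop.hom ν q) := by
  obtain ⟨alg, halg⟩ : ∃ alg : CommRingCat.of K ⟶ CommRingCat.of (RatFunc K),
      alg = CommRingCat.ofHom (algebraMap K (RatFunc K)) := ⟨_, rfl⟩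
  obtain ⟨φK, hφK⟩ : ∃ φK : Γ(P.left, ⊤) ⟶ CommRingCat.of K,
      φK = f₁.appTop ≫ (Scheme.ΓSpecIso (CommRingCat.of K)).hom := ⟨_, rfl⟩
  obtain ⟨Φ, hΦdef⟩ : ∃ Φ : Γ(Spec (CommRingCat.of (RatFunc K)), ⊤) ≅ CommRingCat.of (RatFunc K),
      Φ = Scheme.ΓSpecIso (CommRingCat.of (RatFunc K)) := ⟨_, rfl⟩
  have hcomp : (Spec.map alg ≫ f₁).appTop ≫ Φ.hom = φK ≫ alg := by
    rw [hΦdef, Scheme.Hom.comp_appTop, Category.assoc, Scheme.ΓSpecIso_naturality,
      ← Category.assoc, hφK]
  obtain ⟨ν₀, hν₀⟩ : ∃ ν₀ : RatFunc K,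
      ν₀ = algebraMap (Polynomial K) (RatFunc K) Polynomial.X := ⟨_, rfl⟩
  have hν₀ne : ν₀ ≠ 0 := by
    rw [hν₀]
    intro h0
    exact Polynomial.X_ne_zero (RatFunc.algebraMap_injective K (h0.trans (map_zero _).symm))
  refine ⟨Over.mk ((Spec.map alg ≫ f₁) ≫ P.hom), Over.homMk (Spec.map alg ≫ f₁) rfl,
    Φ.inv.hom ν₀, ?_, ?_, ?_⟩
  · intro p hp
    exact ⟨(⟨⊥, Ideal.isPrime_bot⟩ : PrimeSpectrum (RatFunc K)),
      hp ((Spec.map alg) (⟨⊥, Ideal.isPrime_bot⟩ : PrimeSpectrum (RatFunc K)))⟩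
  · exact (IsUnit.mk0 ν₀ hν₀ne).map Φ.inv.hom
  · intro q hq
    have hΦ : Φ.hom.hom (Polynomial.eval₂ (Spec.map alg ≫ f₁).appTop.hom (Φ.inv.hom ν₀) q) =
        algebraMap (Polynomial K) (RatFunc K) (q.map φK.hom) := by
      rw [Polynomial.hom_eval₂]
      have e1 : Φ.hom.hom.comp (Spec.map alg ≫ f₁).appTop.hom = alg.hom.comp φK.hom :=
        congrArg (fun m => m.hom) hcomp
      have halg' : alg.hom = algebraMap K (RatFunc K) := by rw [halg]; rfl
      have e2 : Φ.hom.hom (Φ.inv.hom ν₀) = ν₀ := congr($(Φ.inv_hom_id) ν₀)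
      rw [e1, halg', e2, ← Polynomial.eval₂_map, ← Polynomial.aeval_def, hν₀,
        Polynomial.aeval_algebraMap_apply, Polynomial.aeval_X_left_apply]
    have hne : algebraMap (Polynomial K) (RatFunc K) (q.map φK.hom) ≠ 0 := by
      intro h0
      have h1 : q.map φK.hom = 0 :=
        RatFunc.algebraMap_injective K (h0.trans (map_zero _).symm)
      have h2 : (q.map φK.hom).coeff 0 = 0 := by rw [h1, Polynomial.coeff_zero]
      rw [Polynomial.coeff_map] at h2
      exact (hq.map φK.hom).ne_zero h2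
    have hU : IsUnit (Φ.hom.hom
        (Polynomial.eval₂ (Spec.map alg ≫ f₁).appTop.hom (Φ.inv.hom ν₀) q)) := by
      rw [hΦ]
      exact IsUnit.mk0 _ hne
    have h3 := hU.map Φ.inv.hom
    have e4 : Φ.inv.hom (Φ.hom.hom
        (Polynomial.eval₂ (Spec.map alg ≫ f₁).appTop.hom (Φ.inv.hom ν₀) q)) =
        Polynomial.eval₂ (Spec.map alg ≫ f₁).appTop.hom (Φ.inv.hom ν₀) q :=
      congr($(Φ.hom_inv_id) _)
    rw [e4] at h3
    exact h3

theorem exists_field_point₀ (P : Over S) (p : P.left) :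
    ∃ (TF : Over S) (pF : TF ⟶ P) (ν : Γ(TF.left, ⊤)), p ∈ Set.range pF.left ∧ IsUnit ν ∧
      ∀ q : Polynomial Γ(P.left, ⊤), IsUnit (q.coeff 0) →
        IsUnit (Polynomial.eval₂ pF.left.appTop.hom ν q) := by
  obtain ⟨TF, pF, ν, h1, h2, h3⟩ := field_point_aux (P.left.residueField p) P
    (P.left.fromSpecResidueField p)
  exact ⟨TF, pF, ν, h1 p (fun s => Scheme.fromSpecResidueField_apply p s), h2, h3⟩

theorem exists_field_point (P : Over S) (p : P.left) :
    ∃ (TF : Over S) (pF : TF ⟶ P) (ν : Γ(TF.left, ⊤)), p ∈ Set.range pF.left ∧ IsUnit ν ∧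
      ∀ (R : Type u) [CommRing R] (f : R →+* Γ(P.left, ⊤)) (x : Γ(P.left, ⊤))
        (q : Polynomial R), IsUnit (q.coeff 0) →
        IsUnit (Polynomial.eval₂ (pF.left.appTop.hom.comp f) (ν * pF.left.appTop.hom x) q) := by
  obtain ⟨TF, pF, ν, hr, hν, hq⟩ := exists_field_point₀ P p
  refine ⟨TF, pF, ν, hr, hν, fun R _ f x q hu => ?_⟩
  rw [← eval₂_eval₂_shift]
  apply hq
  rw [coeff_zero_eval₂_shift]
  exact hu.map f

end Over

end Groth.Agent.Helper2.MagnetFormal
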