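import Groth.Agent.Lib.Helper2.Magnet.FormalPts
import Groth.Agent.Lib.Helper2.Magnet.FormalLoc

/-!
# Two equivariant maps out of `A¹ ×_S Y` that agree formally along the zero section (helper2)

`core` : `Y` affine, `δ₁ δ₂ : A(ℕ)_S ×_S Y → X` equivariant for `G_m = A(ℤ)_S`, agreeing on all
points with nilpotent first coordinate, and mapping a basic open neighbourhood `D(g)` of the zero
section (`g(0, ·)` a unit) into a common affine open of `X`.  Then `δ₁ = δ₂`: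
they agree on `D(g)` (functions on `D(g)` embed into formal power series), and
`G_m × D(g) → A¹ × Y` is flat and surjective.
-/

set_option autoImplicit false
set_option synthInstance.maxHeartbeats 400000
set_option maxHeartbeats 4000000
set_option linter.style.haveILetI false
set_option linter.unusedSectionVars false
set_option linter.unusedVariables false
set_option linter.unusedSimpArgs false
set_option linter.unnecessarySimpa false

universe u
open CategoryTheory Limits MonoidalCategory CartesianMonoidalCategory MonObj AlgebraicGeometry Opposite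
open Magnet Magnet.MonAct

namespace Groth.Agent.Helper2.MagnetFormal

open Groth.Agent.Helper2.MagnetDom Groth.Agent.Helper2.MagnetRep Groth.Agent.Helper2.MagnetRep2
  Groth.Agent.Helper2.MagnetFun Groth.Agent.Helper2.MagnetLoc Groth.Agent.Helper2.MagnetComul
  Groth.Agent.Helper2.MagnetPts Groth.Agent.Helper2.MagnetOpen

set_option quotPrecheck false in
local notation "𝐍" => ↥(AddSubmonoid.multiples (1 : ℤ))

section Shear

variable {C : Type*} [Category C] [CartesianMonoidalCategory C] {G P : C} [GrpObj G]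

theorem shear_point (b : MonAct G P) {T : C} (g : T ⟶ G) (p : T ⟶ P) :
    lift g p ≫ lift (fst G P) b.act = lift g (lift g p ≫ b.act) := by
  rw [comp_lift, lift_fst]

theorem shear_inv_point (b : MonAct G P) {T : C} (g : T ⟶ G) (p : T ⟶ P) :
    lift g p ≫ lift (fst G P) (lift ((fst G P)⁻¹) (snd G P) ≫ b.act) =
      lift g (lift g⁻¹ p ≫ b.act) := by
  have h1 : lift g p ≫ (fst G P)⁻¹ = g⁻¹ := by
    rw [Hom.inv_def, Hom.inv_def, ← Category.assoc, lift_fst]
  calc lift g p ≫ lift (fst G P) (lift ((fst G P)⁻¹) (snd G P) ≫ b.act)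
      = lift (lift g p ≫ fst G P) (lift g p ≫ lift ((fst G P)⁻¹) (snd G P) ≫ b.act) :=
        comp_lift _ _ _
    _ = lift g ((lift g p ≫ lift ((fst G P)⁻¹) (snd G P)) ≫ b.act) := by
        rw [lift_fst, Category.assoc]
    _ = lift g (lift g⁻¹ p ≫ b.act) := by rw [comp_lift, h1, lift_snd]

theorem isIso_shear (b : MonAct G P) : IsIso (lift (fst G P) b.act) := by
  refine ⟨⟨lift (fst G P) (lift ((fst G P)⁻¹) (snd G P) ≫ b.act), ?_, ?_⟩⟩
  · apply hom_ext_lift₂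
    intro T g p
    rw [← Category.assoc, shear_point, shear_inv_point, ← lift_mul_act,
      _root_.inv_mul_cancel, lift_one_act, Category.comp_id]
  · apply hom_ext_lift₂
    intro T g p
    rw [← Category.assoc, shear_inv_point, shear_point, ← lift_mul_act,
      _root_.mul_inv_cancel, lift_one_act, Category.comp_id]

end Shear

theorem flat_act_left {S : Scheme.{u}} {G P : Over S} [GrpObj G] [Flat G.hom] (b : MonAct G P) :
    Flat b.act.left := by
  haveI := isIso_shear b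
  haveI : IsIso (lift (fst G P) b.act).left :=
    inferInstanceAs (IsIso ((Over.forget S).map (lift (fst G P) b.act)))
  haveI : Flat (snd G P).left := inferInstanceAs (Flat (pullback.snd G.hom P.hom))
  have e : b.act.left = (lift (fst G P) b.act).left ≫ (snd G P).left := by
    rw [← Over.comp_left, lift_snd]
  rw [e]
  infer_instance

section Core

variable {S : Scheme.{u}} {X : Over S} (a : MonAct (AMonS S ℤ) X)

theorem exists_thick_point (Y : Over S) [IsAffine Y.left] (n : ℕ) :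
    ∃ (Tn : Over S) (wn : Tn ⟶ AMonS S 𝐍 ⊗ Y)
      (e : Γ(Tn.left, ⊤) ≅ CommRingCat.of (Polynomial Γ(Y.left, ⊤) ⧸
        Ideal.span {(Polynomial.X : Polynomial Γ(Y.left, ⊤)) ^ (n + 1)})),
      (charOf S 𝐍 (wn ≫ fst (AMonS S 𝐍) Y) (Multiplicative.ofAdd gen1)) ^ (n + 1) = 0 ∧
      ∀ p : Polynomial Γ(Y.left, ⊤),
        e.hom.hom (wn.left.appTop.hom (invΘ S Y p)) =
          Ideal.Quotient.mk (Ideal.span {(Polynomial.X : Polynomial Γ(Y.left, ⊤)) ^ (n + 1)}) p := by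
  obtain ⟨Tn, tn, e, -, he⟩ := exists_affine_point Y
    (CommRingCat.of (Polynomial Γ(Y.left, ⊤) ⧸
      Ideal.span {(Polynomial.X : Polynomial Γ(Y.left, ⊤)) ^ (n + 1)}))
    (CommRingCat.ofHom ((Ideal.Quotient.mk
      (Ideal.span {(Polynomial.X : Polynomial Γ(Y.left, ⊤)) ^ (n + 1)})).comp Polynomial.C))
  obtain ⟨mn, hmn⟩ := exists_pt S Tn (e.inv.hom (Ideal.Quotient.mk
    (Ideal.span {(Polynomial.X : Polynomial Γ(Y.left, ⊤)) ^ (n + 1)}) Polynomial.X))
  refine ⟨Tn, lift mn tn, e, ?_, ?_⟩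
  · rw [lift_fst, hmn, ← map_pow, ← map_pow,
      Ideal.Quotient.eq_zero_iff_mem.mpr (Ideal.mem_span_singleton_self _), map_zero]
  · intro p
    have e1 : e.hom.hom.comp tn.left.appTop.hom =
        (Ideal.Quotient.mk
          (Ideal.span {(Polynomial.X : Polynomial Γ(Y.left, ⊤)) ^ (n + 1)})).comp Polynomial.C :=
      congrArg (fun m => m.hom) he
    have e2 : e.hom.hom (e.inv.hom (Ideal.Quotient.mk
        (Ideal.span {(Polynomial.X : Polynomial Γ(Y.left, ⊤)) ^ (n + 1)}) Polynomial.X)) =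
        Ideal.Quotient.mk
          (Ideal.span {(Polynomial.X : Polynomial Γ(Y.left, ⊤)) ^ (n + 1)}) Polynomial.X :=
      congr($(e.inv_hom_id) _)
    rw [sharp_invΘ, lift_fst, lift_snd, hmn, Polynomial.hom_eval₂, e1, e2,
      ← Polynomial.hom_eval₂, Polynomial.eval₂_C_X]

theorem core (Y : Over S) [IsAffine Y.left] (δ₁ δ₂ : AMonS S 𝐍 ⊗ Y ⟶ X)
    (h₁ : IsEquivariant ((subAct S ℤ (AddSubmonoid.multiples (1 : ℤ))).prod
      (trivial (AMonS S ℤ) Y)) a δ₁)
    (h₂ : IsEquivariant ((subAct S ℤ (AddSubmonoid.multiples (1 : ℤ))).prod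
      (trivial (AMonS S ℤ) Y)) a δ₂)
    (hn : ∀ (T : Over S) (m : T ⟶ AMonS S 𝐍) (t : T ⟶ Y) (n : ℕ),
      (charOf S 𝐍 m (Multiplicative.ofAdd gen1)) ^ (n + 1) = 0 →
        lift m t ≫ δ₁ = lift m t ≫ δ₂)
    (X' : X.left.Opens) (hX' : IsAffineOpen X')
    (pg : Polynomial Γ(Y.left, ⊤)) (hu : IsUnit (pg.coeff 0))
    (hg : (AMonS S 𝐍 ⊗ Y).left.basicOpen (invΘ S Y pg) ≤ δ₁.left ⁻¹ᵁ X' ⊓ δ₂.left ⁻¹ᵁ X') :
    δ₁ = δ₂ := by
  haveI hPaff : IsAffine (AMonS S 𝐍 ⊗ Y).left := isAffine_tensor S 𝐍 Y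
  obtain ⟨g, hgdef⟩ : ∃ g, g = invΘ S Y pg := ⟨_, rfl⟩
  rw [← hgdef] at hg
  -- Step C : agreement on any open with the localisation properties of `D(g)`
  have hC : ∀ (W : (AMonS S 𝐍 ⊗ Y).left.Opens),
      IsUnit (W.ι.appTop.hom g) →
      (∀ d : Γ(W.toScheme, ⊤), ∃ (k : ℕ) (p : Γ((AMonS S 𝐍 ⊗ Y).left, ⊤)),
        d * (W.ι.appTop.hom g) ^ k = W.ι.appTop.hom p) →
      W ≤ δ₁.left ⁻¹ᵁ X' ⊓ δ₂.left ⁻¹ᵁ X' →
      (∀ (T : Scheme.{u}) (f : T ⟶ (AMonS S 𝐍 ⊗ Y).left), IsUnit (f.appTop.hom g) →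
        ∃ v : T ⟶ W.toScheme, v ≫ W.ι = f) →
      W.ι ≫ δ₁.left = W.ι ≫ δ₂.left := by
    intro W hlocu hlocs hWle hfac
    haveI : IsAffine X'.toScheme := hX'
    have hr : ∀ δ : AMonS S 𝐍 ⊗ Y ⟶ X, W ≤ δ.left ⁻¹ᵁ X' →
        Set.range (W.ι ≫ δ.left) ⊆ Set.range X'.ι := by
      intro δ hle
      rw [Scheme.Opens.range_ι]
      rintro _ ⟨x, rfl⟩
      exact hle x.2
    obtain ⟨ε₁, hε₁⟩ : ∃ ε : W.toScheme ⟶ X'.toScheme, ε ≫ X'.ι = W.ι ≫ δ₁.left :=
      ⟨IsOpenImmersion.lift X'.ι (W.ι ≫ δ₁.left) (hr δ₁ (hWle.trans inf_le_left)),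
        IsOpenImmersion.lift_fac _ _ _⟩
    obtain ⟨ε₂, hε₂⟩ : ∃ ε : W.toScheme ⟶ X'.toScheme, ε ≫ X'.ι = W.ι ≫ δ₂.left :=
      ⟨IsOpenImmersion.lift X'.ι (W.ι ≫ δ₂.left) (hr δ₂ (hWle.trans inf_le_right)),
        IsOpenImmersion.lift_fac _ _ _⟩
    suffices hε : ε₁ = ε₂ by rw [← hε₁, ← hε₂, hε]
    apply ext_of_isAffine
    apply CommRingCat.hom_ext
    apply RingHom.ext
    intro c
    obtain ⟨d, hd⟩ : ∃ d, d = ε₁.appTop.hom c - ε₂.appTop.hom c := ⟨_, rfl⟩
    suffices hd0 : d = 0 by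
      rw [hd] at hd0
      exact sub_eq_zero.mp hd0
    obtain ⟨k, p', hkp⟩ := hlocs d
    obtain ⟨p, rfl⟩ := invΘ_surjective S Y p'
    have hp0 : p = 0 := by
      apply eq_zero_of_forall_X_pow_dvd
      intro n
      obtain ⟨Tn, wn, e, hnil, hform⟩ := exists_thick_point Y n
      have hagree : wn ≫ δ₁ = wn ≫ δ₂ := by
        have h := hn Tn (wn ≫ fst _ _) (wn ≫ snd _ _) n hnil
        rwa [lift_comp_fst_snd] at h
      have hunit : IsUnit (wn.left.appTop.hom g) := by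
        have h1 : IsUnit (e.hom.hom (wn.left.appTop.hom g)) := by
          rw [hgdef, hform]
          exact isUnit_mk_of_coeff_zero n pg hu
        have h2 := h1.map e.inv.hom
        have e3 : e.inv.hom (e.hom.hom (wn.left.appTop.hom g)) = wn.left.appTop.hom g :=
          congr($(e.hom_inv_id) _)
        rwa [e3] at h2
      obtain ⟨vn, hvn⟩ := hfac Tn.left wn.left hunit
      have hv12 : vn ≫ ε₁ = vn ≫ ε₂ := by
        rw [← cancel_mono X'.ι, Category.assoc, Category.assoc, hε₁, hε₂, ← Category.assoc,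
          ← Category.assoc, hvn, ← Over.comp_left, ← Over.comp_left, hagree]
      have hvd : vn.appTop.hom d = 0 := by
        have h3 : (vn ≫ ε₁).appTop = (vn ≫ ε₂).appTop := by rw [hv12]
        rw [Scheme.Hom.comp_appTop, Scheme.Hom.comp_appTop] at h3
        have h3' : vn.appTop.hom (ε₁.appTop.hom c) = vn.appTop.hom (ε₂.appTop.hom c) :=
          congr($h3 c)
        rw [hd, map_sub, h3', sub_self]
      have h4 : vn.appTop.hom (d * (W.ι.appTop.hom g) ^ k) =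
          vn.appTop.hom (W.ι.appTop.hom (invΘ S Y p)) := congrArg _ hkp
      rw [map_mul, hvd, MulZeroClass.zero_mul] at h4
      have h5 : vn.appTop.hom (W.ι.appTop.hom (invΘ S Y p)) =
          wn.left.appTop.hom (invΘ S Y p) := by
        have h6 : (vn ≫ W.ι).appTop = wn.left.appTop := by rw [hvn]
        rw [Scheme.Hom.comp_appTop] at h6
        exact congr($h6 (invΘ S Y p))
      have h7 : e.hom.hom (wn.left.appTop.hom (invΘ S Y p)) = 0 := by
        rw [← h5, ← h4, map_zero]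
      rw [hform] at h7
      exact Ideal.mem_span_singleton.mp (Ideal.Quotient.eq_zero_iff_mem.mp h7)
    rw [hp0, map_zero, map_zero] at hkp
    exact (hlocu.pow k).mul_left_eq_zero.mp hkp
  have hWeq : ((AMonS S 𝐍 ⊗ Y).left.basicOpen g).ι ≫ δ₁.left =
      ((AMonS S 𝐍 ⊗ Y).left.basicOpen g).ι ≫ δ₂.left :=
    hC _ (basicOpen_loc g).1 (basicOpen_loc g).2 hg
      (fun T f hf => exists_lift_basicOpen f g hf)
  obtain ⟨WS, jW, hopen, heq, hfacS⟩ : ∃ (WS : Over S) (jW : WS ⟶ AMonS S 𝐍 ⊗ Y),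
      IsOpenImmersion jW.left ∧ jW ≫ δ₁ = jW ≫ δ₂ ∧
      ∀ (T : Over S) (f : T ⟶ AMonS S 𝐍 ⊗ Y), IsUnit (f.left.appTop.hom g) →
        ∃ v : T ⟶ WS, v ≫ jW = f := by
    refine ⟨Over.mk (((AMonS S 𝐍 ⊗ Y).left.basicOpen g).ι ≫ (AMonS S 𝐍 ⊗ Y).hom),
      Over.homMk ((AMonS S 𝐍 ⊗ Y).left.basicOpen g).ι rfl, ?_, ?_, ?_⟩
    · exact inferInstanceAs (IsOpenImmersion ((AMonS S 𝐍 ⊗ Y).left.basicOpen g).ι)
    · apply Over.OverMorphism.ext
      exact hWeq
    · intro T f hf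
      obtain ⟨v, hv⟩ := exists_lift_basicOpen f.left g hf
      refine ⟨Over.homMk v ?_, ?_⟩
      · change v ≫ ((AMonS S 𝐍 ⊗ Y).left.basicOpen g).ι ≫ (AMonS S 𝐍 ⊗ Y).hom = T.hom
        rw [← Category.assoc, hv, Over.w]
      · apply Over.OverMorphism.ext
        exact hv
  -- the flat cover `G_m × D(g) → A¹ × Y`
  haveI : Flat (AMonS S ℤ).hom := flat_AMonS_hom S ℤ
  obtain ⟨actP, hactP⟩ : ∃ b : MonAct (AMonS S ℤ) (AMonS S 𝐍 ⊗ Y),
      b = (subAct S ℤ (AddSubmonoid.multiples (1 : ℤ))).prod (trivial (AMonS S ℤ) Y) :=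
    ⟨_, rfl⟩
  have hμ : (AMonS S ℤ ◁ jW) ≫ actP.act ≫ δ₁ = (AMonS S ℤ ◁ jW) ≫ actP.act ≫ δ₂ := by
    have e1 : actP.act ≫ δ₁ = (AMonS S ℤ ◁ δ₁) ≫ a.act := by rw [hactP]; exact h₁
    have e2 : actP.act ≫ δ₂ = (AMonS S ℤ ◁ δ₂) ≫ a.act := by rw [hactP]; exact h₂
    rw [e1, e2, ← MonoidalCategory.whiskerLeft_comp_assoc,
      ← MonoidalCategory.whiskerLeft_comp_assoc, heq]
  haveI : IsOpenImmersion jW.left := hopen
  haveI : IsOpenImmersion (AMonS S ℤ ◁ jW).left :=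
    MorphismProperty.of_isPullback (P := @IsOpenImmersion)
      (isPullback_whiskerLeft (AMonS S ℤ) jW).flip inferInstance
  haveI : Flat actP.act.left :=
    @flat_act_left S (AMonS S ℤ) (AMonS S 𝐍 ⊗ Y) inferInstance inferInstance actP
  haveI : Flat ((AMonS S ℤ ◁ jW) ≫ actP.act).left := by
    rw [Over.comp_left]
    infer_instance
  have hsurj : ∀ p : (AMonS S 𝐍 ⊗ Y).left,
      ∃ q, ((AMonS S ℤ ◁ jW) ≫ actP.act).left q = p := by
    intro p
    obtain ⟨TF, pF, ν, ⟨s, hs⟩, hν, hq⟩ := exists_field_point (AMonS S 𝐍 ⊗ Y) p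
    obtain ⟨g₀, hg₀⟩ := exists_gpt S TF hν.unit
    have hp' : lift g₀ pF ≫ actP.act =
        lift ((g₀ ≫ AMonS.map S (AddSubmonoid.multiples (1 : ℤ)).subtype) *
          (pF ≫ fst (AMonS S 𝐍) Y)) (pF ≫ snd (AMonS S 𝐍) Y) := by
      rw [hactP]
      conv_lhs => rw [← lift_comp_fst_snd pF]
      rw [lift_prod_act, lift_trivial_act,
        show subAct S ℤ (AddSubmonoid.multiples (1 : ℤ)) =
          (MonAct.regular (AMonS S 𝐍)).restrict
            (AMonS.map S (AddSubmonoid.multiples (1 : ℤ)).subtype) from rfl,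
        lift_restrict_act, lift_regular_act]
    have hunit : IsUnit ((lift g₀ pF ≫ actP.act).left.appTop.hom g) := by
      rw [hp', hgdef, sharp_invΘ, lift_fst, lift_snd, charOf_mul, charOf_comp_map, hg₀,
        IsUnit.unit_spec, snd_appTop, charOf_fst]
      exact hq _ (i2 S 𝐍 Y).hom (tauT S Y) pg hu
    obtain ⟨vF, hvF⟩ := hfacS TF (lift g₀ pF ≫ actP.act) hunit
    refine ⟨(lift g₀⁻¹ vF).left s, ?_⟩
    have hq' : lift g₀⁻¹ vF ≫ (AMonS S ℤ ◁ jW) ≫ actP.act = pF := by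
      rw [lift_whiskerLeft_assoc, hvF]
      calc lift g₀⁻¹ (lift g₀ pF ≫ actP.act) ≫ actP.act
          = lift (g₀⁻¹ * g₀) pF ≫ actP.act := (actP.lift_mul_act g₀⁻¹ g₀ pF).symm
        _ = lift 1 pF ≫ actP.act :=
            congrArg (fun m => lift m pF ≫ actP.act) (_root_.inv_mul_cancel g₀)
        _ = pF := actP.lift_one_act pF
    have h8 : (lift g₀⁻¹ vF ≫ (AMonS S ℤ ◁ jW) ≫ actP.act).left = pF.left := by rw [hq']
    rw [← hs, ← h8]
    rfl
  haveI : Surjective ((AMonS S ℤ ◁ jW) ≫ actP.act).left := ⟨hsurj⟩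
  haveI := Flat.epi_of_flat_of_surjective ((AMonS S ℤ ◁ jW) ≫ actP.act).left
  apply Over.OverMorphism.ext
  rw [← cancel_epi ((AMonS S ℤ ◁ jW) ≫ actP.act).left, ← Over.comp_left, ← Over.comp_left,
    Category.assoc, Category.assoc, hμ]

end Core

end Groth.Agent.Helper2.MagnetFormal
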