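import Groth.Agent.Lib.Helper2.Magnet.FormalCore
import Groth.Agent.Lib.Helper2.Magnet.Sheaf

/-!
# The attractor of a `G_m`-action injects into the formal attractor (helper2)

`main18963` : two points of the attractor `X^{ℕ}` (equivariant maps `A¹ ×_S Y → X`) that agree on
all `T`-points whose `A¹`-coordinate is nilpotent in the monoid `A¹(T)` are equal.  Reduction to
`core` : locally on `Y` around `y`, the two maps send a basic open neighbourhood of `(0, y)` into a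
common affine open of `X`.
-/

set_option autoImplicit false
set_option synthInstance.maxHeartbeats 400000
set_option maxHeartbeats 4000000
set_option linter.style.haveILetI false
set_option linter.unusedSectionVars false
set_option linter.unusedVariables false
set_option linter.unusedSimpArgs false
set_option linter.unnecessarySimpa false

universe u
open CategoryTheory Limits MonoidalCategory CartesianMonoidalCategory MonObj AlgebraicGeometry Opposite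
open Magnet Magnet.MonAct

namespace Groth.Agent.Helper2.MagnetFormal

open Groth.Agent.Helper2.MagnetDom Groth.Agent.Helper2.MagnetRep Groth.Agent.Helper2.MagnetRep2
  Groth.Agent.Helper2.MagnetFun Groth.Agent.Helper2.MagnetLoc Groth.Agent.Helper2.MagnetComul
  Groth.Agent.Helper2.MagnetPts Groth.Agent.Helper2.MagnetOpen Groth.Agent.Helper2.MagnetSheaf

set_option quotPrecheck false in
local notation "𝐍" => ↥(AddSubmonoid.multiples (1 : ℤ))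

section

variable {S : Scheme.{u}} {X : Over S} (a : MonAct (AMonS S ℤ) X)

theorem restrict_equivariant {Y Y' : Over S} (j : Y' ⟶ Y) (gm : AMonS S 𝐍 ⊗ Y ⟶ X)
    (h : IsEquivariant ((subAct S ℤ (AddSubmonoid.multiples (1 : ℤ))).prod
      (trivial (AMonS S ℤ) Y)) a gm) :
    IsEquivariant ((subAct S ℤ (AddSubmonoid.multiples (1 : ℤ))).prod
      (trivial (AMonS S ℤ) Y')) a ((AMonS S 𝐍 ◁ j) ≫ gm) := by
  unfold IsEquivariant at h ⊢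
  rw [prod_trivial_act_whiskerLeft_assoc, h, MonoidalCategory.whiskerLeft_comp, Category.assoc]

theorem core_of_basic (Y₂ : Over S) [IsAffine Y₂.left] (δ₁ δ₂ : AMonS S 𝐍 ⊗ Y₂ ⟶ X)
    (h₁ : IsEquivariant ((subAct S ℤ (AddSubmonoid.multiples (1 : ℤ))).prod
      (trivial (AMonS S ℤ) Y₂)) a δ₁)
    (h₂ : IsEquivariant ((subAct S ℤ (AddSubmonoid.multiples (1 : ℤ))).prod
      (trivial (AMonS S ℤ) Y₂)) a δ₂)
    (hn : ∀ (T : Over S) (m : T ⟶ AMonS S 𝐍) (t : T ⟶ Y₂) (n : ℕ),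
      (charOf S 𝐍 m (Multiplicative.ofAdd gen1)) ^ (n + 1) = 0 →
        lift m t ≫ δ₁ = lift m t ≫ δ₂)
    (X' : X.left.Opens) (hX' : IsAffineOpen X')
    (pg : Polynomial Γ(Y₂.left, ⊤))
    (hg : (AMonS S 𝐍 ⊗ Y₂).left.basicOpen (invΘ S Y₂ pg) ≤ δ₁.left ⁻¹ᵁ X' ⊓ δ₂.left ⁻¹ᵁ X')
    (y₂ : Y₂.left) (hy₂ : y₂ ∈ Y₂.left.basicOpen (pg.coeff 0)) :
    ∃ (Y₃ : Over S) (j₃ : Y₃ ⟶ Y₂), IsOpenImmersion j₃.left ∧ y₂ ∈ Set.range j₃.left ∧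
      (AMonS S 𝐍 ◁ j₃) ≫ δ₁ = (AMonS S 𝐍 ◁ j₃) ≫ δ₂ := by
  obtain ⟨Y₃, j₃, hopen, haff, hunit, y₃, hy₃⟩ : ∃ (Y₃ : Over S) (j₃ : Y₃ ⟶ Y₂),
      IsOpenImmersion j₃.left ∧ IsAffine Y₃.left ∧
      IsUnit (j₃.left.appTop.hom (pg.coeff 0)) ∧ ∃ y₃ : Y₃.left, j₃.left y₃ = y₂ :=
    ⟨Over.mk ((Y₂.left.basicOpen (pg.coeff 0)).ι ≫ Y₂.hom),
      Over.homMk (Y₂.left.basicOpen (pg.coeff 0)).ι rfl,
      inferInstanceAs (IsOpenImmersion (Y₂.left.basicOpen (pg.coeff 0)).ι),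
      (isAffineOpen_top Y₂.left).basicOpen (pg.coeff 0), (basicOpen_loc (pg.coeff 0)).1,
      ⟨y₂, hy₂⟩, rfl⟩
  haveI := haff
  refine ⟨Y₃, j₃, hopen, ⟨y₃, hy₃⟩, ?_⟩
  have hn₃ : ∀ (T : Over S) (m : T ⟶ AMonS S 𝐍) (t : T ⟶ Y₃) (n : ℕ),
      (charOf S 𝐍 m (Multiplicative.ofAdd gen1)) ^ (n + 1) = 0 →
        lift m t ≫ (AMonS S 𝐍 ◁ j₃) ≫ δ₁ = lift m t ≫ (AMonS S 𝐍 ◁ j₃) ≫ δ₂ := by
    intro T m t n hx
    rw [lift_whiskerLeft_assoc, lift_whiskerLeft_assoc]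
    exact hn T m (t ≫ j₃) n hx
  have hu₃ : IsUnit ((pg.map j₃.left.appTop.hom).coeff 0) := by
    rw [Polynomial.coeff_map]
    exact hunit
  have hpre : (AMonS S 𝐍 ⊗ Y₃).left.basicOpen (invΘ S Y₃ (pg.map j₃.left.appTop.hom)) =
      (AMonS S 𝐍 ◁ j₃).left ⁻¹ᵁ (AMonS S 𝐍 ⊗ Y₂).left.basicOpen (invΘ S Y₂ pg) := by
    rw [← invΘ_whiskerLeft]
    exact (Scheme.preimage_basicOpen_top _ _).symm
  have hg₃ : (AMonS S 𝐍 ⊗ Y₃).left.basicOpen (invΘ S Y₃ (pg.map j₃.left.appTop.hom)) ≤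
      ((AMonS S 𝐍 ◁ j₃) ≫ δ₁).left ⁻¹ᵁ X' ⊓ ((AMonS S 𝐍 ◁ j₃) ≫ δ₂).left ⁻¹ᵁ X' := by
    rw [hpre]
    intro x hx
    exact hg hx
  exact core a Y₃ _ _ (restrict_equivariant a j₃ δ₁ h₁) (restrict_equivariant a j₃ δ₂ h₂) hn₃
    X' hX' (pg.map j₃.left.appTop.hom) hu₃ hg₃

theorem local_agree (Y : Over S) (γ₁ γ₂ : AMonS S 𝐍 ⊗ Y ⟶ X)
    (h₁ : IsEquivariant ((subAct S ℤ (AddSubmonoid.multiples (1 : ℤ))).prod
      (trivial (AMonS S ℤ) Y)) a γ₁)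
    (h₂ : IsEquivariant ((subAct S ℤ (AddSubmonoid.multiples (1 : ℤ))).prod
      (trivial (AMonS S ℤ) Y)) a γ₂)
    (hn : ∀ (T : Over S) (m : T ⟶ AMonS S 𝐍) (t : T ⟶ Y) (n : ℕ),
      (charOf S 𝐍 m (Multiplicative.ofAdd gen1)) ^ (n + 1) = 0 →
        lift m t ≫ γ₁ = lift m t ≫ γ₂)
    (y : Y.left) :
    ∃ (Y₃ : Over S) (j : Y₃ ⟶ Y), IsOpenImmersion j.left ∧ y ∈ Set.range j.left ∧
      (AMonS S 𝐍 ◁ j) ≫ γ₁ = (AMonS S 𝐍 ◁ j) ≫ γ₂ := by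
  -- the zero section
  obtain ⟨z₀, hz₀⟩ := exists_pt S Y 0
  have hz : lift z₀ (𝟙 Y) ≫ γ₁ = lift z₀ (𝟙 Y) ≫ γ₂ :=
    hn Y z₀ (𝟙 Y) 0 (by rw [hz₀, _root_.zero_add, _root_.pow_one])
  -- an affine open of `X` around the image of `(0, y)`
  obtain ⟨X', hX', hx₀, -⟩ := exists_isAffineOpen_mem_and_subset
    (x := (lift z₀ (𝟙 Y) ≫ γ₁).left y) (U := ⊤) trivial
  -- an affine open of `Y` around `y`
  obtain ⟨Y'', hY'', hy, -⟩ := exists_isAffineOpen_mem_and_subset (x := y) (U := ⊤) trivial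
  obtain ⟨Y₂, j₂, hopen₂, haff₂, y₂, hy₂⟩ : ∃ (Y₂ : Over S) (j₂ : Y₂ ⟶ Y),
      IsOpenImmersion j₂.left ∧ IsAffine Y₂.left ∧ ∃ y₂ : Y₂.left, j₂.left y₂ = y :=
    ⟨Over.mk (Y''.ι ≫ Y.hom), Over.homMk Y''.ι rfl, inferInstanceAs (IsOpenImmersion Y''.ι),
      hY'', ⟨y, hy⟩, rfl⟩
  haveI := haff₂
  haveI : IsAffine (AMonS S 𝐍 ⊗ Y₂).left := isAffine_tensor S 𝐍 Y₂
  have hz₂ : charOf S 𝐍 (j₂ ≫ z₀) (Multiplicative.ofAdd gen1) = 0 := by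
    rw [charOf_comp, hz₀, map_zero]
  have hzz : lift (j₂ ≫ z₀) (𝟙 Y₂) ≫ (AMonS S 𝐍 ◁ j₂) = j₂ ≫ lift z₀ (𝟙 Y) := by
    rw [lift_whiskerLeft, comp_lift, Category.id_comp, Category.comp_id]
  have hmem : ∀ gm : AMonS S 𝐍 ⊗ Y ⟶ X, lift z₀ (𝟙 Y) ≫ gm = lift z₀ (𝟙 Y) ≫ γ₁ →
      (lift (j₂ ≫ z₀) (𝟙 Y₂)).left y₂ ∈ ((AMonS S 𝐍 ◁ j₂) ≫ gm).left ⁻¹ᵁ X' := by
    intro gm hgm
    have e : (lift (j₂ ≫ z₀) (𝟙 Y₂) ≫ (AMonS S 𝐍 ◁ j₂) ≫ gm).left y₂ =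
        (lift z₀ (𝟙 Y) ≫ γ₁).left y := by
      rw [← Category.assoc, hzz, Category.assoc, hgm, ← hy₂]
      rfl
    change ((lift (j₂ ≫ z₀) (𝟙 Y₂) ≫ (AMonS S 𝐍 ◁ j₂) ≫ gm).left y₂) ∈ X'
    rw [e]
    exact hx₀
  have hzO : (lift (j₂ ≫ z₀) (𝟙 Y₂)).left y₂ ∈
      ((AMonS S 𝐍 ◁ j₂) ≫ γ₁).left ⁻¹ᵁ X' ⊓ ((AMonS S 𝐍 ◁ j₂) ≫ γ₂).left ⁻¹ᵁ X' :=
    ⟨hmem γ₁ rfl, hmem γ₂ hz.symm⟩
  obtain ⟨_, ⟨g₂, rfl⟩, hzg, hgle⟩ := (TopologicalSpace.Opens.isBasis_iff_nbhd.mp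
    (isBasis_basicOpen (AMonS S 𝐍 ⊗ Y₂).left)) hzO
  obtain ⟨pg, rfl⟩ := invΘ_surjective S Y₂ g₂
  have hy₂' : y₂ ∈ Y₂.left.basicOpen (pg.coeff 0) := by
    have h1 : y₂ ∈ (lift (j₂ ≫ z₀) (𝟙 Y₂)).left ⁻¹ᵁ
        (AMonS S 𝐍 ⊗ Y₂).left.basicOpen (invΘ S Y₂ pg) := hzg
    rw [Scheme.preimage_basicOpen_top] at h1
    have h0 : charOf S 𝐍 (lift (j₂ ≫ z₀) (𝟙 Y₂) ≫ fst (AMonS S 𝐍) Y₂)
        (Multiplicative.ofAdd gen1) = 0 := by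
      rw [lift_fst]
      exact hz₂
    have h2 : (lift (j₂ ≫ z₀) (𝟙 Y₂)).left.appTop.hom (invΘ S Y₂ pg) = pg.coeff 0 := by
      rw [sharp_invΘ_zero S Y₂ (lift (j₂ ≫ z₀) (𝟙 Y₂)) h0 pg, lift_snd]
      rfl
    rw [← h2]
    exact h1
  have hn₂ : ∀ (T : Over S) (m : T ⟶ AMonS S 𝐍) (t : T ⟶ Y₂) (n : ℕ),
      (charOf S 𝐍 m (Multiplicative.ofAdd gen1)) ^ (n + 1) = 0 →
        lift m t ≫ (AMonS S 𝐍 ◁ j₂) ≫ γ₁ = lift m t ≫ (AMonS S 𝐍 ◁ j₂) ≫ γ₂ := by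
    intro T m t n hx
    rw [lift_whiskerLeft_assoc, lift_whiskerLeft_assoc]
    exact hn T m (t ≫ j₂) n hx
  obtain ⟨Y₃, j₃, hopen₃, ⟨y₃, hy₃⟩, heq₃⟩ := core_of_basic a Y₂ _ _
    (restrict_equivariant a j₂ γ₁ h₁) (restrict_equivariant a j₂ γ₂ h₂) hn₂ X' hX' pg hgle
    y₂ hy₂'
  haveI := hopen₂
  haveI := hopen₃
  refine ⟨Y₃, j₃ ≫ j₂, ?_, ⟨y₃, ?_⟩, ?_⟩
  · rw [Over.comp_left]
    infer_instance
  · rw [Over.comp_left]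
    exact (congrArg (fun x => j₂.left x) hy₃).trans hy₂
  · rw [MonoidalCategory.whiskerLeft_comp, Category.assoc, Category.assoc]
    exact heq₃

theorem main18963 (Y : Over S)
    (γ₁ γ₂ : (attr a (AddSubmonoid.multiples (1 : ℤ))).obj (op Y))
    (h : ∀ (T : Over S) (m : T ⟶ AMonS S 𝐍) (t : T ⟶ Y),
      (∃ n : ℕ, ∀ m' : T ⟶ AMonS S 𝐍, m ^ (n + 1) * m' = m ^ (n + 1)) →
        lift m t ≫ γ₁.1 = lift m t ≫ γ₂.1) :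
    γ₁ = γ₂ := by
  apply Subtype.ext
  have hn : ∀ (T : Over S) (m : T ⟶ AMonS S 𝐍) (t : T ⟶ Y) (n : ℕ),
      (charOf S 𝐍 m (Multiplicative.ofAdd gen1)) ^ (n + 1) = 0 →
        lift m t ≫ γ₁.1 = lift m t ≫ γ₂.1 :=
    fun T m t n hx => h T m t ⟨n, absorbing_of_pow_eq_zero S m n hx⟩
  choose Y₃ j hopen hrange heq using local_agree a Y γ₁.1 γ₂.1 γ₁.2 γ₂.2 hn
  have fam : IsOpenCoverFam (P := Y) Y₃ j :=
    ⟨hopen, fun y => by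
      obtain ⟨y', hy'⟩ := hrange y
      exact ⟨y, y', hy'⟩⟩
  exact (fam.whiskerLeft (AMonS S 𝐍)).hom_ext _ _ heq

end

end Groth.Agent.Helper2.MagnetFormal
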