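import Groth.Agent.Lib.Helper2.Magnet.Pts

/-!
# Points of the affine line `A(ℕ)_S` and the polynomial model of `A(ℕ)_S ×_S T` (helper2)

`ℕ` is the submonoid `AddSubmonoid.multiples (1 : ℤ)` of `ℤ`.  A `T`-point `m` of `A(ℕ)_S` is
determined by the function `charOf m (ofAdd gen1)` (`pt_ext`), every function occurs (`exists_pt`),
and a point whose function is nilpotent is nilpotent in the monoid of points
(`absorbing_of_pow_eq_zero`).  For `T` affine, `invΘ : Γ(T)[X] → Γ(A(ℕ)_S ×_S T)` is surjective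
(`invΘ_surjective`) and pull-back of functions along a point `w` is evaluation of polynomials
(`sharp_invΘ`).
-/

set_option autoImplicit false
set_option synthInstance.maxHeartbeats 400000
set_option maxHeartbeats 4000000
set_option linter.style.haveILetI false
set_option linter.unusedSectionVars false
set_option linter.unusedVariables false
set_option linter.unusedSimpArgs false
set_option linter.unnecessarySimpa false

universe u
open CategoryTheory Limits MonoidalCategory CartesianMonoidalCategory MonObj AlgebraicGeometry Opposite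
open Magnet Magnet.MonAct

namespace Groth.Agent.Helper2.MagnetFormal

open Groth.Agent.Helper2.MagnetDom Groth.Agent.Helper2.MagnetRep Groth.Agent.Helper2.MagnetRep2
  Groth.Agent.Helper2.MagnetFun Groth.Agent.Helper2.MagnetLoc Groth.Agent.Helper2.MagnetComul
  Groth.Agent.Helper2.MagnetPts

set_option quotPrecheck false in
local notation "𝐍" => ↥(AddSubmonoid.multiples (1 : ℤ))

/-- the generator of `ℕ ⊂ ℤ` -/
def gen1 : 𝐍 := ⟨1, AddSubmonoid.mem_multiples 1⟩

/-- the natural number underlying an element of `ℕ ⊂ ℤ` -/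
def natOf (n : 𝐍) : ℕ := n.1.toNat

theorem natOf_spec (n : 𝐍) : ((natOf n : ℕ) : ℤ) = n.1 := by
  obtain ⟨k, hk⟩ := (AddSubmonoid.mem_multiples_iff _ _).mp n.2
  have h1 : (n.1 : ℤ) = (k : ℤ) := by rw [← hk]; simp
  have h2 : 0 ≤ (n.1 : ℤ) := by omega
  exact Int.toNat_of_nonneg h2

theorem natOf_gen1 : natOf gen1 = 1 := rfl

theorem natOf_add (a b : 𝐍) : natOf (a + b) = natOf a + natOf b := by
  have h1 := natOf_spec (a + b)
  have h2 := natOf_spec a
  have h3 := natOf_spec b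
  have h4 : ((a + b : 𝐍) : ℤ) = (a : ℤ) + (b : ℤ) := rfl
  omega

theorem eq_nsmul (n : 𝐍) : n = natOf n • gen1 := by
  apply Subtype.ext
  have h : ((natOf n • gen1 : 𝐍) : ℤ) = natOf n • (1 : ℤ) := AddSubmonoidClass.coe_nsmul _ _
  rw [h, nsmul_eq_mul, _root_.mul_one]
  exact (natOf_spec n).symm

/-- `natOf` as a monoid homomorphism -/
def natHom : 𝐍 →+ ℕ where
  toFun := natOf
  map_zero' := rfl
  map_add' := natOf_add

theorem eq_pow (n' : Multiplicative 𝐍) :
    n' = (Multiplicative.ofAdd gen1) ^ natOf (Multiplicative.toAdd n') := by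
  rw [← ofAdd_nsmul, ← eq_nsmul]
  rfl

/-- the monoid homomorphism `n ↦ X^n` -/
noncomputable def chiX (R : Type u) [CommRing R] : Multiplicative 𝐍 →* Polynomial R :=
  (powersHom (Polynomial R) Polynomial.X).comp (AddMonoidHom.toMultiplicative natHom)

theorem chiX_apply (R : Type u) [CommRing R] (n' : Multiplicative 𝐍) :
    chiX R n' = Polynomial.X ^ natOf (Multiplicative.toAdd n') := by
  change (powersHom (Polynomial R) Polynomial.X)
    (Multiplicative.ofAdd (natOf (Multiplicative.toAdd n'))) = _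
  rw [powersHom_apply, toAdd_ofAdd]

section

variable (S : Scheme.{u})

theorem charOf_eq_pow {T : Over S} (m : T ⟶ AMonS S 𝐍) (n' : Multiplicative 𝐍) :
    charOf S 𝐍 m n' =
      (charOf S 𝐍 m (Multiplicative.ofAdd gen1)) ^ natOf (Multiplicative.toAdd n') := by
  calc charOf S 𝐍 m n'
      = charOf S 𝐍 m ((Multiplicative.ofAdd gen1) ^ natOf (Multiplicative.toAdd n')) :=
        congrArg (charOf S 𝐍 m) (eq_pow n')
    _ = _ := map_pow _ _ _

theorem pt_ext {T : Over S} (m₁ m₂ : T ⟶ AMonS S 𝐍)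
    (h : charOf S 𝐍 m₁ (Multiplicative.ofAdd gen1) = charOf S 𝐍 m₂ (Multiplicative.ofAdd gen1)) :
    m₁ = m₂ := by
  apply charOf_injective S 𝐍
  apply MonoidHom.ext
  intro n'
  rw [charOf_eq_pow S m₁, charOf_eq_pow S m₂, h]

theorem exists_pt (T : Over S) (r : Γ(T.left, ⊤)) :
    ∃ m : T ⟶ AMonS S 𝐍, charOf S 𝐍 m (Multiplicative.ofAdd gen1) = r := by
  obtain ⟨m, hm⟩ := exists_point S 𝐍
    ((powersHom Γ(T.left, ⊤) r).comp (AddMonoidHom.toMultiplicative natHom))
  refine ⟨m, ?_⟩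
  rw [hm]
  change (powersHom Γ(T.left, ⊤) r) (Multiplicative.ofAdd (natOf gen1)) = r
  rw [powersHom_apply, toAdd_ofAdd, natOf_gen1, _root_.pow_one]

theorem exists_gpt (T : Over S) (u : (Γ(T.left, ⊤))ˣ) :
    ∃ g : T ⟶ AMonS S ℤ, charOf S ℤ g (Multiplicative.ofAdd (1 : ℤ)) = (u : Γ(T.left, ⊤)) := by
  obtain ⟨g, hg⟩ := exists_point S ℤ
    ((Units.coeHom Γ(T.left, ⊤)).comp (zpowersHom (Γ(T.left, ⊤))ˣ u))
  refine ⟨g, ?_⟩
  rw [hg]
  change ((zpowersHom (Γ(T.left, ⊤))ˣ u (Multiplicative.ofAdd (1 : ℤ)) : (Γ(T.left, ⊤))ˣ) :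
    Γ(T.left, ⊤)) = u
  rw [zpowersHom_apply, toAdd_ofAdd, zpow_one]

theorem charOf_comp_map {T : Over S} (g : T ⟶ AMonS S ℤ) :
    charOf S 𝐍 (g ≫ AMonS.map S (AddSubmonoid.multiples (1 : ℤ)).subtype)
        (Multiplicative.ofAdd gen1) =
      charOf S ℤ g (Multiplicative.ofAdd (1 : ℤ)) :=
  charOf_map S (AddSubmonoid.multiples (1 : ℤ)).subtype g (Multiplicative.ofAdd gen1)

theorem charOf_pow_succ {T : Over S} (m : T ⟶ AMonS S 𝐍) (n' : Multiplicative 𝐍) (j : ℕ) :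
    charOf S 𝐍 (m ^ (j + 1)) n' = (charOf S 𝐍 m n') ^ (j + 1) := by
  induction j with
  | zero => rw [_root_.zero_add, _root_.pow_one, _root_.pow_one]
  | succ j ih => rw [_root_.pow_succ m (j + 1), charOf_mul, ih, ← _root_.pow_succ]

theorem absorbing_of_pow_eq_zero {T : Over S} (m : T ⟶ AMonS S 𝐍) (n : ℕ)
    (hx : (charOf S 𝐍 m (Multiplicative.ofAdd gen1)) ^ (n + 1) = 0) (m' : T ⟶ AMonS S 𝐍) :
    m ^ (n + 1) * m' = m ^ (n + 1) := by
  apply charOf_injective S 𝐍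
  apply MonoidHom.ext
  intro k'
  rw [charOf_mul]
  rcases Nat.eq_zero_or_pos (natOf (Multiplicative.toAdd k')) with hc | hc
  · have hk : k' = 1 := by rw [eq_pow k', hc, _root_.pow_zero]
    rw [hk, map_one, map_one, _root_.mul_one]
  · have h0 : charOf S 𝐍 (m ^ (n + 1)) k' = 0 := by
      rw [charOf_pow_succ, charOf_eq_pow S m k', ← _root_.pow_mul, _root_.mul_comm,
        _root_.pow_mul, hx, zero_pow (Nat.pos_iff_ne_zero.mp hc)]
    rw [h0, MulZeroClass.zero_mul]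

/-- the coordinate function on `A(ℕ)_S ×_S T` -/
noncomputable def tauT (T : Over S) : Γ((AMonS S 𝐍 ⊗ T).left, ⊤) :=
  (fst (AMonS S 𝐍) T).left.appTop.hom (chi S 𝐍 gen1)

/-- the polynomial model `Γ(T)[X] → Γ(A(ℕ)_S ×_S T)` -/
noncomputable def invΘ (T : Over S) :
    Polynomial Γ(T.left, ⊤) →+* Γ((AMonS S 𝐍 ⊗ T).left, ⊤) :=
  Polynomial.eval₂RingHom (i2 S 𝐍 T).hom (tauT S T)

theorem invΘ_apply (T : Over S) (p : Polynomial Γ(T.left, ⊤)) :
    invΘ S T p = Polynomial.eval₂ (i2 S 𝐍 T).hom (tauT S T) p := rfl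

theorem invΘ_C (T : Over S) (b : Γ(T.left, ⊤)) :
    invΘ S T (Polynomial.C b) = (i2 S 𝐍 T).hom b := by
  rw [invΘ_apply, Polynomial.eval₂_C]

theorem invΘ_X (T : Over S) : invΘ S T Polynomial.X = tauT S T := by
  rw [invΘ_apply, Polynomial.eval₂_X]

theorem i1_gen (T : Over S) :
    (i1 S 𝐍 T).hom (MonoidAlgebra.single (Multiplicative.ofAdd gen1) 1) = tauT S T :=
  i1_single S 𝐍 T gen1

theorem snd_appTop (T : Over S) {T' : Over S} (w : T' ⟶ AMonS S 𝐍 ⊗ T) :
    (w ≫ snd (AMonS S 𝐍) T).left.appTop.hom = w.left.appTop.hom.comp (i2 S 𝐍 T).hom := by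
  rw [Over.comp_left, Scheme.Hom.comp_appTop, CommRingCat.hom_comp]
  rfl

theorem charOf_fst (T : Over S) {T' : Over S} (w : T' ⟶ AMonS S 𝐍 ⊗ T) :
    charOf S 𝐍 (w ≫ fst (AMonS S 𝐍) T) (Multiplicative.ofAdd gen1) =
      w.left.appTop.hom (tauT S T) := by
  rw [charOf_apply, Over.comp_left, Scheme.Hom.comp_appTop]
  rfl

/-- pulling back a function along a point of `A(ℕ)_S ×_S T` is evaluating the polynomial -/
theorem sharp_invΘ (T : Over S) {T' : Over S} (w : T' ⟶ AMonS S 𝐍 ⊗ T)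
    (p : Polynomial Γ(T.left, ⊤)) :
    w.left.appTop.hom (invΘ S T p) =
      Polynomial.eval₂ (w ≫ snd (AMonS S 𝐍) T).left.appTop.hom
        (charOf S 𝐍 (w ≫ fst (AMonS S 𝐍) T) (Multiplicative.ofAdd gen1)) p := by
  rw [invΘ_apply, Polynomial.hom_eval₂, snd_appTop, charOf_fst]

theorem sharp_invΘ_zero (T : Over S) {T' : Over S} (w : T' ⟶ AMonS S 𝐍 ⊗ T)
    (h0 : charOf S 𝐍 (w ≫ fst (AMonS S 𝐍) T) (Multiplicative.ofAdd gen1) = 0)
    (p : Polynomial Γ(T.left, ⊤)) :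
    w.left.appTop.hom (invΘ S T p) = (w ≫ snd (AMonS S 𝐍) T).left.appTop.hom (p.coeff 0) := by
  rw [sharp_invΘ, h0, Polynomial.eval₂_at_zero]

theorem invΘ_whiskerLeft {T T' : Over S} (v : T' ⟶ T) (p : Polynomial Γ(T.left, ⊤)) :
    (AMonS S 𝐍 ◁ v).left.appTop.hom (invΘ S T p) = invΘ S T' (p.map v.left.appTop.hom) := by
  have h1 : (snd (AMonS S 𝐍) T' ≫ v).left.appTop.hom =
      (i2 S 𝐍 T').hom.comp v.left.appTop.hom := by
    rw [Over.comp_left, Scheme.Hom.comp_appTop, CommRingCat.hom_comp]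
    rfl
  have h2 : charOf S 𝐍 (fst (AMonS S 𝐍) T') (Multiplicative.ofAdd gen1) = tauT S T' := by
    rw [charOf_apply]
    rfl
  rw [sharp_invΘ, whiskerLeft_snd, whiskerLeft_fst, h1, h2, invΘ_apply, Polynomial.eval₂_map]

theorem invΘ_surjective (T : Over S) [IsAffine T.left] : Function.Surjective (invΘ S T) := by
  have hw := (isPushout_AMonS S 𝐍 T).w
  obtain ⟨f1, hf1⟩ : ∃ f1 : MonoidAlgebra (ULift.{u} ℤ) (Multiplicative 𝐍) →+*
      Polynomial Γ(T.left, ⊤), f1 = MonoidAlgebra.liftNCRingHom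
        (Polynomial.C.comp (rT S T).hom) (chiX Γ(T.left, ⊤)) (fun _ _ => Commute.all _ _) :=
    ⟨_, rfl⟩
  have hi1 : (i1 S 𝐍 T).hom = (invΘ S T).comp f1 := by
    apply MonoidAlgebra.ringHom_ext
    · intro r
      have e1 : (i1 S 𝐍 T).hom (MonoidAlgebra.single 1 r) =
          (i2 S 𝐍 T).hom ((rT S T).hom r) := congr($hw r)
      rw [e1, RingHom.comp_apply, hf1, MonoidAlgebra.liftNCRingHom_single, map_one,
        _root_.mul_one, RingHom.comp_apply, invΘ_C]
    · intro n'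
      have e2 : (MonoidAlgebra.single n' (1 : ULift.{u} ℤ) :
          MonoidAlgebra (ULift.{u} ℤ) (Multiplicative 𝐍)) =
          (MonoidAlgebra.single (Multiplicative.ofAdd gen1) 1) ^
            natOf (Multiplicative.toAdd n') := by
        rw [MonoidAlgebra.single_pow, _root_.one_pow, ← eq_pow n']
      rw [RingHom.comp_apply, hf1, MonoidAlgebra.liftNCRingHom_single, map_one,
        _root_.one_mul, chiX_apply, map_pow, invΘ_X, e2, map_pow, i1_gen]
  intro w
  refine pushout_induction (isPushout_AMonS S 𝐍 T)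
    (motive := fun w => ∃ p, invΘ S T p = w) ?_ ?_ w
  · intro x s
    refine ⟨f1 x * Polynomial.C s, ?_⟩
    have hx : (i1 S 𝐍 T).hom x = invΘ S T (f1 x) :=
      congrArg (fun φ : MonoidAlgebra (ULift.{u} ℤ) (Multiplicative 𝐍) →+*
        Γ((AMonS S 𝐍 ⊗ T).left, ⊤) => φ x) hi1
    rw [map_mul, invΘ_C, ← hx]
  · rintro p q ⟨p', hp⟩ ⟨q', hq⟩
    exact ⟨p' + q', by rw [map_add, hp, hq]⟩

end

end Groth.Agent.Helper2.MagnetFormal
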