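import Mathlib

/-!
# A criterion for a graded ring map to be bijective (helper2)

`bijective_of_graded`: a map `φ : B → A` of `ℕ`-graded rings which induces an isomorphism modulo
the irrelevant ideals, with `A₊ ⊆ φ(B₊)A`, and such that every element of the kernel is killed by
an element outside any given maximal ideal containing `B₊`, is bijective.  The gradings are given
by their projections (`NGrading`).
-/

set_option autoImplicit false
set_option linter.unusedVariables false
set_option linter.unusedSimpArgs false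
set_option linter.unnecessarySimpa false

namespace Groth.Agent.Helper2.GradedAlg

/-- an `ℕ`-grading of a commutative ring, given by its projections -/
structure NGrading (R : Type*) [CommRing R] where
  /-- the projections -/
  π : ℕ → R →+ R
  decomp : ∀ r, ∃ F : Finset ℕ, r = ∑ n ∈ F, π n r
  π_π_self : ∀ n r, π n (π n r) = π n r
  π_mul_le : ∀ i n r s, i ≤ n → π n (π i r * s) = π i r * π (n - i) s
  π_mul_lt : ∀ i n r s, n < i → π n (π i r * s) = 0
  π_one : π 0 1 = 1

variable {R : Type*} [CommRing R]

/-- the irrelevant ideal -/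
def NGrading.irr (G : NGrading R) : Ideal R :=
  Ideal.span {y | ∃ n, n ≠ 0 ∧ ∃ r, y = G.π n r}

theorem NGrading.π_zero_mul_of_mem_irr (G : NGrading R) {x : R} (hx : x ∈ G.irr) (c : R) :
    G.π 0 (c * x) = 0 := by
  unfold NGrading.irr at hx
  refine Submodule.span_induction (p := fun x _ => ∀ c, G.π 0 (c * x) = 0) ?_ ?_ ?_ ?_ hx c
  · rintro y ⟨n, hn, r, rfl⟩ c
    rw [mul_comm, G.π_mul_lt n 0 r c (Nat.pos_of_ne_zero hn)]
  · intro c
    rw [mul_zero, map_zero]
  · intro x y _ _ hx hy c
    rw [mul_add, map_add, hx, hy, add_zero]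
  · intro d x _ hx c
    rw [smul_eq_mul, ← mul_assoc]
    exact hx (c * d)

theorem bijective_of_graded {A B : Type*} [CommRing A] [CommRing B] (GA : NGrading A)
    (GB : NGrading B) (φ : B →+* A) (hφ : ∀ n b, φ (GB.π n b) = GA.π n (φ b))
    (h1 : GA.irr ≤ Ideal.map φ GB.irr)
    (h2 : ∀ a : A, ∃ b : B, a - φ b ∈ GA.irr)
    (h3 : ∀ x : B, φ x = 0 → x ∈ GB.irr)
    (h4 : ∀ 𝔪 : Ideal B, 𝔪.IsMaximal → GB.irr ≤ 𝔪 → ∀ z : B, φ z = 0 →
      ∃ s : B, s ∉ 𝔪 ∧ s * z = 0) :
    Function.Bijective φ := by
  have hQ : ∀ n, ∀ a : A, GA.π n a ∈ φ.range := by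
    intro n
    induction n using Nat.strong_induction_on with
    | _ n ih =>
      intro a
      rcases Nat.eq_zero_or_pos n with hn | hn
      · subst hn
        obtain ⟨b, hb⟩ := h2 a
        have h0 := GA.π_zero_mul_of_mem_irr hb 1
        rw [one_mul, map_sub, sub_eq_zero] at h0
        rw [h0, ← hφ]
        exact φ.mem_range_self _
      · have hmem : GA.π n a ∈ Ideal.map φ GB.irr :=
          h1 (show GA.π n a ∈ GA.irr from Ideal.subset_span ⟨n, hn.ne', a, rfl⟩)
        have key : ∀ x ∈ Ideal.map φ GB.irr, ∀ m ≤ n, ∀ c : A,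
            GA.π m (c * x) ∈ φ.range := by
          intro x hx
          unfold NGrading.irr at hx
          rw [Ideal.map_span] at hx
          refine Submodule.span_induction
            (p := fun x _ => ∀ m ≤ n, ∀ c : A, GA.π m (c * x) ∈ φ.range) ?_ ?_ ?_ ?_ hx
          · rintro _ ⟨g, ⟨d, hd, r, rfl⟩, rfl⟩ m hm c
            rw [mul_comm, hφ]
            rcases Nat.lt_or_ge m d with hlt | hle
            · rw [GA.π_mul_lt d m _ c hlt]
              exact zero_mem _
            · rw [GA.π_mul_le d m _ c hle, ← hφ]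
              refine mul_mem (φ.mem_range_self _) (ih (m - d) ?_ c)
              omega
          · intro m _ c
            rw [mul_zero, map_zero]
            exact zero_mem _
          · intro x y _ _ hx hy m hm c
            rw [mul_add, map_add]
            exact add_mem (hx m hm c) (hy m hm c)
          · intro d x _ hx m hm c
            rw [smul_eq_mul, ← mul_assoc]
            exact hx m hm (c * d)
        have h5 := key _ hmem n le_rfl 1
        rw [one_mul, GA.π_π_self] at h5
        exact h5
  have hsurj : Function.Surjective φ := by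
    intro a
    obtain ⟨F, hF⟩ := GA.decomp a
    have h5 : ∑ n ∈ F, GA.π n a ∈ φ.range := sum_mem (fun n _ => hQ n a)
    rw [← hF] at h5
    exact RingHom.mem_range.1 h5
  have homog_zero : ∀ (z : B) (n : ℕ), GB.π n z = z → φ z = 0 → z = 0 := by
    intro z n hzn hφz
    by_contra hz0
    obtain ⟨I, hI⟩ : ∃ I : Ideal B, ∀ c, c ∈ I ↔ c * z = 0 :=
      ⟨LinearMap.ker (LinearMap.toSpanSingleton B B z), fun c => by
        rw [LinearMap.mem_ker, LinearMap.toSpanSingleton_apply, smul_eq_mul]⟩
    have hne : I ⊔ GB.irr ≠ ⊤ := by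
      intro htop
      have h1' : (1 : B) ∈ I ⊔ GB.irr := by
        rw [htop]
        exact Submodule.mem_top
      obtain ⟨c, hc, bp, hb, hsum⟩ := Submodule.mem_sup.1 h1'
      have e1 : GB.π 0 c = 1 := by
        have h5 := congrArg (GB.π 0) hsum
        rw [map_add, GB.π_one] at h5
        have h0 := GB.π_zero_mul_of_mem_irr hb 1
        rw [one_mul] at h0
        rw [h0, add_zero] at h5
        exact h5
      have e2 : GB.π n (z * c) = z * GB.π 0 c := by
        have h6 := GB.π_mul_le n n z c le_rfl
        rw [hzn, Nat.sub_self] at h6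
        exact h6
      have e3 : z * c = 0 := by
        rw [mul_comm]
        exact (hI c).1 hc
      rw [e3, map_zero, e1, mul_one] at e2
      exact hz0 e2.symm
    obtain ⟨𝔪, h𝔪, hle⟩ := Ideal.exists_le_maximal _ hne
    obtain ⟨s, hs, hsz⟩ := h4 𝔪 h𝔪 (le_sup_right.trans hle) z hφz
    exact hs (hle (Submodule.mem_sup_left ((hI s).2 hsz)))
  refine ⟨?_, hsurj⟩
  rw [injective_iff_map_eq_zero]
  intro x hx
  obtain ⟨F, hF⟩ := GB.decomp x
  rw [hF]
  refine Finset.sum_eq_zero (fun n _ => ?_)
  exact homog_zero _ n (GB.π_π_self n x) (by rw [hφ, hx, map_zero])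

end Groth.Agent.Helper2.GradedAlg
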