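import Groth.Agent.Lib.Helper2.Magnet.Pts

/-!
# The grading defined by an action of a diagonalizable monoid scheme (helper2)

For `X` affine with an action `a` of `A(M)_S`, the coaction `Γ(X) → Γ(A(M)_S ×_S X)` defines the
homogeneous components `π_m b = coefL m (a♯ b)`.  We prove: every function is the finite sum of its
components (`exists_finset_sum`), components are homogeneous (`isHomog_comp`), homogeneous elements
multiply (`IsHomog.mul`), and the key comparison `span_genJ_eq` of the ideals of two attractors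
when the ring is generated by homogeneous elements whose degrees are controlled.
-/

set_option autoImplicit false
set_option synthInstance.maxHeartbeats 400000
set_option maxHeartbeats 4000000
set_option linter.style.haveILetI false
set_option linter.unusedSectionVars false
set_option linter.unusedVariables false
set_option linter.unusedSimpArgs false
set_option linter.unnecessarySimpa false

universe u
open CategoryTheory Limits MonoidalCategory CartesianMonoidalCategory MonObj AlgebraicGeometry Opposite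
open Magnet Magnet.MonAct

namespace Groth.Agent.Helper2.MagnetGrading

open Groth.Agent.Helper2.MagnetDom Groth.Agent.Helper2.MagnetFun Groth.Agent.Helper2.MagnetComul
  Groth.Agent.Helper2.MagnetPts Groth.Agent.Helper2.MagnetLoc
open Groth.Agent.Helper2.MagnetRep (appTop_tri appTop_comm pushout_induction addHom_ext)

section CharOne

variable (S : Scheme.{u}) (N : Type) [AddCommMonoid N]

theorem charOf_one {W : Over S} (n : Multiplicative N) :
    charOf S N (1 : W ⟶ AMonS S N) n = 1 := by
  obtain ⟨g₁, hg₁⟩ := exists_point S N (1 : Multiplicative N →* Γ(W.left, ⊤))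
  have h1 : charOf S N (g₁ * 1) n = charOf S N g₁ n * charOf S N (1 : W ⟶ AMonS S N) n :=
    charOf_mul S N g₁ 1 n
  rw [_root_.mul_one, hg₁, MonoidHom.one_apply, _root_.one_mul] at h1
  exact h1.symm

end CharOne

section Decomp

variable (S : Scheme.{u}) (M : Type) [AddCommMonoid M] (T : Over S)

/-- the monomial `X^m` on `A(M)_S ×_S T` -/
noncomputable def xpow (m : M) : Γ((AMonS S M ⊗ T).left, ⊤) :=
  i1 S M T (MonoidAlgebra.single (Multiplicative.ofAdd m) 1)

theorem xpow_zero : xpow S M T 0 = 1 := by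
  unfold xpow
  rw [ofAdd_zero]
  exact map_one _

theorem xpow_add (d₁ d₂ : M) : xpow S M T (d₁ + d₂) = xpow S M T d₁ * xpow S M T d₂ := by
  unfold xpow
  rw [← map_mul, MonoidAlgebra.single_mul_single, _root_.mul_one, ofAdd_add]

variable [IsAffine T.left]

theorem coefL_xpow_mul_self (d : M) (s : Γ(T.left, ⊤)) :
    coefL S M T d (xpow S M T d * i2 S M T s) = s := by
  unfold xpow
  rw [coefL_spec, coefHom_single_self, map_one, _root_.one_mul]

theorem coefL_xpow_mul_of_ne (m d : M) (h : m ≠ d) (s : Γ(T.left, ⊤)) :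
    coefL S M T m (xpow S M T d * i2 S M T s) = 0 := by
  unfold xpow
  rw [coefL_spec,
    coefHom_single_of_ne _ _ (fun h' => h (Multiplicative.ofAdd.injective h').symm)]
  simp only [map_zero, zero_mul]

/-- `w` is the finite sum of its monomial components -/
def Dec (w : Γ((AMonS S M ⊗ T).left, ⊤)) : Prop :=
  ∃ F : Finset M, (∀ m, m ∉ F → coefL S M T m w = 0) ∧
    w = ∑ m ∈ F, xpow S M T m * i2 S M T (coefL S M T m w)

theorem dec_zero : Dec S M T 0 :=
  ⟨∅, fun m _ => map_zero _, by simp⟩

theorem dec_add {w₁ w₂ : Γ((AMonS S M ⊗ T).left, ⊤)} (h₁ : Dec S M T w₁) (h₂ : Dec S M T w₂) :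
    Dec S M T (w₁ + w₂) := by
  classical
  obtain ⟨F₁, hF₁, e₁⟩ := h₁
  obtain ⟨F₂, hF₂, e₂⟩ := h₂
  refine ⟨F₁ ∪ F₂, fun m hm => ?_, ?_⟩
  · rw [map_add, hF₁ m (fun h => hm (Finset.mem_union_left _ h)),
      hF₂ m (fun h => hm (Finset.mem_union_right _ h)), add_zero]
  · have s₁ : ∑ m ∈ F₁ ∪ F₂, xpow S M T m * i2 S M T (coefL S M T m w₁) = w₁ := by
      refine Eq.trans ?_ e₁.symm
      refine (Finset.sum_subset Finset.subset_union_left (fun m _ hm => ?_)).symm
      rw [hF₁ m hm, map_zero, mul_zero]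
    have s₂ : ∑ m ∈ F₁ ∪ F₂, xpow S M T m * i2 S M T (coefL S M T m w₂) = w₂ := by
      refine Eq.trans ?_ e₂.symm
      refine (Finset.sum_subset Finset.subset_union_right (fun m _ hm => ?_)).symm
      rw [hF₂ m hm, map_zero, mul_zero]
    calc w₁ + w₂ = ∑ m ∈ F₁ ∪ F₂, xpow S M T m * i2 S M T (coefL S M T m w₁) +
          ∑ m ∈ F₁ ∪ F₂, xpow S M T m * i2 S M T (coefL S M T m w₂) := by rw [s₁, s₂]
      _ = ∑ m ∈ F₁ ∪ F₂, xpow S M T m * i2 S M T (coefL S M T m (w₁ + w₂)) := by
          rw [← Finset.sum_add_distrib]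
          refine Finset.sum_congr rfl (fun m _ => ?_)
          rw [map_add, map_add, mul_add]

theorem dec_single (m₀ : Multiplicative M) (r : ULift.{u} ℤ) (s : Γ(T.left, ⊤)) :
    Dec S M T (i1 S M T (MonoidAlgebra.single m₀ r) * i2 S M T s) := by
  classical
  have hw : i1 S M T (algebraMap (ULift.{u} ℤ) _ r) = i2 S M T (rT S T r) :=
    congr($((isPushout_AMonS S M T).w) r)
  have e1 : i1 S M T (MonoidAlgebra.single m₀ r) * i2 S M T s =
      xpow S M T (Multiplicative.toAdd m₀) * i2 S M T (rT S T r * s) := by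
    unfold xpow
    rw [ofAdd_toAdd, single_eq_algebraMap_mul_single m₀ r, map_mul, map_mul, hw]
    ring
  rw [e1]
  refine ⟨{Multiplicative.toAdd m₀}, fun m hm => ?_, ?_⟩
  · rw [Finset.mem_singleton] at hm
    exact coefL_xpow_mul_of_ne S M T m _ hm _
  · rw [Finset.sum_singleton, coefL_xpow_mul_self]

theorem dec_tmul (x : MonoidAlgebra (ULift.{u} ℤ) (Multiplicative M)) (s : Γ(T.left, ⊤)) :
    Dec S M T (i1 S M T x * i2 S M T s) := by
  induction x using MonoidAlgebra.induction_linear with
  | zero =>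
    rw [map_zero, zero_mul]
    exact dec_zero S M T
  | add x y hx hy =>
    rw [map_add, add_mul]
    exact dec_add S M T hx hy
  | single m₀ r => exact dec_single S M T m₀ r s

theorem dec_all (w : Γ((AMonS S M ⊗ T).left, ⊤)) : Dec S M T w :=
  pushout_induction (isPushout_AMonS S M T) (motive := Dec S M T) (dec_tmul S M T)
    (fun p q hp hq => dec_add S M T hp hq) w

end Decomp

section Action

variable {S : Scheme.{u}} {M : Type} [AddCommMonoid M] {X : Over S} [IsAffine X.left]
  (a : MonAct (AMonS S M) X)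

/-- `h` is homogeneous of degree `d` for the grading defined by the action -/
def IsHomog (d : M) (h : Γ(X.left, ⊤)) : Prop :=
  a.act.left.appTop h = xpow S M X d * i2 S M X h

theorem isHomog_comp (m : M) (b : Γ(X.left, ⊤)) :
    IsHomog a m (coefL S M X m (a.act.left.appTop b)) := by
  haveI : IsAffine (AMonS S M ⊗ X).left := isAffine_tensor S M X
  exact act_component S M a m b

theorem IsHomog.coefL_self {d : M} {h : Γ(X.left, ⊤)} (hh : IsHomog a d h) :
    coefL S M X d (a.act.left.appTop h) = h := by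
  unfold IsHomog at hh
  rw [hh, coefL_xpow_mul_self]

theorem IsHomog.coefL_of_ne {d : M} {h : Γ(X.left, ⊤)} (hh : IsHomog a d h) (m : M)
    (hm : m ≠ d) : coefL S M X m (a.act.left.appTop h) = 0 := by
  unfold IsHomog at hh
  rw [hh, coefL_xpow_mul_of_ne S M X m d hm]

theorem isHomog_one : IsHomog a 0 1 := by
  unfold IsHomog
  rw [map_one, map_one, xpow_zero, _root_.one_mul]

theorem isHomog_of_invariant {s : Γ(X.left, ⊤)} (hs : a.act.left.appTop s = i2 S M X s) :
    IsHomog a 0 s := by
  unfold IsHomog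
  rw [hs, xpow_zero, _root_.one_mul]

theorem IsHomog.mul {d₁ d₂ : M} {h₁ h₂ : Γ(X.left, ⊤)} (hh₁ : IsHomog a d₁ h₁)
    (hh₂ : IsHomog a d₂ h₂) : IsHomog a (d₁ + d₂) (h₁ * h₂) := by
  unfold IsHomog at *
  rw [map_mul, hh₁, hh₂, xpow_add, map_mul]
  ring

theorem counit_act (b : Γ(X.left, ⊤)) :
    (lift (1 : X ⟶ AMonS S M) (𝟙 X)).left.appTop (a.act.left.appTop b) = b := by
  have h := appTop_tri (lift (1 : X ⟶ AMonS S M) (𝟙 X)) a.act (𝟙 X) (a.lift_one_act (𝟙 X))
  exact congr($h b)

theorem counit_xpow (m : M) :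
    (lift (1 : X ⟶ AMonS S M) (𝟙 X)).left.appTop (xpow S M X m) = 1 := by
  unfold xpow
  rw [i1_single]
  have h := appTop_tri (lift (1 : X ⟶ AMonS S M) (𝟙 X)) (fst (AMonS S M) X) 1 (lift_fst _ _)
  have h2 := congr($h (chi S M m))
  refine h2.trans ?_
  exact charOf_one S M (Multiplicative.ofAdd m)

theorem counit_i2 (s : Γ(X.left, ⊤)) :
    (lift (1 : X ⟶ AMonS S M) (𝟙 X)).left.appTop (i2 S M X s) = s := by
  have h := appTop_tri (lift (1 : X ⟶ AMonS S M) (𝟙 X)) (snd (AMonS S M) X) (𝟙 X)
    (lift_snd _ _)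
  exact congr($h s)

/-- every function is the finite sum of its homogeneous components -/
theorem exists_finset_sum (b : Γ(X.left, ⊤)) :
    ∃ F : Finset M, b = ∑ m ∈ F, coefL S M X m (a.act.left.appTop b) := by
  obtain ⟨F, hF, e⟩ := dec_all S M X (a.act.left.appTop b)
  refine ⟨F, ?_⟩
  have h := congrArg (fun w => (lift (1 : X ⟶ AMonS S M) (𝟙 X)).left.appTop w) e
  simp only [] at h
  rw [counit_act a b, map_sum] at h
  refine h.trans (Finset.sum_congr rfl (fun m _ => ?_))
  rw [map_mul, counit_xpow, counit_i2, _root_.one_mul]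

/-- homogeneous elements whose degree lies in `N'` or which lie in `J` -/
def homSub (N' : AddSubmonoid M) (J : Ideal Γ(X.left, ⊤)) : Submonoid Γ(X.left, ⊤) where
  carrier := {h | ∃ d, IsHomog a d h ∧ (d ∈ N' ∨ h ∈ J)}
  one_mem' := ⟨0, isHomog_one a, Or.inl N'.zero_mem⟩
  mul_mem' := by
    rintro h₁ h₂ ⟨d₁, hh₁, c₁⟩ ⟨d₂, hh₂, c₂⟩
    refine ⟨d₁ + d₂, IsHomog.mul a hh₁ hh₂, ?_⟩
    rcases c₁ with c₁ | c₁
    · rcases c₂ with c₂ | c₂
      · exact Or.inl (N'.add_mem c₁ c₂)
      · exact Or.inr (Ideal.mul_mem_left _ _ c₂)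
    · exact Or.inr (Ideal.mul_mem_right _ _ c₁)

theorem mem_homSub {N' : AddSubmonoid M} {J : Ideal Γ(X.left, ⊤)} {h : Γ(X.left, ⊤)} :
    h ∈ homSub a N' J ↔ ∃ d, IsHomog a d h ∧ (d ∈ N' ∨ h ∈ J) := Iff.rfl

/-- if the ring of functions is generated by homogeneous elements of degree `0` or in `D`, the
ideal of the attractor of `N` only depends on `N ∩ D` -/
theorem span_genJ_eq (G : Set Γ(X.left, ⊤)) (hG : Subring.closure G = ⊤) (D : Set M)
    (hD : ∀ g ∈ G, ∃ d, (d = 0 ∨ d ∈ D) ∧ IsHomog a d g)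
    (N N' : AddSubmonoid M) (hle : N' ≤ N) (hND : ∀ d ∈ D, d ∈ N → d ∈ N') :
    Ideal.span (genJ N' a) = Ideal.span (genJ N a) := by
  apply le_antisymm
  · rw [Ideal.span_le]
    rintro y ⟨m, hm, b, rfl⟩
    rw [SetLike.mem_coe]
    obtain ⟨J, hJ⟩ : ∃ J : Ideal Γ(X.left, ⊤), J = Ideal.span (genJ N a) := ⟨_, rfl⟩
    rw [← hJ]
    have hGH : G ⊆ (homSub a N' J : Set Γ(X.left, ⊤)) := by
      intro g hg
      obtain ⟨d, hd, hh⟩ := hD g hg
      rw [SetLike.mem_coe, mem_homSub]
      refine ⟨d, hh, ?_⟩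
      rcases hd with hd | hd
      · left
        rw [hd]
        exact N'.zero_mem
      · by_cases hdN : d ∈ N
        · exact Or.inl (hND d hd hdN)
        · right
          rw [hJ]
          exact Ideal.subset_span ⟨d, hdN, g, (IsHomog.coefL_self a hh).symm⟩
    have hall : ∀ b : Γ(X.left, ⊤),
        b ∈ AddSubgroup.closure ((homSub a N' J : Submonoid Γ(X.left, ⊤)) : Set Γ(X.left, ⊤)) := by
      intro b
      have h1 : b ∈ Subring.closure G := by rw [hG]; exact Subring.mem_top b
      have h2 := Subring.closure_mono hGH h1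
      rw [Subring.mem_closure_iff, Submonoid.closure_eq] at h2
      exact h2
    have key : ∀ b : Γ(X.left, ⊤),
        b ∈ AddSubgroup.closure ((homSub a N' J : Submonoid Γ(X.left, ⊤)) : Set Γ(X.left, ⊤)) →
        coefL S M X m (a.act.left.appTop b) ∈ J := by
      intro b hb
      induction hb using AddSubgroup.closure_induction with
      | mem h hh =>
        rw [SetLike.mem_coe, mem_homSub] at hh
        obtain ⟨d, hhd, c⟩ := hh
        by_cases hmd : m = d
        · subst hmd
          rw [IsHomog.coefL_self a hhd]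
          rcases c with c | c
          · exact absurd c hm
          · exact c
        · rw [IsHomog.coefL_of_ne a hhd m hmd]
          exact J.zero_mem
      | zero =>
        rw [map_zero, map_zero]
        exact J.zero_mem
      | add x y _ _ hx hy =>
        rw [map_add, map_add]
        exact J.add_mem hx hy
      | neg x _ hx =>
        rw [map_neg, map_neg]
        exact J.neg_mem hx
    exact key b (hall b)
  · apply Ideal.span_mono
    rintro y ⟨m, hm, b, rfl⟩
    exact ⟨m, fun h => hm (hle h), b, rfl⟩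

end Action

end Groth.Agent.Helper2.MagnetGrading
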