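import Groth.Agent.Lib.Helper2.Magnet.Grading

/-!
# The affine line `A(ℕ)_S` as a monoid scheme (helper2)

Points of `A(ℕ)_S` are functions (`pt_ext`, `exists_pt`), the zero section `zeroPt` is absorbing,
a point whose function is a unit is invertible (`exists_inv_pt`); for `T` affine, functions on
`A(ℕ)_S ×_S T` are polynomials (`invΘ_surjective`, `sharp_invΘ`).  Also, for any monoid `M`:
multiplication by a homogeneous element shifts coefficients (`coefL_shift`, `coefL_shift_zero`)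
and the simultaneous decomposition `exists_decomp`.
-/

set_option autoImplicit false
set_option synthInstance.maxHeartbeats 400000
set_option maxHeartbeats 4000000
set_option linter.style.haveILetI false
set_option linter.unusedSectionVars false
set_option linter.unusedVariables false
set_option linter.unusedSimpArgs false
set_option linter.unnecessarySimpa false

universe u
open CategoryTheory Limits MonoidalCategory CartesianMonoidalCategory MonObj AlgebraicGeometry Opposite
open Magnet Magnet.MonAct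

namespace Groth.Agent.Helper2.MagnetLine

open Groth.Agent.Helper2.MagnetDom Groth.Agent.Helper2.MagnetFun Groth.Agent.Helper2.MagnetComul
  Groth.Agent.Helper2.MagnetPts Groth.Agent.Helper2.MagnetLoc Groth.Agent.Helper2.MagnetGrading
open Groth.Agent.Helper2.MagnetRep (appTop_tri appTop_comm pushout_induction addHom_ext)

/-! ### coefficient shift, any monoid -/

section Shift

variable (S : Scheme.{u}) (M : Type) [AddCommMonoid M] (T : Over S) [IsAffine T.left]

theorem coefL_shift (i m : M) (hc : ∀ m' : M, i + m' = i + m → m' = m) (h : Γ(T.left, ⊤))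
    (w : Γ((AMonS S M ⊗ T).left, ⊤)) :
    coefL S M T (i + m) (xpow S M T i * i2 S M T h * w) = h * coefL S M T m w := by
  classical
  obtain ⟨F, hF, e⟩ := dec_all S M T w
  obtain ⟨c, hcdef⟩ : ∃ c : M → Γ(T.left, ⊤), c = fun m' => coefL S M T m' w := ⟨_, rfl⟩
  have hcm : ∀ m', coefL S M T m' w = c m' := fun m' => by rw [hcdef]
  have e2 : w = ∑ m' ∈ F, xpow S M T m' * i2 S M T (c m') := by
    rw [hcdef]
    exact e
  have e3 : xpow S M T i * i2 S M T h * w =
      ∑ m' ∈ F, xpow S M T (i + m') * i2 S M T (h * c m') := by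
    rw [e2, Finset.mul_sum]
    refine Finset.sum_congr rfl (fun m' _ => ?_)
    rw [xpow_add, map_mul]
    ring
  rw [hcm, e3, map_sum, Finset.sum_eq_single m]
  · rw [coefL_xpow_mul_self]
  · intro m' _ hm'
    exact coefL_xpow_mul_of_ne S M T (i + m) (i + m') (fun h' => hm' (hc m' h'.symm)) _
  · intro hm
    rw [coefL_xpow_mul_self, ← hcm, hF m hm, mul_zero]

theorem coefL_shift_zero (i n : M) (hn : ∀ m' : M, n ≠ i + m') (h : Γ(T.left, ⊤))
    (w : Γ((AMonS S M ⊗ T).left, ⊤)) :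
    coefL S M T n (xpow S M T i * i2 S M T h * w) = 0 := by
  classical
  obtain ⟨F, hF, e⟩ := dec_all S M T w
  obtain ⟨c, hcdef⟩ : ∃ c : M → Γ(T.left, ⊤), c = fun m' => coefL S M T m' w := ⟨_, rfl⟩
  have e2 : w = ∑ m' ∈ F, xpow S M T m' * i2 S M T (c m') := by
    rw [hcdef]
    exact e
  have e3 : xpow S M T i * i2 S M T h * w =
      ∑ m' ∈ F, xpow S M T (i + m') * i2 S M T (h * c m') := by
    rw [e2, Finset.mul_sum]
    refine Finset.sum_congr rfl (fun m' _ => ?_)
    rw [xpow_add, map_mul]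
    ring
  rw [e3, map_sum]
  refine Finset.sum_eq_zero (fun m' _ => ?_)
  exact coefL_xpow_mul_of_ne S M T n (i + m') (hn m') _

end Shift

section Decomp

variable {S : Scheme.{u}} {M : Type} [AddCommMonoid M] {X : Over S} [IsAffine X.left]
  (a : MonAct (AMonS S M) X)

/-- simultaneous decomposition of a function and of its coaction -/
theorem exists_decomp (b : Γ(X.left, ⊤)) :
    ∃ F : Finset M, (∀ m, m ∉ F → coefL S M X m (a.act.left.appTop b) = 0) ∧
      a.act.left.appTop b =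
        ∑ m ∈ F, xpow S M X m * i2 S M X (coefL S M X m (a.act.left.appTop b)) ∧
      b = ∑ m ∈ F, coefL S M X m (a.act.left.appTop b) := by
  obtain ⟨F, hF, e⟩ := dec_all S M X (a.act.left.appTop b)
  refine ⟨F, hF, e, ?_⟩
  have h := congrArg (fun w => (lift (1 : X ⟶ AMonS S M) (𝟙 X)).left.appTop w) e
  simp only [] at h
  rw [counit_act a b, map_sum] at h
  refine h.trans (Finset.sum_congr rfl (fun m _ => ?_))
  rw [map_mul, counit_xpow, counit_i2, _root_.one_mul]

/-- the homogeneous component of degree `n`, as an additive map -/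
noncomputable def pr (n : M) : Γ(X.left, ⊤) →+ Γ(X.left, ⊤) :=
  (coefL S M X n).comp a.act.left.appTop.hom.toAddMonoidHom

theorem pr_apply (n : M) (b : Γ(X.left, ⊤)) :
    pr a n b = coefL S M X n (a.act.left.appTop b) := rfl

theorem isHomog_pr (n : M) (b : Γ(X.left, ⊤)) : IsHomog a n (pr a n b) := isHomog_comp a n b

theorem pr_of_isHomog {d : M} {h : Γ(X.left, ⊤)} (hh : IsHomog a d h) : pr a d h = h :=
  IsHomog.coefL_self a hh

theorem pr_of_isHomog_ne {d : M} {h : Γ(X.left, ⊤)} (hh : IsHomog a d h) (m : M) (hm : m ≠ d) :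
    pr a m h = 0 := IsHomog.coefL_of_ne a hh m hm

theorem pr_mul_shift {i : M} {g : Γ(X.left, ⊤)} (hg : IsHomog a i g) (m : M)
    (hc : ∀ m' : M, i + m' = i + m → m' = m) (s : Γ(X.left, ⊤)) :
    pr a (i + m) (g * s) = g * pr a m s := by
  haveI : IsAffine (AMonS S M ⊗ X).left := isAffine_tensor S M X
  unfold IsHomog at hg
  rw [pr_apply, pr_apply, map_mul, hg]
  exact coefL_shift S M X i m hc g _

theorem pr_mul_shift_zero {i : M} {g : Γ(X.left, ⊤)} (hg : IsHomog a i g) (n : M)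
    (hn : ∀ m' : M, n ≠ i + m') (s : Γ(X.left, ⊤)) :
    pr a n (g * s) = 0 := by
  unfold IsHomog at hg
  rw [pr_apply, map_mul, hg]
  exact coefL_shift_zero S M X i n hn g _

end Decomp

/-! ### points of the affine line -/

theorem eq_pow (n' : Multiplicative ℕ) :
    n' = (Multiplicative.ofAdd (1 : ℕ)) ^ (Multiplicative.toAdd n') := by
  rw [← ofAdd_nsmul, smul_eq_mul, _root_.mul_one, ofAdd_toAdd]

section Points

variable (S : Scheme.{u})

theorem charOf_eq_pow {T : Over S} (m : T ⟶ AMonS S ℕ) (n' : Multiplicative ℕ) :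
    charOf S ℕ m n' =
      (charOf S ℕ m (Multiplicative.ofAdd (1 : ℕ))) ^ (Multiplicative.toAdd n') := by
  calc charOf S ℕ m n'
      = charOf S ℕ m ((Multiplicative.ofAdd (1 : ℕ)) ^ (Multiplicative.toAdd n')) :=
        congrArg (charOf S ℕ m) (eq_pow n')
    _ = _ := map_pow _ _ _

theorem pt_ext {T : Over S} (m₁ m₂ : T ⟶ AMonS S ℕ)
    (h : charOf S ℕ m₁ (Multiplicative.ofAdd (1 : ℕ)) =
      charOf S ℕ m₂ (Multiplicative.ofAdd (1 : ℕ))) : m₁ = m₂ := by
  apply charOf_injective S ℕ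
  apply MonoidHom.ext
  intro n'
  rw [charOf_eq_pow S m₁, charOf_eq_pow S m₂, h]

theorem exists_pt (T : Over S) (r : Γ(T.left, ⊤)) :
    ∃ m : T ⟶ AMonS S ℕ, charOf S ℕ m (Multiplicative.ofAdd (1 : ℕ)) = r := by
  obtain ⟨m, hm⟩ := exists_point S ℕ (powersHom Γ(T.left, ⊤) r)
  refine ⟨m, ?_⟩
  rw [hm, powersHom_apply, toAdd_ofAdd, _root_.pow_one]

/-- the zero section of the affine line -/
noncomputable def zeroPt (T : Over S) : T ⟶ AMonS S ℕ := (exists_pt S T 0).choose

theorem charOf_zeroPt (T : Over S) :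
    charOf S ℕ (zeroPt S T) (Multiplicative.ofAdd (1 : ℕ)) = 0 :=
  (exists_pt S T 0).choose_spec

theorem comp_zeroPt {T T' : Over S} (v : T' ⟶ T) : v ≫ zeroPt S T = zeroPt S T' := by
  apply pt_ext
  rw [charOf_comp, charOf_zeroPt, charOf_zeroPt, map_zero]

theorem zeroPt_mul {T : Over S} (g : T ⟶ AMonS S ℕ) : zeroPt S T * g = zeroPt S T := by
  apply pt_ext
  rw [charOf_mul, charOf_zeroPt, MulZeroClass.zero_mul]

theorem mul_zeroPt {T : Over S} (g : T ⟶ AMonS S ℕ) : g * zeroPt S T = zeroPt S T := by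
  apply pt_ext
  rw [charOf_mul, charOf_zeroPt, MulZeroClass.mul_zero]

theorem exists_inv_pt {T : Over S} (g : T ⟶ AMonS S ℕ)
    (hu : IsUnit (charOf S ℕ g (Multiplicative.ofAdd (1 : ℕ)))) :
    ∃ g' : T ⟶ AMonS S ℕ, g' * g = 1 := by
  obtain ⟨g', hg'⟩ := exists_pt S T ((hu.unit⁻¹ : (Γ(T.left, ⊤))ˣ) : Γ(T.left, ⊤))
  refine ⟨g', ?_⟩
  apply pt_ext
  rw [charOf_mul, hg', charOf_one]
  exact hu.val_inv_mul

/-! ### the polynomial model -/

/-- the coordinate function on `A(ℕ)_S ×_S T` -/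
noncomputable def tauT (T : Over S) : Γ((AMonS S ℕ ⊗ T).left, ⊤) :=
  (fst (AMonS S ℕ) T).left.appTop.hom (chi S ℕ 1)

/-- the polynomial model `Γ(T)[X] → Γ(A(ℕ)_S ×_S T)` -/
noncomputable def invΘ (T : Over S) :
    Polynomial Γ(T.left, ⊤) →+* Γ((AMonS S ℕ ⊗ T).left, ⊤) :=
  Polynomial.eval₂RingHom (i2 S ℕ T).hom (tauT S T)

theorem invΘ_apply (T : Over S) (p : Polynomial Γ(T.left, ⊤)) :
    invΘ S T p = Polynomial.eval₂ (i2 S ℕ T).hom (tauT S T) p := rfl

theorem invΘ_C (T : Over S) (b : Γ(T.left, ⊤)) :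
    invΘ S T (Polynomial.C b) = (i2 S ℕ T).hom b := by
  rw [invΘ_apply, Polynomial.eval₂_C]

theorem invΘ_X (T : Over S) : invΘ S T Polynomial.X = tauT S T := by
  rw [invΘ_apply, Polynomial.eval₂_X]

theorem i1_gen (T : Over S) :
    (i1 S ℕ T).hom (MonoidAlgebra.single (Multiplicative.ofAdd (1 : ℕ)) 1) = tauT S T :=
  i1_single S ℕ T 1

theorem snd_appTop (T : Over S) {T' : Over S} (w : T' ⟶ AMonS S ℕ ⊗ T) :
    (w ≫ snd (AMonS S ℕ) T).left.appTop.hom = w.left.appTop.hom.comp (i2 S ℕ T).hom := by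
  rw [Over.comp_left, Scheme.Hom.comp_appTop, CommRingCat.hom_comp]
  rfl

theorem charOf_fst (T : Over S) {T' : Over S} (w : T' ⟶ AMonS S ℕ ⊗ T) :
    charOf S ℕ (w ≫ fst (AMonS S ℕ) T) (Multiplicative.ofAdd (1 : ℕ)) =
      w.left.appTop.hom (tauT S T) := by
  rw [charOf_apply, Over.comp_left, Scheme.Hom.comp_appTop]
  rfl

/-- pulling back a function along a point of `A(ℕ)_S ×_S T` is evaluating the polynomial -/
theorem sharp_invΘ (T : Over S) {T' : Over S} (w : T' ⟶ AMonS S ℕ ⊗ T)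
    (p : Polynomial Γ(T.left, ⊤)) :
    w.left.appTop.hom (invΘ S T p) =
      Polynomial.eval₂ (w ≫ snd (AMonS S ℕ) T).left.appTop.hom
        (charOf S ℕ (w ≫ fst (AMonS S ℕ) T) (Multiplicative.ofAdd (1 : ℕ))) p := by
  rw [invΘ_apply, Polynomial.hom_eval₂, snd_appTop, charOf_fst]

theorem sharp_invΘ_zero (T : Over S) {T' : Over S} (w : T' ⟶ AMonS S ℕ ⊗ T)
    (h0 : charOf S ℕ (w ≫ fst (AMonS S ℕ) T) (Multiplicative.ofAdd (1 : ℕ)) = 0)
    (p : Polynomial Γ(T.left, ⊤)) :
    w.left.appTop.hom (invΘ S T p) = (w ≫ snd (AMonS S ℕ) T).left.appTop.hom (p.coeff 0) := by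
  rw [sharp_invΘ, h0, Polynomial.eval₂_at_zero]

theorem invΘ_surjective (T : Over S) [IsAffine T.left] : Function.Surjective (invΘ S T) := by
  have hw := (isPushout_AMonS S ℕ T).w
  obtain ⟨f1, hf1⟩ : ∃ f1 : MonoidAlgebra (ULift.{u} ℤ) (Multiplicative ℕ) →+*
      Polynomial Γ(T.left, ⊤), f1 = MonoidAlgebra.liftNCRingHom
        (Polynomial.C.comp (rT S T).hom) (powersHom (Polynomial Γ(T.left, ⊤)) Polynomial.X)
        (fun _ _ => Commute.all _ _) :=
    ⟨_, rfl⟩
  have hi1 : (i1 S ℕ T).hom = (invΘ S T).comp f1 := by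
    apply MonoidAlgebra.ringHom_ext
    · intro r
      have e1 : (i1 S ℕ T).hom (MonoidAlgebra.single 1 r) =
          (i2 S ℕ T).hom ((rT S T).hom r) := congr($hw r)
      rw [e1, RingHom.comp_apply, hf1, MonoidAlgebra.liftNCRingHom_single, map_one,
        _root_.mul_one, RingHom.comp_apply, invΘ_C]
    · intro n'
      have e2 : (MonoidAlgebra.single n' (1 : ULift.{u} ℤ) :
          MonoidAlgebra (ULift.{u} ℤ) (Multiplicative ℕ)) =
          (MonoidAlgebra.single (Multiplicative.ofAdd (1 : ℕ)) 1) ^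
            (Multiplicative.toAdd n') := by
        rw [MonoidAlgebra.single_pow, _root_.one_pow, ← eq_pow n']
      rw [RingHom.comp_apply, hf1, MonoidAlgebra.liftNCRingHom_single, map_one,
        _root_.one_mul, powersHom_apply, map_pow, invΘ_X, e2, map_pow, i1_gen]
  intro w
  refine pushout_induction (isPushout_AMonS S ℕ T)
    (motive := fun w => ∃ p, invΘ S T p = w) ?_ ?_ w
  · intro x s
    refine ⟨f1 x * Polynomial.C s, ?_⟩
    have hx : (i1 S ℕ T).hom x = invΘ S T (f1 x) :=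
      congrArg (fun φ : MonoidAlgebra (ULift.{u} ℤ) (Multiplicative ℕ) →+*
        Γ((AMonS S ℕ ⊗ T).left, ⊤) => φ x) hi1
    rw [map_mul, invΘ_C, ← hx]
  · rintro p q ⟨p', hp⟩ ⟨q', hq⟩
    exact ⟨p' + q', by rw [map_add, hp, hq]⟩

end Points

end Groth.Agent.Helper2.MagnetLine
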