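import Groth.Agent.Lib.Helper2.Magnet.LineFixed
import Groth.Agent.Lib.Helper2.Magnet.FormalLoc

/-!
# Equivariant morphisms of affine schemes with an action of the affine line (helper2)

`isIso_of_affine`: an equivariant morphism `f : X ⟶ Y` of affine schemes with an action of the
multiplicative monoid of the affine line is an isomorphism as soon as it induces a bijection on
fixed points, reflects fixed points, and has injective stalk maps at the fixed points.
-/

set_option autoImplicit false
set_option synthInstance.maxHeartbeats 400000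
set_option maxHeartbeats 4000000
set_option linter.style.haveILetI false
set_option linter.unusedSectionVars false
set_option linter.unusedVariables false
set_option linter.unusedSimpArgs false
set_option linter.unnecessarySimpa false

universe u
open CategoryTheory Limits MonoidalCategory CartesianMonoidalCategory MonObj AlgebraicGeometry Opposite
open Magnet Magnet.MonAct

namespace Groth.Agent.Helper2.MagnetLine

open Groth.Agent.Helper2.MagnetDom Groth.Agent.Helper2.MagnetFun Groth.Agent.Helper2.MagnetComul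
  Groth.Agent.Helper2.MagnetPts Groth.Agent.Helper2.MagnetLoc Groth.Agent.Helper2.MagnetGrading
  Groth.Agent.Helper2.MagnetFixedRep Groth.Agent.Helper2.MagnetOpen
  Groth.Agent.Helper2.MagnetRepCover Groth.Agent.Helper2.GradedAlg
open Groth.Agent.Helper2.MagnetRep (appTop_tri appTop_comm exists_hom_appTop
  exists_closed_subscheme)
open Groth.Agent.Helper2.MagnetFormal (exists_affine_point)

section Gen

variable {S : Scheme.{u}}

theorem appTop_comp_apply {T X Y : Over S} (t : T ⟶ X) (f : X ⟶ Y) (y : Γ(Y.left, ⊤)) :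
    (t ≫ f).left.appTop y = t.left.appTop (f.left.appTop y) :=
  (congr($(appTop_tri t f _ rfl) y)).symm

/-- a point of an affine scheme whose kernel is a given ideal -/
theorem exists_quot_point (X : Over S) [IsAffine X.left] (I : Ideal Γ(X.left, ⊤)) :
    ∃ (T : Over S) (t : T ⟶ X), IsAffine T.left ∧ (∀ x, t.left.appTop x = 0 ↔ x ∈ I) ∧
      (I ≠ ⊤ → Nontrivial Γ(T.left, ⊤)) := by
  obtain ⟨T, t, e, hT, het⟩ := exists_affine_point X (CommRingCat.of (Γ(X.left, ⊤) ⧸ I))
    (CommRingCat.ofHom (Ideal.Quotient.mk I))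
  have hinj : Function.Injective e.hom := (ConcreteCategory.bijective_of_isIso e.hom).1
  have hmk : ∀ x, e.hom (t.left.appTop x) = Ideal.Quotient.mk I x := fun x => congr($het x)
  refine ⟨T, t, hT, fun x => ⟨fun h => ?_, fun h => ?_⟩, fun hI => ?_⟩
  · have h1 : Ideal.Quotient.mk I x = 0 := by rw [← hmk, h, map_zero]
    exact Ideal.Quotient.eq_zero_iff_mem.1 h1
  · apply hinj
    rw [map_zero, hmk]
    exact Ideal.Quotient.eq_zero_iff_mem.2 h
  · refine ⟨⟨0, 1, fun h01 => hI ?_⟩⟩
    have h1 : Ideal.Quotient.mk I (1 : Γ(X.left, ⊤)) = 0 := by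
      have h2 := congrArg e.hom h01
      rw [map_zero, map_one] at h2
      rw [map_one]
      exact h2.symm
    exact (Ideal.eq_top_iff_one I).2 (Ideal.Quotient.eq_zero_iff_mem.1 h1)

theorem nonempty_of_nontrivial (T : Scheme.{u}) [IsAffine T] [Nontrivial Γ(T, ⊤)] : Nonempty T := by
  obtain ⟨p⟩ := (inferInstance : Nonempty (PrimeSpectrum Γ(T, ⊤)))
  exact ⟨T.isoSpec.inv (show Spec Γ(T, ⊤) from p)⟩

theorem exists_mul_eq_zero_of_germ_eq_zero (Y : Scheme.{u}) [IsAffine Y] (y : Y) (z : Γ(Y, ⊤))
    (hz : Y.presheaf.germ ⊤ y trivial z = 0) :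
    ∃ s : Γ(Y, ⊤), y ∈ Y.basicOpen s ∧ s * z = 0 := by
  have hU := isAffineOpen_top Y
  obtain ⟨yy, hyy⟩ : ∃ yy : (⊤ : Y.Opens), yy.1 = y := ⟨⟨y, trivial⟩, rfl⟩
  subst hyy
  haveI := hU.isLocalization_stalk yy
  have hz' : algebraMap Γ(Y, ⊤) (Y.presheaf.stalk yy.1) z = 0 := hz
  obtain ⟨m, hm⟩ := (IsLocalization.map_eq_zero_iff (hU.primeIdealOf yy).asIdeal.primeCompl
    (Y.presheaf.stalk yy.1) z).1 hz'
  refine ⟨m.1, ?_, hm⟩
  have h1 : hU.fromSpec (hU.primeIdealOf yy) = yy.1 := hU.fromSpec_primeIdealOf yy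
  have h2 : hU.primeIdealOf yy ∈ hU.fromSpec ⁻¹ᵁ Y.basicOpen m.1 := by
    rw [hU.fromSpec_preimage_basicOpen]
    exact m.2
  rw [← h1]
  exact h2

set_option backward.isDefEq.respectTransparency.types false in
theorem stalkMap_injective_of_flat {X Y : Scheme.{u}} (f : X ⟶ Y) [Flat f] (x : X) :
    Function.Injective (f.stalkMap x).hom := by
  algebraize [(f.stalkMap x).hom]
  have : Module.FaithfullyFlat (Y.presheaf.stalk (f x)) (X.presheaf.stalk x) :=
    @Module.FaithfullyFlat.of_flat_of_isLocalHom _ _ _ _ _ _ _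
      (Flat.stalkMap f x) (f.toLRSHom.prop x)
  exact ‹RingHom.FaithfullyFlat _›.injective

end Gen

section Fixed

variable {S : Scheme.{u}} {M : Type} [AddCommMonoid M] {X : Over S} [IsAffine X.left]
  (a : MonAct (AMonS S M) X)

/-- the fixed locus, with its ring-theoretic description -/
theorem exists_fixed_locus' :
    ∃ (F : Over S) (iF : F ⟶ X), IsAffine F.left ∧ IsClosedImmersion iF.left ∧ IsFixed a iF ∧
      (∀ (T : Over S) [IsAffine T.left] (z : T ⟶ X), IsFixed a z → ∃ u : T ⟶ F, u ≫ iF = z) ∧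
      Function.Surjective iF.left.appTop ∧ ∀ y, iF.left.appTop y = 0 → y ∈ fixIdeal a := by
  obtain ⟨F, iF, hF, hcl, hfix, hl⟩ := exists_fixed_locus a
  haveI := hF
  haveI := hcl
  refine ⟨F, iF, hF, hcl, hfix, hl,
    (IsClosedImmersion.isAffine_surjective_of_isAffine iF.left).2, ?_⟩
  intro y hy
  obtain ⟨T, t, hT, hker, -⟩ := exists_quot_point X (fixIdeal a)
  haveI := hT
  have htfix : IsFixed a t := isFixed_of_kills a t fun y' hy' => (hker y').2 hy'
  obtain ⟨u, hu⟩ := hl T t htfix
  apply (hker y).1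
  rw [← hu, appTop_comp_apply, hy, map_zero]

end Fixed

section Main

variable {S : Scheme.{u}} {X Y : Over S} [IsAffine X.left] [IsAffine Y.left]

theorem isIso_of_affine (a : MonAct (AMonS S ℕ) X) (b : MonAct (AMonS S ℕ) Y) (f : X ⟶ Y)
    (hf : IsEquivariant a b f)
    (E1 : ∀ (T : Over S) [IsAffine T.left] (y : T ⟶ Y), IsFixed b y →
      ∃ x : T ⟶ X, IsFixed a x ∧ x ≫ f = y)
    (E1' : ∀ (T : Over S) [IsAffine T.left] (x₁ x₂ : T ⟶ X), IsFixed a x₁ → IsFixed a x₂ →
      x₁ ≫ f = x₂ ≫ f → x₁ = x₂)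
    (E2 : ∀ (T : Over S) [IsAffine T.left] (x : T ⟶ X), IsFixed b (x ≫ f) → IsFixed a x)
    (E3 : ∀ (T : Over S) [IsAffine T.left] (x : T ⟶ X), IsFixed a x → ∀ t : T.left,
      Function.Injective (f.left.stalkMap (x.left t)).hom) : IsIso f := by
  obtain ⟨FX, iX, hFX, -, hfixX, hlX, hsX, hkX⟩ := exists_fixed_locus' a
  obtain ⟨FY, iY, hFY, -, hfixY, hlY, hsY, hkY⟩ := exists_fixed_locus' b
  haveI := hFX
  haveI := hFY
  obtain ⟨ξ, hξfix, hξ⟩ := E1 FY iY hfixY
  obtain ⟨u, hu⟩ := hlY FX (iX ≫ f) (IsFixed.map f hf hfixX)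
  have huξ : u ≫ ξ = iX :=
    E1' FX (u ≫ ξ) iX (hξfix.comp u) hfixX (by rw [Category.assoc, hξ, hu])
  have hbij : Function.Bijective f.left.appTop.hom := by
    apply bijective_of_graded (gradingOf a) (gradingOf b) f.left.appTop.hom
    · intro n y
      exact pr_natural a hf n y
    · -- (h1)
      rw [gradingOf_irr, gradingOf_irr]
      intro x hx
      obtain ⟨T, t, hT, hker, -⟩ :=
        exists_quot_point X (Ideal.map f.left.appTop.hom (fixIdeal b))
      haveI := hT
      have hfix : IsFixed b (t ≫ f) := by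
        apply isFixed_of_kills b
        intro y hy
        rw [appTop_comp_apply]
        exact (hker _).2 (Ideal.mem_map_of_mem _ hy)
      exact (hker x).1 (IsFixed.kills a (E2 T t hfix) x hx)
    · -- (h2)
      intro a'
      obtain ⟨b', hb'⟩ := hsY (ξ.left.appTop a')
      refine ⟨b', ?_⟩
      rw [gradingOf_irr]
      apply hkX
      have e1 : iX.left.appTop a' = u.left.appTop (ξ.left.appTop a') := by
        rw [← huξ]
        exact appTop_comp_apply u ξ a'
      have e2 : iX.left.appTop (f.left.appTop b') = u.left.appTop (iY.left.appTop b') :=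
        (appTop_comp_apply iX f b').symm.trans
          ((by rw [hu] : (iX ≫ f).left.appTop b' = (u ≫ iY).left.appTop b').trans
            (appTop_comp_apply u iY b'))
      have e3 : iX.left.appTop (a' - f.left.appTop.hom b') =
          iX.left.appTop a' - iX.left.appTop (f.left.appTop b') := map_sub _ _ _
      rw [e3, e1, e2, hb', sub_self]
    · -- (h3)
      intro x hx
      rw [gradingOf_irr]
      apply hkY
      rw [← hξ, appTop_comp_apply]
      have hx' : f.left.appTop x = 0 := hx
      rw [hx', map_zero]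
    · -- (h4)
      intro 𝔪 h𝔪 hle z hz
      rw [gradingOf_irr] at hle
      obtain ⟨TK, yK, hTK, hker, hnt⟩ := exists_quot_point Y 𝔪
      haveI := hTK
      haveI : Nontrivial Γ(TK.left, ⊤) := hnt h𝔪.ne_top
      have hfixK : IsFixed b yK := isFixed_of_kills b yK fun y hy => (hker y).2 (hle hy)
      obtain ⟨xK, hxKfix, hxK⟩ := E1 TK yK hfixK
      obtain ⟨pt⟩ := nonempty_of_nontrivial TK.left
      have hinj := E3 TK xK hxKfix pt
      have hgerm : Y.left.presheaf.germ ⊤ (f.left (xK.left pt)) trivial z = 0 := by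
        apply hinj
        rw [map_zero]
        have h1 := Scheme.Hom.germ_stalkMap_apply f.left ⊤ (xK.left pt) trivial z
        refine h1.trans ?_
        have hz' : f.left.app ⊤ z = 0 := hz
        rw [hz', map_zero]
      obtain ⟨s, hs, hsz⟩ := exists_mul_eq_zero_of_germ_eq_zero Y.left _ z hgerm
      refine ⟨s, fun hsm => ?_, hsz⟩
      have h0 : yK.left.appTop s = 0 := (hker s).2 hsm
      have hpt : pt ∈ yK.left ⁻¹ᵁ Y.left.basicOpen s := by
        change yK.left pt ∈ Y.left.basicOpen s
        rw [← hxK, Over.comp_left, Scheme.Hom.comp_apply]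
        exact hs
      rw [Scheme.preimage_basicOpen_top, h0, Scheme.basicOpen_zero] at hpt
      exact TopologicalSpace.Opens.mem_bot.1 hpt
  haveI : IsIso f.left.appTop := (ConcreteCategory.isIso_iff_bijective _).2 hbij
  obtain ⟨g, hg⟩ := exists_hom_appTop Y.left X.left (inv f.left.appTop)
  haveI : IsIso f.left := by
    refine ⟨g, ?_, ?_⟩
    · apply ext_of_isAffine
      rw [Scheme.Hom.comp_appTop, hg, Scheme.Hom.id_appTop, IsIso.inv_hom_id]
    · apply ext_of_isAffine
      rw [Scheme.Hom.comp_appTop, hg, Scheme.Hom.id_appTop, IsIso.hom_inv_id]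
  haveI : IsIso ((Over.forget S).map f) := (inferInstance : IsIso f.left)
  exact isIso_of_reflects_iso f (Over.forget S)

end Main

end Groth.Agent.Helper2.MagnetLine
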