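import Groth.Agent.Lib.Helper2.Magnet.LineFlow
import Groth.Agent.Lib.Helper2.Magnet.GradedAlg
import Groth.Agent.Lib.Helper2.Magnet.RepCover

/-!
# Fixed points of an affine scheme with an action of a diagonalizable monoid (helper2)

For `X` affine with an action of `A(M)_S`: a point of an affine test scheme is fixed iff it kills
the ideal generated by the components of non-zero degree (`isFixed_iff_kills`); the fixed locus is
a closed subscheme (`exists_fixed_locus`); for `M = ℕ` the grading as an `NGrading`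
(`gradingOf`), invariant basic opens (`exists_invariant_basicOpen`, `basicOpen_le_of_stable`) and
charts (`exists_chart`).
-/

set_option autoImplicit false
set_option synthInstance.maxHeartbeats 400000
set_option maxHeartbeats 4000000
set_option linter.style.haveILetI false
set_option linter.unusedSectionVars false
set_option linter.unusedVariables false
set_option linter.unusedSimpArgs false
set_option linter.unnecessarySimpa false

universe u
open CategoryTheory Limits MonoidalCategory CartesianMonoidalCategory MonObj AlgebraicGeometry Opposite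
open Magnet Magnet.MonAct

namespace Groth.Agent.Helper2.MagnetLine

open Groth.Agent.Helper2.MagnetDom Groth.Agent.Helper2.MagnetFun Groth.Agent.Helper2.MagnetComul
  Groth.Agent.Helper2.MagnetPts Groth.Agent.Helper2.MagnetLoc Groth.Agent.Helper2.MagnetGrading
  Groth.Agent.Helper2.MagnetFixedRep Groth.Agent.Helper2.MagnetOpen
  Groth.Agent.Helper2.MagnetRepCover Groth.Agent.Helper2.GradedAlg
open Groth.Agent.Helper2.MagnetRep (appTop_tri appTop_comm exists_hom_appTop
  exists_closed_subscheme)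

section Crit

variable {S : Scheme.{u}} {M : Type} [AddCommMonoid M]

theorem whiskerLeft_eq_lift {A T X : Over S} (x : T ⟶ X) :
    lift (fst A T) (snd A T ≫ x) = A ◁ x := by
  apply CartesianMonoidalCategory.hom_ext
  · rw [lift_fst, whiskerLeft_fst]
  · rw [lift_snd, whiskerLeft_snd]

theorem IsFixed.whisker_eq {X : Over S} (a : MonAct (AMonS S M) X) {T : Over S} {x : T ⟶ X}
    (hx : IsFixed a x) : (AMonS S M ◁ x) ≫ a.act = snd (AMonS S M) T ≫ x := by
  have h := hx (AMonS S M ⊗ T) (snd (AMonS S M) T) (fst (AMonS S M) T)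
  rw [whiskerLeft_eq_lift] at h
  exact h

theorem isFixed_of_whisker_eq {X : Over S} (a : MonAct (AMonS S M) X) {T : Over S} {x : T ⟶ X}
    (h : (AMonS S M ◁ x) ≫ a.act = snd (AMonS S M) T ≫ x) : IsFixed a x := by
  intro T' t g
  calc lift g (t ≫ x) ≫ a.act = lift g t ≫ (AMonS S M ◁ x) ≫ a.act := by
        rw [lift_whiskerLeft_assoc]
    _ = lift g t ≫ snd (AMonS S M) T ≫ x := by rw [h]
    _ = t ≫ x := by rw [lift_snd_assoc]

variable {X : Over S} [IsAffine X.left] (a : MonAct (AMonS S M) X)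

/-- the ideal of the fixed locus -/
noncomputable def fixIdeal : Ideal Γ(X.left, ⊤) :=
  Ideal.span (genJ (⊥ : AddSubmonoid M) a)

theorem pr_mem_fixIdeal (m : M) (hm : m ≠ 0) (b : Γ(X.left, ⊤)) : pr a m b ∈ fixIdeal a :=
  Ideal.subset_span ⟨m, fun h => hm (AddSubmonoid.mem_bot.1 h), b, rfl⟩

theorem IsFixed.kills {T : Over S} [IsAffine T.left] {x : T ⟶ X} (hx : IsFixed a x) :
    ∀ y ∈ fixIdeal a, x.left.appTop y = 0 := by
  have hle : fixIdeal a ≤ RingHom.ker x.left.appTop.hom := by
    unfold fixIdeal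
    rw [Ideal.span_le]
    rintro y ⟨m, hm, b, rfl⟩
    rw [SetLike.mem_coe, RingHom.mem_ker]
    change x.left.appTop (coefL S M X m (a.act.left.appTop b)) = 0
    rw [← coefL_natural S M x m]
    have e1 : (AMonS S M ◁ x).left.appTop (a.act.left.appTop b) =
        i2 S M T (x.left.appTop b) := by
      have h2 := appTop_tri (AMonS S M ◁ x) a.act (snd (AMonS S M) T ≫ x)
        (IsFixed.whisker_eq a hx)
      have h3 := congr($h2 b)
      refine h3.trans ?_
      have h4 := appTop_tri (snd (AMonS S M) T) x (snd (AMonS S M) T ≫ x) rfl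
      exact (congr($h4 b)).symm
    rw [e1]
    have hm0 : m ≠ 0 := fun h => hm (by rw [h]; exact (⊥ : AddSubmonoid M).zero_mem)
    have e2 : i2 S M T (x.left.appTop b) = xpow S M T 0 * i2 S M T (x.left.appTop b) := by
      rw [xpow_zero, _root_.one_mul]
    rw [e2]
    exact coefL_xpow_mul_of_ne S M T m 0 hm0 _
  intro y hy
  exact hle hy

theorem isFixed_of_kills {T : Over S} [IsAffine T.left] (x : T ⟶ X)
    (hk : ∀ y ∈ fixIdeal a, x.left.appTop y = 0) : IsFixed a x := by
  classical
  haveI : IsAffine (AMonS S M ⊗ X).left := isAffine_tensor S M X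
  apply isFixed_of_whisker_eq a
  apply Over.OverMorphism.ext
  apply ext_of_isAffine
  ext b
  change ((AMonS S M ◁ x) ≫ a.act).left.appTop b = (snd (AMonS S M) T ≫ x).left.appTop b
  obtain ⟨F, hF, eΔ, eb⟩ := exists_decomp a b
  obtain ⟨c, hc⟩ : ∃ c : M → Γ(X.left, ⊤),
      c = fun m => coefL S M X m (a.act.left.appTop b) := ⟨_, rfl⟩
  have hF' : ∀ m, m ∉ F → c m = 0 := fun m hm => by rw [hc]; exact hF m hm
  have eΔ' : a.act.left.appTop b = ∑ m ∈ F, xpow S M X m * i2 S M X (c m) := by
    rw [hc]; exact eΔ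
  have eb' : b = ∑ m ∈ F, c m := by rw [hc]; exact eb
  have hkm : ∀ m, m ≠ 0 → x.left.appTop (c m) = 0 := fun m hm => by
    rw [hc]
    exact hk _ (pr_mem_fixIdeal a m hm b)
  have hL : ((AMonS S M ◁ x) ≫ a.act).left.appTop b =
      (AMonS S M ◁ x).left.appTop (a.act.left.appTop b) :=
    (congr($(appTop_tri (AMonS S M ◁ x) a.act _ rfl) b)).symm
  have hR : (snd (AMonS S M) T ≫ x).left.appTop b = i2 S M T (x.left.appTop b) :=
    (congr($(appTop_tri (snd (AMonS S M) T) x _ rfl) b)).symm
  have hwh1 : ∀ m, (AMonS S M ◁ x).left.appTop (xpow S M X m) = xpow S M T m := fun m =>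
    congr($(i1_whiskerLeft S M x) _)
  have hwh2 : ∀ c', (AMonS S M ◁ x).left.appTop (i2 S M X c') = i2 S M T (x.left.appTop c') :=
    fun c' => congr($(i2_whiskerLeft S M x) c')
  have h0 : x.left.appTop b = x.left.appTop (c 0) := by
    calc x.left.appTop b = x.left.appTop (∑ m ∈ F, c m) := congrArg _ eb'
      _ = ∑ m ∈ F, x.left.appTop (c m) := map_sum _ _ _
      _ = x.left.appTop (c 0) := Finset.sum_eq_single 0 (fun m _ hm => hkm m hm)
          (fun h0 => by rw [hF' 0 h0, map_zero])
  rw [hL, hR, eΔ', map_sum, h0]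
  have h1 : ∀ m ∈ F, (AMonS S M ◁ x).left.appTop (xpow S M X m * i2 S M X (c m)) =
      xpow S M T m * i2 S M T (x.left.appTop (c m)) := fun m _ => by
    rw [map_mul, hwh1, hwh2]
  rw [Finset.sum_congr rfl h1, Finset.sum_eq_single 0]
  · rw [xpow_zero, _root_.one_mul]
  · intro m _ hm
    rw [hkm m hm, map_zero, mul_zero]
  · intro h0'
    rw [hF' 0 h0', map_zero, map_zero, mul_zero]

theorem isFixed_iff_kills {T : Over S} [IsAffine T.left] (x : T ⟶ X) :
    IsFixed a x ↔ ∀ y ∈ fixIdeal a, x.left.appTop y = 0 :=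
  ⟨fun h => IsFixed.kills a h, isFixed_of_kills a x⟩

theorem IsFixed.appTop_eq_pr_zero {T : Over S} [IsAffine T.left] {x : T ⟶ X}
    (hx : IsFixed a x) (b : Γ(X.left, ⊤)) :
    x.left.appTop b = x.left.appTop (pr a 0 b) := by
  classical
  obtain ⟨F, hF, -, eb⟩ := exists_decomp a b
  have hk := IsFixed.kills a hx
  calc x.left.appTop b
      = x.left.appTop (∑ m ∈ F, coefL S M X m (a.act.left.appTop b)) := congrArg _ eb
    _ = ∑ m ∈ F, x.left.appTop (coefL S M X m (a.act.left.appTop b)) := map_sum _ _ _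
    _ = x.left.appTop (coefL S M X 0 (a.act.left.appTop b)) :=
        Finset.sum_eq_single 0 (fun m _ hm => hk _ (pr_mem_fixIdeal a m hm b))
          (fun h0 => by rw [hF 0 h0, map_zero])

/-- equivariant maps are graded -/
theorem pr_natural {Y : Over S} [IsAffine Y.left] {b : MonAct (AMonS S M) Y} {f : X ⟶ Y}
    (hf : IsEquivariant a b f) (m : M) (y : Γ(Y.left, ⊤)) :
    f.left.appTop (pr b m y) = pr a m (f.left.appTop y) := by
  rw [pr_apply, pr_apply, ← coefL_natural S M f m]
  have h2 := appTop_comm a.act f (AMonS S M ◁ f) b.act hf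
  have h3 : a.act.left.appTop (f.left.appTop y) =
      (AMonS S M ◁ f).left.appTop (b.act.left.appTop y) := congr($h2 y)
  rw [h3]

theorem map_mem_fixIdeal {Y : Over S} [IsAffine Y.left] {b : MonAct (AMonS S M) Y} {f : X ⟶ Y}
    (hf : IsEquivariant a b f) (y : Γ(Y.left, ⊤)) (hy : y ∈ fixIdeal b) :
    f.left.appTop y ∈ fixIdeal a := by
  have hle : fixIdeal b ≤ Ideal.comap f.left.appTop.hom (fixIdeal a) := by
    unfold fixIdeal
    rw [Ideal.span_le]
    rintro _ ⟨m, hm, y, rfl⟩
    rw [SetLike.mem_coe, Ideal.mem_comap]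
    have h1 := pr_natural a hf m y
    rw [pr_apply] at h1
    change f.left.appTop (coefL S M Y m (b.act.left.appTop y)) ∈ _
    rw [h1]
    exact Ideal.subset_span ⟨m, hm, _, rfl⟩
  exact hle hy

theorem isHomog_map {Y : Over S} [IsAffine Y.left] {b : MonAct (AMonS S M) Y} {f : X ⟶ Y}
    (hf : IsEquivariant a b f) {d : M} {y : Γ(Y.left, ⊤)} (hy : IsHomog b d y) :
    IsHomog a d (f.left.appTop y) := by
  have h1 := pr_natural a hf d y
  rw [pr_of_isHomog b hy] at h1
  rw [h1]
  exact isHomog_pr a d _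

/-- the fixed locus -/
theorem exists_fixed_locus :
    ∃ (F : Over S) (iF : F ⟶ X), IsAffine F.left ∧ IsClosedImmersion iF.left ∧ IsFixed a iF ∧
      ∀ (T : Over S) [IsAffine T.left] (z : T ⟶ X), IsFixed a z → ∃ u : T ⟶ F, u ≫ iF = z := by
  obtain ⟨F₀, ι₀, hFaff, hcl, hkill, hlift⟩ := exists_closed_subscheme X.left (fixIdeal a)
  refine ⟨Over.mk (ι₀ ≫ X.hom), Over.homMk ι₀ rfl, hFaff, hcl, ?_, ?_⟩
  · haveI : IsAffine (Over.mk (ι₀ ≫ X.hom)).left := hFaff
    exact isFixed_of_kills a _ hkill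
  · intro T _ z hz
    obtain ⟨g, hg⟩ := hlift T.left z.left (IsFixed.kills a hz)
    refine ⟨Over.homMk g ?_, ?_⟩
    · change g ≫ ι₀ ≫ X.hom = T.hom
      rw [← Category.assoc, hg, Over.w]
    · apply Over.OverMorphism.ext
      rw [Over.comp_left]
      exact hg

end Crit

section Line

variable {S : Scheme.{u}} {X : Over S}

/-- lifting a point through an open immersion -/
theorem exists_lift_of_range {Z T : Over S} (j : Z ⟶ X) [IsOpenImmersion j.left] (x : T ⟶ X)
    (h : ∀ t : T.left, x.left t ∈ j.left.opensRange) : ∃ x' : T ⟶ Z, x' ≫ j = x := by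
  have hrange : Set.range x.left ⊆ Set.range j.left := by
    rintro _ ⟨t, rfl⟩
    exact h t
  refine ⟨Over.homMk (IsOpenImmersion.lift j.left x.left hrange) ?_, ?_⟩
  · rw [← Over.w j, ← Category.assoc, IsOpenImmersion.lift_fac, Over.w]
  · apply Over.OverMorphism.ext
    rw [Over.comp_left]
    exact IsOpenImmersion.lift_fac _ _ _

/-- a stable affine open subset is a chart -/
theorem exists_chart (a : MonAct (AMonS S ℕ) X) (U : X.left.Opens) (hU : IsAffineOpen U)
    (hst : IsStable a U) :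
    ∃ (Z : Over S) (aZ : MonAct (AMonS S ℕ) Z) (j : Z ⟶ X) (_ : IsOpenImmersion j.left),
      IsAffine Z.left ∧ IsEquivariant aZ a j ∧ j.left.opensRange = U := by
  obtain ⟨aU, haU⟩ := exists_action_of_stable_open a U hst
  have hopen : IsOpenImmersion (Over.homMk U.ι rfl : Over.mk (U.ι ≫ X.hom) ⟶ X).left := by
    change IsOpenImmersion U.ι
    infer_instance
  refine ⟨Over.mk (U.ι ≫ X.hom), aU, Over.homMk U.ι rfl, hopen, hU, haU, ?_⟩
  change U.ι.opensRange = U
  exact Scheme.Opens.opensRange_ι _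

variable [IsAffine X.left] (a : MonAct (AMonS S ℕ) X)

/-- the grading defined by an action of the affine line -/
noncomputable def gradingOf : NGrading Γ(X.left, ⊤) where
  π := pr a
  decomp r := by
    obtain ⟨F, -, -, e⟩ := exists_decomp a r
    exact ⟨F, e⟩
  π_π_self n r := pr_of_isHomog a (isHomog_pr a n r)
  π_mul_le i n r s h := by
    have h1 := pr_mul_shift a (isHomog_pr a i r) (n - i) (fun m' hm' => by omega) s
    rw [Nat.add_sub_cancel' h] at h1
    exact h1
  π_mul_lt i n r s h := pr_mul_shift_zero a (isHomog_pr a i r) n (fun m' => by omega) s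
  π_one := pr_of_isHomog a (isHomog_one a)

theorem gradingOf_π (n : ℕ) (r : Γ(X.left, ⊤)) : (gradingOf a).π n r = pr a n r := rfl

theorem gradingOf_irr : (gradingOf a).irr = fixIdeal a := by
  unfold NGrading.irr fixIdeal
  congr 1
  ext y
  constructor
  · rintro ⟨n, hn, r, rfl⟩
    exact ⟨n, fun h => hn (AddSubmonoid.mem_bot.1 h), r, rfl⟩
  · rintro ⟨m, hm, b, rfl⟩
    exact ⟨m, fun h => hm (by rw [h]; exact zero_mem _), b, rfl⟩

theorem isStable_basicOpen (h : Γ(X.left, ⊤)) (hh : IsHomog a 0 h) :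
    IsStable a (X.left.basicOpen h) := by
  unfold IsStable
  rw [Scheme.preimage_basicOpen_top, Scheme.preimage_basicOpen_top]
  have e : a.act.left.appTop h = (snd (AMonS S ℕ) X).left.appTop h := by
    unfold IsHomog at hh
    rw [hh, xpow_zero, _root_.one_mul]
    rfl
  exact le_of_eq (by rw [e])

/-- an invariant basic open neighbourhood of a fixed point inside a given open subset, as far as
fixed points are concerned -/
theorem exists_invariant_basicOpen (W : X.left.Opens) {T : Over S} [IsAffine T.left] (x : T ⟶ X)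
    (hx : IsFixed a x) (t : T.left) (ht : x.left t ∈ W) :
    ∃ h : Γ(X.left, ⊤), IsHomog a 0 h ∧ x.left t ∈ X.left.basicOpen h ∧
      ∀ (T' : Over S) [IsAffine T'.left] (z : T' ⟶ X), IsFixed a z → ∀ t' : T'.left,
        z.left t' ∈ X.left.basicOpen h → z.left t' ∈ W := by
  obtain ⟨g, hgW, hxg⟩ := (isAffineOpen_top X.left).exists_basicOpen_le
    (⟨x.left t, ht⟩ : (W : X.left.Opens)) trivial
  have hmem : ∀ (T' : Over S) [IsAffine T'.left] (z : T' ⟶ X), IsFixed a z → ∀ t' : T'.left,
      (z.left t' ∈ X.left.basicOpen (pr a 0 g) ↔ z.left t' ∈ X.left.basicOpen g) := by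
    intro T' _ z hz t'
    have e : z.left ⁻¹ᵁ X.left.basicOpen (pr a 0 g) = z.left ⁻¹ᵁ X.left.basicOpen g := by
      rw [Scheme.preimage_basicOpen_top, Scheme.preimage_basicOpen_top,
        ← IsFixed.appTop_eq_pr_zero a hz g]
    constructor
    · intro h1
      have h2 : t' ∈ z.left ⁻¹ᵁ X.left.basicOpen (pr a 0 g) := h1
      rw [e] at h2
      exact h2
    · intro h1
      have h2 : t' ∈ z.left ⁻¹ᵁ X.left.basicOpen g := h1
      rw [← e] at h2
      exact h2
  refine ⟨pr a 0 g, isHomog_pr a 0 g, (hmem T x hx t).2 hxg, fun T' _ z hz t' h1 => ?_⟩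
  exact hgW ((hmem T' z hz t').1 h1)

theorem basicOpen_le_of_stable (W : X.left.Opens) (hW : IsStable a W) (h : Γ(X.left, ⊤))
    (hh : IsHomog a 0 h)
    (H : ∀ (T' : Over S) [IsAffine T'.left] (z : T' ⟶ X), IsFixed a z → ∀ t' : T'.left,
      z.left t' ∈ X.left.basicOpen h → z.left t' ∈ W) :
    X.left.basicOpen h ≤ W := by
  apply SetLike.le_def.2
  intro p hp
  apply flow a W hW p
  obtain ⟨Tκ, xκ, s₀, hTκ, -, hxκ, -⟩ := exists_residue_point X p
  haveI := hTκ
  have h0 : (xκ ≫ rmap a).left s₀ = (rmap a).left p := by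
    rw [Over.comp_left, Scheme.Hom.comp_apply, hxκ]
  have h1 := H Tκ (xκ ≫ rmap a) (isFixed_comp_rmap a xκ) s₀ (by
    rw [h0]
    exact (isStable_basicOpen a h hh).rmap_mem hp)
  rw [h0] at h1
  exact h1

end Line

end Groth.Agent.Helper2.MagnetLine
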