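import Groth.Agent.Lib.Helper2.Magnet.LineA
import Groth.Agent.Lib.Helper2.Magnet.FixedRep
import Groth.Agent.Lib.Helper2.Magnet.FormalLoc

/-!
# The limit map of an action of the affine line and the flow lemma (helper2)

For an action `a` of `A(ℕ)_S` on `X`: the limit map `rmap a : x ↦ 0 · x` takes values in fixed
points; a stable open subset containing `0 · p` contains `p` (`flow`).
-/

set_option autoImplicit false
set_option synthInstance.maxHeartbeats 400000
set_option maxHeartbeats 4000000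
set_option linter.style.haveILetI false
set_option linter.unusedSectionVars false
set_option linter.unusedVariables false
set_option linter.unusedSimpArgs false
set_option linter.unnecessarySimpa false

universe u
open CategoryTheory Limits MonoidalCategory CartesianMonoidalCategory MonObj AlgebraicGeometry Opposite
open Magnet Magnet.MonAct

namespace Groth.Agent.Helper2.MagnetLine

open Groth.Agent.Helper2.MagnetDom Groth.Agent.Helper2.MagnetFun Groth.Agent.Helper2.MagnetComul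
  Groth.Agent.Helper2.MagnetPts Groth.Agent.Helper2.MagnetLoc Groth.Agent.Helper2.MagnetGrading
  Groth.Agent.Helper2.MagnetFixedRep Groth.Agent.Helper2.MagnetOpen
open Groth.Agent.Helper2.MagnetFormal (exists_field_point₀ exists_lift_basicOpen)

variable {S : Scheme.{u}} {X Y : Over S}

/-- the limit map `x ↦ 0 · x` -/
noncomputable def rmap (a : MonAct (AMonS S ℕ) X) : X ⟶ X :=
  lift (zeroPt S X) (𝟙 X) ≫ a.act

theorem comp_rmap (a : MonAct (AMonS S ℕ) X) {T : Over S} (x : T ⟶ X) :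
    x ≫ rmap a = lift (zeroPt S T) x ≫ a.act := by
  unfold rmap
  rw [← Category.assoc, comp_lift, comp_zeroPt, Category.comp_id]

theorem isFixed_comp_rmap (a : MonAct (AMonS S ℕ) X) {T : Over S} (x : T ⟶ X) :
    IsFixed a (x ≫ rmap a) := by
  intro T' t g
  rw [← Category.assoc, comp_rmap, ← a.lift_mul_act, mul_zeroPt]

theorem IsFixed.comp_rmap_eq {a : MonAct (AMonS S ℕ) X} {T : Over S} {x : T ⟶ X}
    (h : IsFixed a x) : x ≫ rmap a = x := by
  rw [comp_rmap]
  have h1 := h T (𝟙 T) (zeroPt S T)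
  rw [Category.id_comp] at h1
  exact h1

theorem rmap_comp_of_equivariant {a : MonAct (AMonS S ℕ) X} {b : MonAct (AMonS S ℕ) Y}
    {f : X ⟶ Y} (hf : IsEquivariant a b f) : rmap a ≫ f = f ≫ rmap b := by
  rw [comp_rmap]
  unfold rmap
  rw [Category.assoc]
  rw [isEquivariant_iff] at hf
  rw [hf X (zeroPt S X) (𝟙 X), Category.id_comp]

/-- fixedness can be tested after an equivariant monomorphism -/
theorem isFixed_of_comp_mono {Z : Over S} {aZ : MonAct (AMonS S ℕ) Z}
    {a : MonAct (AMonS S ℕ) X} (j : Z ⟶ X) [Mono j] (hj : IsEquivariant aZ a j) {T : Over S}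
    (x : T ⟶ Z) (h : IsFixed a (x ≫ j)) : IsFixed aZ x := by
  intro T' t g
  rw [← cancel_mono j]
  rw [isEquivariant_iff] at hj
  rw [Category.assoc, hj T' g (t ≫ x), Category.assoc]
  exact h T' t g

/-- a stable open subset -/
def IsStable (a : MonAct (AMonS S ℕ) X) (W : X.left.Opens) : Prop :=
  (snd (AMonS S ℕ) X).left ⁻¹ᵁ W ≤ a.act.left ⁻¹ᵁ W

theorem IsStable.act_mem {a : MonAct (AMonS S ℕ) X} {W : X.left.Opens} (hW : IsStable a W)
    {T : Over S} (g : T ⟶ AMonS S ℕ) (x : T ⟶ X) (t : T.left) (hx : x.left t ∈ W) :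
    (lift g x ≫ a.act).left t ∈ W := by
  have h1 : (lift g x).left t ∈ (snd (AMonS S ℕ) X).left ⁻¹ᵁ W := by
    change (snd (AMonS S ℕ) X).left ((lift g x).left t) ∈ W
    rw [← Scheme.Hom.comp_apply, ← Over.comp_left, lift_snd]
    exact hx
  have h2 := hW h1
  change a.act.left ((lift g x).left t) ∈ W at h2
  rw [← Scheme.Hom.comp_apply, ← Over.comp_left] at h2
  exact h2

theorem IsStable.rmap_mem {a : MonAct (AMonS S ℕ) X} {W : X.left.Opens} (hW : IsStable a W)
    {p : X.left} (hp : p ∈ W) : (rmap a).left p ∈ W := by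
  have h1 := hW.act_mem (zeroPt S X) (𝟙 X) p (by
    exact hp)
  exact h1

theorem isStable_opensRange {Z : Over S} (aZ : MonAct (AMonS S ℕ) Z)
    (a : MonAct (AMonS S ℕ) X) (j : Z ⟶ X) [IsOpenImmersion j.left]
    (hj : IsEquivariant aZ a j) : IsStable a j.left.opensRange :=
  stable_open a.act aZ.act j hj

theorem IsStable.preimage {a : MonAct (AMonS S ℕ) X} {b : MonAct (AMonS S ℕ) Y} {f : X ⟶ Y}
    (hf : IsEquivariant a b f) {W : Y.left.Opens} (hW : IsStable b W) :
    IsStable a (f.left ⁻¹ᵁ W) := by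
  apply SetLike.le_def.2
  intro z hz
  change f.left (a.act.left z) ∈ W
  change f.left ((snd (AMonS S ℕ) X).left z) ∈ W at hz
  have h1 : (AMonS S ℕ ◁ f).left z ∈ (snd (AMonS S ℕ) Y).left ⁻¹ᵁ W := by
    change (snd (AMonS S ℕ) Y).left ((AMonS S ℕ ◁ f).left z) ∈ W
    rw [← Scheme.Hom.comp_apply, ← Over.comp_left, whiskerLeft_snd, Over.comp_left,
      Scheme.Hom.comp_apply]
    exact hz
  have h2 := hW h1
  change b.act.left ((AMonS S ℕ ◁ f).left z) ∈ W at h2
  have hf' : a.act ≫ f = (AMonS S ℕ ◁ f) ≫ b.act := hf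
  rw [← Scheme.Hom.comp_apply, ← Over.comp_left, ← hf', Over.comp_left,
    Scheme.Hom.comp_apply] at h2
  exact h2

/-- the residue field point of a point of `X` -/
theorem exists_residue_point (X : Over S) (p : X.left) :
    ∃ (Tκ : Over S) (xκ : Tκ ⟶ X) (s₀ : Tκ.left), IsAffine Tκ.left ∧ (∀ s : Tκ.left, s = s₀) ∧
      xκ.left s₀ = p ∧ ∀ c : Γ(Tκ.left, ⊤), s₀ ∈ Tκ.left.basicOpen c → IsUnit c := by
  refine ⟨Over.mk (X.left.fromSpecResidueField p ≫ X.hom),
    Over.homMk (X.left.fromSpecResidueField p) rfl,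
    (default : Spec (X.left.residueField p)), inferInstanceAs (IsAffine (Spec _)),
    fun s => @Unique.eq_default (Spec (X.left.residueField p)) _ s, Scheme.fromSpecResidueField_apply p _, ?_⟩
  intro c hc
  obtain ⟨e, he⟩ : ∃ e : Γ(Spec (X.left.residueField p), ⊤) ≅ X.left.residueField p,
      e = Scheme.ΓSpecIso _ := ⟨_, rfl⟩
  have e4 : e.inv.hom (e.hom.hom c) = c := congr($(e.hom_inv_id) c)
  have hne : e.hom.hom c ≠ 0 := by
    intro h0
    have hc0 : c = 0 := by
      rw [← e4, h0, map_zero]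
    rw [hc0, Scheme.basicOpen_zero] at hc
    exact (TopologicalSpace.Opens.mem_bot.1 hc).elim
  have hU := (IsUnit.mk0 _ hne).map e.inv.hom
  rw [e4] at hU
  exact hU

/-- **flow lemma**: a stable open subset containing `0 · p` contains `p` -/
theorem flow (a : MonAct (AMonS S ℕ) X) (W : X.left.Opens) (hW : IsStable a W) (p : X.left)
    (hp : (rmap a).left p ∈ W) : p ∈ W := by
  obtain ⟨Tκ, xκ, s₀, hTκ, hs₀, hxκ, hfield⟩ := exists_residue_point X p
  haveI : IsAffine Tκ.left := hTκ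
  haveI : IsAffine (AMonS S ℕ ⊗ Tκ).left := isAffine_tensor S ℕ Tκ
  -- the orbit map and the zero section
  obtain ⟨o, ho⟩ : ∃ o : AMonS S ℕ ⊗ Tκ ⟶ X, o = (AMonS S ℕ ◁ xκ) ≫ a.act := ⟨_, rfl⟩
  obtain ⟨z, hz⟩ : ∃ z : Tκ ⟶ AMonS S ℕ ⊗ Tκ, z = lift (zeroPt S Tκ) (𝟙 Tκ) := ⟨_, rfl⟩
  have hzo : z ≫ o = xκ ≫ rmap a := by
    rw [hz, ho, lift_whiskerLeft_assoc, Category.id_comp, comp_rmap]
  have hz₀ : z.left s₀ ∈ o.left ⁻¹ᵁ W := by
    change o.left (z.left s₀) ∈ W
    rw [← Scheme.Hom.comp_apply, ← Over.comp_left, hzo, Over.comp_left, Scheme.Hom.comp_apply,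
      hxκ]
    exact hp
  -- a basic open neighbourhood of the zero point
  obtain ⟨h, hhW, hzh⟩ := (isAffineOpen_top (AMonS S ℕ ⊗ Tκ).left).exists_basicOpen_le
    (⟨z.left s₀, hz₀⟩ : (o.left ⁻¹ᵁ W : (AMonS S ℕ ⊗ Tκ).left.Opens)) trivial
  obtain ⟨q, hq⟩ := invΘ_surjective S Tκ h
  -- the constant coefficient is a unit
  have hc0 : IsUnit (q.coeff 0) := by
    apply hfield
    have h1 : s₀ ∈ z.left ⁻¹ᵁ ((AMonS S ℕ ⊗ Tκ).left.basicOpen h) := hzh
    rw [Scheme.preimage_basicOpen_top] at h1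
    have h2 : z.left.appTop.hom h = q.coeff 0 := by
      rw [← hq, sharp_invΘ_zero S Tκ z (by
        rw [hz, lift_fst]
        exact charOf_zeroPt S Tκ), hz, lift_snd]
      rfl
    have h3 : z.left.appTop h = q.coeff 0 := h2
    rw [h3] at h1
    exact h1
  -- the transcendental point
  obtain ⟨TF, pF, ν, ⟨s', hs'⟩, hν, hqν⟩ := exists_field_point₀ Tκ s₀
  obtain ⟨gν, hgν⟩ := exists_pt S TF ν
  obtain ⟨g', hg'⟩ := exists_inv_pt S gν (by rw [hgν]; exact hν)
  obtain ⟨e, he⟩ : ∃ e : TF ⟶ AMonS S ℕ ⊗ Tκ, e = lift gν pF := ⟨_, rfl⟩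
  have hunit : IsUnit (e.left.appTop.hom h) := by
    rw [← hq, sharp_invΘ, he, lift_fst, lift_snd, hgν]
    exact hqν q hc0
  obtain ⟨v, hv⟩ := exists_lift_basicOpen e.left h hunit
  have he_mem : ∀ t : TF.left, (e ≫ o).left t ∈ W := by
    intro t
    have h1 : e.left t ∈ (AMonS S ℕ ⊗ Tκ).left.basicOpen h := by
      rw [← hv, Scheme.Hom.comp_apply]
      have h2 : ((AMonS S ℕ ⊗ Tκ).left.basicOpen h).ι (v t) ∈
          Set.range ((AMonS S ℕ ⊗ Tκ).left.basicOpen h).ι := ⟨_, rfl⟩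
      rw [Scheme.Opens.range_ι] at h2
      exact h2
    have h3 := hhW h1
    change o.left (e.left t) ∈ W at h3
    rw [← Scheme.Hom.comp_apply, ← Over.comp_left] at h3
    exact h3
  have heo : e ≫ o = lift gν (pF ≫ xκ) ≫ a.act := by
    rw [he, ho, lift_whiskerLeft_assoc]
  have hback : lift g' (e ≫ o) ≫ a.act = pF ≫ xκ := by
    rw [heo]
    calc lift g' (lift gν (pF ≫ xκ) ≫ a.act) ≫ a.act
        = lift (g' * gν) (pF ≫ xκ) ≫ a.act := (a.lift_mul_act g' gν (pF ≫ xκ)).symm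
      _ = lift 1 (pF ≫ xκ) ≫ a.act := by rw [hg']
      _ = pF ≫ xκ := a.lift_one_act (pF ≫ xκ)
  have h5 := hW.act_mem g' (e ≫ o) s' (he_mem s')
  rw [hback, Over.comp_left, Scheme.Hom.comp_apply, hs', hxκ] at h5
  exact h5

end Groth.Agent.Helper2.MagnetLine
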