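import Groth.Agent.Lib.Helper2.Magnet.LineAff

/-!
# Equivariant morphisms which are isomorphisms near the fixed points (helper2)

`main18959`: an equivariant morphism `f : X ⟶ Y` of locally linear schemes with an action of the
multiplicative monoid of the affine line, inducing an isomorphism on fixed points, reflecting
fixed points and étale near the fixed points, is an isomorphism.  The proof reduces to the affine
case (`isIso_of_affine`) by constructing, around every point of `Y`, stable affine charts of `Y`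
and `X` which correspond under `f`; points are moved into the charts with the flow of the action
(`flow`).
-/

set_option autoImplicit false
set_option synthInstance.maxHeartbeats 400000
set_option maxHeartbeats 4000000
set_option linter.style.haveILetI false
set_option linter.unusedSectionVars false
set_option linter.unusedVariables false
set_option linter.unusedSimpArgs false
set_option linter.unnecessarySimpa false

universe u
open CategoryTheory Limits MonoidalCategory CartesianMonoidalCategory MonObj AlgebraicGeometry Opposite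
open Magnet Magnet.MonAct

namespace Groth.Agent.Helper2.MagnetLine

open Groth.Agent.Helper2.MagnetDom Groth.Agent.Helper2.MagnetFun Groth.Agent.Helper2.MagnetComul
  Groth.Agent.Helper2.MagnetPts Groth.Agent.Helper2.MagnetLoc Groth.Agent.Helper2.MagnetGrading
  Groth.Agent.Helper2.MagnetFixedRep Groth.Agent.Helper2.MagnetOpen
  Groth.Agent.Helper2.MagnetRepCover Groth.Agent.Helper2.GradedAlg
open Groth.Agent.Helper2.MagnetRep (appTop_tri appTop_comm exists_hom_appTop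
  exists_closed_subscheme)

section Glob

theorem isIso_of_local_charts {X Y : Scheme.{u}} (f : X ⟶ Y)
    (H : ∀ y : Y, ∃ (ZX ZY : Scheme.{u}) (jX : ZX ⟶ X) (jY : ZY ⟶ Y) (fZ : ZX ⟶ ZY),
      IsOpenImmersion jX ∧ IsOpenImmersion jY ∧ IsIso fZ ∧ fZ ≫ jY = jX ≫ f ∧
      y ∈ Set.range jY ∧ Set.range jX = f ⁻¹' Set.range jY) : IsIso f := by
  have h : (MorphismProperty.isomorphisms Scheme.{u}) f := by
    apply IsZariskiLocalAtTarget.of_forall_exists_morphismRestrict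
    intro y
    obtain ⟨ZX, ZY, jX, jY, fZ, hjX, hjY, hfZ, hcomm, hy, hr⟩ := H y
    haveI := hjX
    haveI := hjY
    haveI := hfZ
    refine ⟨jY.opensRange, hy, ?_⟩
    have hrX : Set.range jX = Set.range (f ⁻¹ᵁ jY.opensRange).ι := by
      rw [Scheme.Opens.range_ι, hr]
      rfl
    have hrY : Set.range jY = Set.range jY.opensRange.ι := by
      rw [Scheme.Opens.range_ι]
      rfl
    obtain ⟨e₁, he₁⟩ : ∃ e₁ : ZX ≅ (f ⁻¹ᵁ jY.opensRange).toScheme,
        e₁.inv ≫ jX = (f ⁻¹ᵁ jY.opensRange).ι :=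
      ⟨IsOpenImmersion.isoOfRangeEq jX _ hrX, IsOpenImmersion.isoOfRangeEq_inv_fac _ _ _⟩
    obtain ⟨e₂, he₂⟩ : ∃ e₂ : ZY ≅ jY.opensRange.toScheme, e₂.hom ≫ jY.opensRange.ι = jY :=
      ⟨IsOpenImmersion.isoOfRangeEq jY _ hrY, IsOpenImmersion.isoOfRangeEq_hom_fac _ _ _⟩
    have hfac : f ∣_ jY.opensRange = e₁.inv ≫ fZ ≫ e₂.hom := by
      rw [← cancel_mono jY.opensRange.ι, morphismRestrict_ι, Category.assoc, Category.assoc, he₂,
        hcomm, ← Category.assoc, he₁]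
    change IsIso (f ∣_ jY.opensRange)
    rw [hfac]
    infer_instance
  exact h

theorem stalkMap_injective_transfer {ZX ZY X Y : Scheme.{u}} (fZ : ZX ⟶ ZY) (jY : ZY ⟶ Y)
    (jX : ZX ⟶ X) (f : X ⟶ Y) [IsOpenImmersion jX] [IsOpenImmersion jY]
    (hc : fZ ≫ jY = jX ≫ f) (q : ZX)
    (hinj : Function.Injective (f.stalkMap (jX q)).hom) :
    Function.Injective (fZ.stalkMap q).hom := by
  have h1 : ∀ c : ZX ⟶ Y, c = jX ≫ f → Function.Injective (c.stalkMap q).hom := by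
    rintro c rfl
    have e := Scheme.Hom.stalkMap_comp jX f q
    have h2 : Function.Injective (jX.stalkMap q).hom :=
      (ConcreteCategory.bijective_of_isIso (jX.stalkMap q)).1
    have h5 : Function.Injective (f.stalkMap (jX q) ≫ jX.stalkMap q).hom := by
      rw [CommRingCat.hom_comp, RingHom.coe_comp]
      exact h2.comp hinj
    rw [e]
    exact h5
  have h3 := h1 (fZ ≫ jY) hc
  have e' := Scheme.Hom.stalkMap_comp fZ jY q
  rw [e'] at h3
  have h3' : Function.Injective (jY.stalkMap (fZ q) ≫ fZ.stalkMap q).hom := h3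
  rw [CommRingCat.hom_comp, RingHom.coe_comp] at h3'
  have h4 : Function.Surjective (jY.stalkMap (fZ q)).hom :=
    (ConcreteCategory.bijective_of_isIso (jY.stalkMap (fZ q))).2
  exact Function.Injective.of_comp_right h3' h4

end Glob

section Loc

variable {S : Scheme.{u}} {X Y : Over S}

theorem mono_of_isOpenImmersion_left {Z W : Over S} (j : Z ⟶ W) [IsOpenImmersion j.left] :
    Mono j := by
  haveI : Mono j.left := inferInstance
  exact Over.mono_of_mono_left j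

theorem comp_left_apply {T Z W : Over S} (x : T ⟶ Z) (j : Z ⟶ W) (t : T.left) :
    (x ≫ j).left t = j.left (x.left t) := by
  rw [Over.comp_left, Scheme.Hom.comp_apply]

/-- shrinking a chart of the source so that it maps into a chart of the target -/
theorem exists_chart_in_preimage (a : MonAct (AMonS S ℕ) X) (b : MonAct (AMonS S ℕ) Y)
    (f : X ⟶ Y) (hf : IsEquivariant a b f)
    {Z' : Over S} [IsAffine Z'.left] (a' : MonAct (AMonS S ℕ) Z') (j' : Z' ⟶ X)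
    (hj' : IsEquivariant a' a j')
    {Z'' : Over S} (a'' : MonAct (AMonS S ℕ) Z'') (j'' : Z'' ⟶ Y) [IsOpenImmersion j''.left]
    (hj'' : IsEquivariant a'' b j'')
    {T : Over S} [IsAffine T.left] (x' : T ⟶ Z') (hx' : IsFixed a' x') (s₀ : T.left)
    (hmem : (x' ≫ j' ≫ f).left s₀ ∈ j''.left.opensRange) :
    ∃ (Z₁ : Over S) (a₁ : MonAct (AMonS S ℕ) Z₁) (j₁ : Z₁ ⟶ Z') (_ : IsOpenImmersion j₁.left)
      (f₁ : Z₁ ⟶ Z''), IsAffine Z₁.left ∧ IsEquivariant a₁ a' j₁ ∧ IsEquivariant a₁ a'' f₁ ∧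
      f₁ ≫ j'' = j₁ ≫ j' ≫ f ∧ x'.left s₀ ∈ j₁.left.opensRange := by
  haveI : Mono j'' := mono_of_isOpenImmersion_left j''
  obtain ⟨W₁, hW₁def⟩ : ∃ W₁ : Z'.left.Opens, W₁ = (j' ≫ f).left ⁻¹ᵁ j''.left.opensRange :=
    ⟨_, rfl⟩
  have hW₁ : IsStable a' W₁ := by
    rw [hW₁def]
    exact IsStable.preimage (hj'.comp hf) (isStable_opensRange a'' b j'' hj'')
  have hmem' : x'.left s₀ ∈ W₁ := by
    rw [hW₁def]
    change (j' ≫ f).left (x'.left s₀) ∈ j''.left.opensRange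
    rw [← comp_left_apply]
    exact hmem
  obtain ⟨h₁, hh₁, hx₁, H₁⟩ := exists_invariant_basicOpen a' W₁ x' hx' s₀ hmem'
  have hle := basicOpen_le_of_stable a' W₁ hW₁ h₁ hh₁ H₁
  obtain ⟨Z₁, a₁, j₁, hopen₁, haff₁, heq₁, hr₁⟩ := exists_chart a' (Z'.left.basicOpen h₁)
    ((isAffineOpen_top Z'.left).basicOpen h₁) (isStable_basicOpen a' h₁ hh₁)
  haveI := hopen₁
  obtain ⟨f₁, hf₁⟩ := exists_lift_of_range j'' (j₁ ≫ j' ≫ f) (fun t => by
    have h1 : j₁.left t ∈ j₁.left.opensRange := ⟨t, rfl⟩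
    rw [hr₁] at h1
    have h2 := hle h1
    rw [hW₁def] at h2
    rw [comp_left_apply]
    exact h2)
  refine ⟨Z₁, a₁, j₁, hopen₁, f₁, haff₁, heq₁, ?_, hf₁, ?_⟩
  · exact isEquivariant_of_comp_mono j'' hj'' f₁ (j₁ ≫ j' ≫ f) hf₁ (heq₁.comp (hj'.comp hf))
  · rw [hr₁]
    exact hx₁

/-- shrinking a chart of the target so that the fixed points over it lie in a given open subset
of the source -/
theorem exists_shrink_target (a : MonAct (AMonS S ℕ) X) (b : MonAct (AMonS S ℕ) Y)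
    (f : X ⟶ Y) (hf : IsEquivariant a b f)
    (E1 : ∀ (T : Over S) (y : T ⟶ Y), IsFixed b y → ∃ x : T ⟶ X, IsFixed a x ∧ x ≫ f = y)
    (E1' : ∀ (T : Over S) (x₁ x₂ : T ⟶ X), IsFixed a x₁ → IsFixed a x₂ →
      x₁ ≫ f = x₂ ≫ f → x₁ = x₂)
    {Z'' : Over S} [IsAffine Z''.left] (a'' : MonAct (AMonS S ℕ) Z'') (j'' : Z'' ⟶ Y) [Mono j'']
    (hj'' : IsEquivariant a'' b j'') (R : X.left.Opens)
    {T : Over S} [IsAffine T.left] (y'' : T ⟶ Z'') (hy'' : IsFixed a'' y'') (s₀ : T.left)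
    (xb : T ⟶ X) (hxb : IsFixed a xb) (hxy : xb ≫ f = y'' ≫ j'') (hmem : xb.left s₀ ∈ R) :
    ∃ h₂ : Γ(Z''.left, ⊤), IsHomog a'' 0 h₂ ∧ y''.left s₀ ∈ Z''.left.basicOpen h₂ ∧
      ∀ (T' : Over S) [IsAffine T'.left] (z : T' ⟶ X), IsFixed a z → ∀ w : T' ⟶ Z'',
        w ≫ j'' = z ≫ f → (∀ t' : T'.left, w.left t' ∈ Z''.left.basicOpen h₂) →
        ∀ t' : T'.left, z.left t' ∈ R := by
  obtain ⟨F, iF, hF, hcl, hfixF, hlF⟩ := exists_fixed_locus a''
  haveI := hF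
  haveI := hcl
  obtain ⟨ξ, hξfix, hξ⟩ := E1 F (iF ≫ j'') (IsFixed.map j'' hj'' hfixF)
  obtain ⟨O, hOdef⟩ : ∃ O : F.left.Opens, O = ξ.left ⁻¹ᵁ R := ⟨_, rfl⟩
  obtain ⟨tW, htW, hpre⟩ :=
    (Scheme.Hom.isClosedEmbedding iF.left).toIsEmbedding.toIsInducing.isOpen_iff.1 O.2
  have hO : ∀ q : F.left, iF.left q ∈ tW ↔ ξ.left q ∈ R := by
    intro q
    have h1 := Set.ext_iff.1 hpre q
    rw [hOdef] at h1
    exact h1
  obtain ⟨W₂, hW₂⟩ : ∃ W₂ : Z''.left.Opens, ∀ p, p ∈ W₂ ↔ p ∈ tW := ⟨⟨tW, htW⟩, fun p => Iff.rfl⟩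
  -- the key fact
  have K : ∀ (T' : Over S) [IsAffine T'.left] (z : T' ⟶ X), IsFixed a z → ∀ w : T' ⟶ Z'',
      w ≫ j'' = z ≫ f → IsFixed a'' w ∧
        ∀ t' : T'.left, (w.left t' ∈ W₂ ↔ z.left t' ∈ R) := by
    intro T' _ z hz w hw
    have hwfix : IsFixed a'' w := isFixed_of_comp_mono j'' hj'' w (by
      rw [hw]
      exact IsFixed.map f hf hz)
    refine ⟨hwfix, fun t' => ?_⟩
    obtain ⟨v, hv⟩ := hlF T' w hwfix
    have hvz : v ≫ ξ = z := E1' T' (v ≫ ξ) z (hξfix.comp v) hz (by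
      rw [Category.assoc, hξ, ← Category.assoc, hv, hw])
    rw [hW₂, ← hv, ← hvz, comp_left_apply, comp_left_apply]
    exact hO _
  have hmem₂ : y''.left s₀ ∈ W₂ := ((K T xb hxb y'' hxy.symm).2 s₀).2 hmem
  obtain ⟨h₂, hh₂, hy₂, H₂⟩ := exists_invariant_basicOpen a'' W₂ y'' hy'' s₀ hmem₂
  refine ⟨h₂, hh₂, hy₂, fun T' _ z hz w hw hall t' => ?_⟩
  obtain ⟨hwfix, hiff⟩ := K T' z hz w hw
  exact (hiff t').1 (H₂ T' w hwfix t' (hall t'))

/-- the final charts -/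
theorem chart_step (a : MonAct (AMonS S ℕ) X) (b : MonAct (AMonS S ℕ) Y)
    (f : X ⟶ Y) (hf : IsEquivariant a b f)
    (E1 : ∀ (T : Over S) (y : T ⟶ Y), IsFixed b y → ∃ x : T ⟶ X, IsFixed a x ∧ x ≫ f = y)
    (E1' : ∀ (T : Over S) (x₁ x₂ : T ⟶ X), IsFixed a x₁ → IsFixed a x₂ →
      x₁ ≫ f = x₂ ≫ f → x₁ = x₂)
    (E2 : ∀ (T : Over S) (x : T ⟶ X), IsFixed b (x ≫ f) → IsFixed a x)
    (E3 : ∀ (T : Over S) (x : T ⟶ X), IsFixed a x → ∀ t : T.left,
      Function.Injective (f.left.stalkMap (x.left t)).hom)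
    {Z₁ Z'' : Over S} [IsAffine Z₁.left] [IsAffine Z''.left] (a₁ : MonAct (AMonS S ℕ) Z₁)
    (a'' : MonAct (AMonS S ℕ) Z'') (j₁ : Z₁ ⟶ X) (j'' : Z'' ⟶ Y) [IsOpenImmersion j₁.left]
    [IsOpenImmersion j''.left] (hj₁ : IsEquivariant a₁ a j₁) (hj'' : IsEquivariant a'' b j'')
    (f₁ : Z₁ ⟶ Z'') (hf₁ : IsEquivariant a₁ a'' f₁) (hc : f₁ ≫ j'' = j₁ ≫ f)
    (h₂ : Γ(Z''.left, ⊤)) (hh₂ : IsHomog a'' 0 h₂)
    (Hstar : ∀ (T' : Over S) [IsAffine T'.left] (z : T' ⟶ X), IsFixed a z → ∀ w : T' ⟶ Z'',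
      w ≫ j'' = z ≫ f → (∀ t' : T'.left, w.left t' ∈ Z''.left.basicOpen h₂) →
      ∀ t' : T'.left, z.left t' ∈ j₁.left.opensRange) :
    ∃ (ZX ZY : Over S) (jX : ZX ⟶ X) (jY : ZY ⟶ Y) (fZ : ZX ⟶ ZY), IsOpenImmersion jX.left ∧
      IsOpenImmersion jY.left ∧ IsIso fZ ∧ fZ ≫ jY = jX ≫ f ∧
      Set.range jX.left = f.left ⁻¹' Set.range jY.left ∧
      ∀ y : Y.left, (∃ q : Z''.left, q ∈ Z''.left.basicOpen h₂ ∧
        j''.left q = (rmap b).left y) → y ∈ Set.range jY.left := by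
  haveI : Mono j₁ := mono_of_isOpenImmersion_left j₁
  haveI : Mono j'' := mono_of_isOpenImmersion_left j''
  obtain ⟨ZY, aY, j₂, hopen₂, haffY, heq₂, hr₂⟩ := exists_chart a'' (Z''.left.basicOpen h₂)
    ((isAffineOpen_top Z''.left).basicOpen h₂) (isStable_basicOpen a'' h₂ hh₂)
  obtain ⟨h₃, hh₃def⟩ : ∃ h₃ : Γ(Z₁.left, ⊤), h₃ = f₁.left.appTop h₂ := ⟨_, rfl⟩
  have hh₃ : IsHomog a₁ 0 h₃ := by
    rw [hh₃def]
    exact isHomog_map a₁ hf₁ hh₂
  have hD₃ : Z₁.left.basicOpen h₃ = f₁.left ⁻¹ᵁ Z''.left.basicOpen h₂ := by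
    rw [hh₃def, Scheme.preimage_basicOpen_top]
  obtain ⟨ZX, aX, j₃, hopen₃, haffX, heq₃, hr₃⟩ := exists_chart a₁ (Z₁.left.basicOpen h₃)
    ((isAffineOpen_top Z₁.left).basicOpen h₃) (isStable_basicOpen a₁ h₃ hh₃)
  haveI := hopen₂
  haveI := hopen₃
  haveI := haffX
  haveI := haffY
  haveI : Mono j₂ := mono_of_isOpenImmersion_left j₂
  haveI : Mono j₃ := mono_of_isOpenImmersion_left j₃
  obtain ⟨jY, hjYdef⟩ : ∃ jY : ZY ⟶ Y, jY = j₂ ≫ j'' := ⟨_, rfl⟩
  obtain ⟨jX, hjXdef⟩ : ∃ jX : ZX ⟶ X, jX = j₃ ≫ j₁ := ⟨_, rfl⟩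
  haveI hoY : IsOpenImmersion jY.left := by
    rw [hjYdef, Over.comp_left]
    infer_instance
  haveI hoX : IsOpenImmersion jX.left := by
    rw [hjXdef, Over.comp_left]
    infer_instance
  haveI : Mono jX := mono_of_isOpenImmersion_left jX
  haveI : Mono jY := mono_of_isOpenImmersion_left jY
  have hjX : IsEquivariant aX a jX := by
    rw [hjXdef]
    exact heq₃.comp hj₁
  have hjY : IsEquivariant aY b jY := by
    rw [hjYdef]
    exact heq₂.comp hj''
  -- membership in the ranges of j₂, j₃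
  have hmem₂ : ∀ q : Z''.left, q ∈ j₂.left.opensRange ↔ q ∈ Z''.left.basicOpen h₂ := fun q => by
    rw [hr₂]
  have hmem₃ : ∀ q : Z₁.left, q ∈ j₃.left.opensRange ↔ f₁.left q ∈ Z''.left.basicOpen h₂ :=
    fun q => by
      rw [hr₃, hD₃]
      exact Iff.rfl
  obtain ⟨fZ, hfZ⟩ := exists_lift_of_range j₂ (j₃ ≫ f₁) (fun t => by
    rw [hmem₂, comp_left_apply, ← hmem₃]
    exact ⟨t, rfl⟩)
  have hcomm : fZ ≫ jY = jX ≫ f := by
    rw [hjYdef, hjXdef, ← Category.assoc, hfZ, Category.assoc, hc, Category.assoc]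
  have hfZeq : IsEquivariant aX aY fZ :=
    isEquivariant_of_comp_mono j₂ heq₂ fZ (j₃ ≫ f₁) hfZ (heq₃.comp hf₁)
  -- fixed points over the chart of the target lie in the chart of the source
  have star : ∀ (T' : Over S) [IsAffine T'.left] (z : T' ⟶ X), IsFixed a z → ∀ w : T' ⟶ ZY,
      w ≫ jY = z ≫ f → ∃ r : T' ⟶ ZX, r ≫ jX = z := by
    intro T' _ z hz w hw
    have hw₂ : (w ≫ j₂) ≫ j'' = z ≫ f := by
      rw [Category.assoc, ← hjYdef, hw]
    have hall : ∀ t' : T'.left, (w ≫ j₂).left t' ∈ Z''.left.basicOpen h₂ := fun t' => by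
      rw [comp_left_apply, ← hmem₂]
      exact ⟨_, rfl⟩
    obtain ⟨q, hq⟩ := exists_lift_of_range j₁ z (Hstar T' z hz (w ≫ j₂) hw₂ hall)
    have hqf : q ≫ f₁ = w ≫ j₂ := by
      rw [← cancel_mono j'', Category.assoc, hc, ← Category.assoc, hq, hw₂]
    obtain ⟨r, hr⟩ := exists_lift_of_range j₃ q (fun t' => by
      rw [hmem₃, ← comp_left_apply, hqf]
      exact hall t')
    refine ⟨r, ?_⟩
    rw [hjXdef, ← Category.assoc, hr, hq]
  -- the hypotheses for the charts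
  have E1Z : ∀ (T : Over S) [IsAffine T.left] (y : T ⟶ ZY), IsFixed aY y →
      ∃ x : T ⟶ ZX, IsFixed aX x ∧ x ≫ fZ = y := by
    intro T _ y hy
    obtain ⟨x, hx, hxf⟩ := E1 T (y ≫ jY) (IsFixed.map jY hjY hy)
    obtain ⟨r, hr⟩ := star T x hx y hxf.symm
    refine ⟨r, isFixed_of_comp_mono jX hjX r (by rw [hr]; exact hx), ?_⟩
    rw [← cancel_mono jY, Category.assoc, hcomm, ← Category.assoc, hr, hxf]
  have E1'Z : ∀ (T : Over S) [IsAffine T.left] (x₁ x₂ : T ⟶ ZX), IsFixed aX x₁ → IsFixed aX x₂ →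
      x₁ ≫ fZ = x₂ ≫ fZ → x₁ = x₂ := by
    intro T _ x₁ x₂ hx₁ hx₂ h
    have h1 := E1' T (x₁ ≫ jX) (x₂ ≫ jX) (IsFixed.map jX hjX hx₁) (IsFixed.map jX hjX hx₂) (by
      rw [Category.assoc, Category.assoc, ← hcomm, ← Category.assoc, ← Category.assoc, h])
    exact (cancel_mono jX).1 h1
  have E2Z : ∀ (T : Over S) [IsAffine T.left] (x : T ⟶ ZX), IsFixed aY (x ≫ fZ) →
      IsFixed aX x := by
    intro T _ x hx
    apply isFixed_of_comp_mono jX hjX x
    apply E2 T (x ≫ jX)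
    have h1 := IsFixed.map jY hjY hx
    rw [Category.assoc, hcomm, ← Category.assoc] at h1
    exact h1
  have hcomm_left : fZ.left ≫ jY.left = jX.left ≫ f.left := by
    rw [← Over.comp_left, ← Over.comp_left, hcomm]
  have E3Z : ∀ (T : Over S) [IsAffine T.left] (x : T ⟶ ZX), IsFixed aX x → ∀ t : T.left,
      Function.Injective (fZ.left.stalkMap (x.left t)).hom := by
    intro T _ x hx t
    apply stalkMap_injective_transfer fZ.left jY.left jX.left f.left hcomm_left (x.left t)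
    have h1 := E3 T (x ≫ jX) (IsFixed.map jX hjX hx) t
    rw [comp_left_apply] at h1
    exact h1
  have hiso : IsIso fZ := isIso_of_affine aX aY fZ hfZeq E1Z E1'Z E2Z E3Z
  refine ⟨ZX, ZY, jX, jY, fZ, hoX, hoY, hiso, hcomm, ?_, ?_⟩
  · -- the range claim
    ext p
    constructor
    · rintro ⟨t, rfl⟩
      refine ⟨fZ.left t, ?_⟩
      rw [← comp_left_apply, hcomm, comp_left_apply]
    · intro hp
      have hp' : f.left p ∈ jY.left.opensRange := hp
      suffices hs : p ∈ jX.left.opensRange from hs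
      apply flow a jX.left.opensRange (isStable_opensRange aX a jX hjX) p
      obtain ⟨Tκ, pκ, s₀, hTκ, huniq, hpκ, -⟩ := exists_residue_point X p
      haveI := hTκ
      have hz : IsFixed a (pκ ≫ rmap a) := isFixed_comp_rmap a pκ
      have hzf : (pκ ≫ rmap a) ≫ f = (pκ ≫ f) ≫ rmap b := by
        rw [Category.assoc, rmap_comp_of_equivariant hf, Category.assoc]
      obtain ⟨w, hw⟩ := exists_lift_of_range jY ((pκ ≫ rmap a) ≫ f) (fun t => by
        rw [huniq t, hzf, comp_left_apply, comp_left_apply, hpκ]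
        exact (isStable_opensRange aY b jY hjY).rmap_mem hp')
      obtain ⟨r, hr⟩ := star Tκ (pκ ≫ rmap a) hz w hw
      refine ⟨r.left s₀, ?_⟩
      rw [← comp_left_apply, hr, comp_left_apply, hpκ]
  · rintro y ⟨q, hq, hqy⟩
    suffices hs : y ∈ jY.left.opensRange from hs
    apply flow b jY.left.opensRange (isStable_opensRange aY b jY hjY) y
    rw [← hqy]
    obtain ⟨r, hr⟩ := (hmem₂ q).2 hq
    refine ⟨r, ?_⟩
    rw [hjYdef, comp_left_apply, hr]

end Loc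

section Final

variable {S : Scheme.{u}} {X Y : Over S}

/-- around every point of the target there are corresponding charts on which the morphism is an
isomorphism -/
theorem exists_local_chart (a : MonAct (AMonS S ℕ) X) (b : MonAct (AMonS S ℕ) Y)
    (hX : ∀ x : X.left, ∃ U : X.left.Opens, x ∈ U ∧ IsAffineOpen U ∧ IsStable a U)
    (hY : ∀ y : Y.left, ∃ U : Y.left.Opens, y ∈ U ∧ IsAffineOpen U ∧ IsStable b U)
    (f : X ⟶ Y) (hf : IsEquivariant a b f)
    (E1 : ∀ (T : Over S) (y : T ⟶ Y), IsFixed b y → ∃ x : T ⟶ X, IsFixed a x ∧ x ≫ f = y)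
    (E1' : ∀ (T : Over S) (x₁ x₂ : T ⟶ X), IsFixed a x₁ → IsFixed a x₂ →
      x₁ ≫ f = x₂ ≫ f → x₁ = x₂)
    (E2 : ∀ (T : Over S) (x : T ⟶ X), IsFixed b (x ≫ f) → IsFixed a x)
    (E3 : ∀ (T : Over S) (x : T ⟶ X), IsFixed a x → ∀ t : T.left,
      Function.Injective (f.left.stalkMap (x.left t)).hom) (y : Y.left) :
    ∃ (ZX ZY : Over S) (jX : ZX ⟶ X) (jY : ZY ⟶ Y) (fZ : ZX ⟶ ZY), IsOpenImmersion jX.left ∧
      IsOpenImmersion jY.left ∧ IsIso fZ ∧ fZ ≫ jY = jX ≫ f ∧ y ∈ Set.range jY.left ∧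
      Set.range jX.left = f.left ⁻¹' Set.range jY.left := by
  obtain ⟨Tκ, yκ, s₀, hTκ, huniq, hyκ, -⟩ := exists_residue_point Y y
  haveI := hTκ
  have hy₀fix : IsFixed b (yκ ≫ rmap b) := isFixed_comp_rmap b yκ
  obtain ⟨xb, hxbfix, hxbf⟩ := E1 Tκ (yκ ≫ rmap b) hy₀fix
  -- a chart of `Y`
  obtain ⟨U'', hmem'', haff'', hst''⟩ := hY ((yκ ≫ rmap b).left s₀)
  obtain ⟨Z'', a'', j'', hopen'', hZ''aff, hj'', hr''⟩ := exists_chart b U'' haff'' hst''
  haveI := hopen''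
  haveI := hZ''aff
  haveI : Mono j'' := mono_of_isOpenImmersion_left j''
  obtain ⟨y'', hy''⟩ := exists_lift_of_range j'' (yκ ≫ rmap b) (fun t => by
    rw [huniq t, hr'']
    exact hmem'')
  have hy''fix : IsFixed a'' y'' :=
    isFixed_of_comp_mono j'' hj'' y'' (by rw [hy'']; exact hy₀fix)
  -- a chart of `X`
  obtain ⟨U', hmem', haff', hst'⟩ := hX (xb.left s₀)
  obtain ⟨Z', a', j', hopen', hZ'aff, hj', hr'⟩ := exists_chart a U' haff' hst'
  haveI := hopen'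
  haveI := hZ'aff
  haveI : Mono j' := mono_of_isOpenImmersion_left j'
  obtain ⟨x', hx'⟩ := exists_lift_of_range j' xb (fun t => by
    rw [huniq t, hr']
    exact hmem')
  have hx'fix : IsFixed a' x' := isFixed_of_comp_mono j' hj' x' (by rw [hx']; exact hxbfix)
  -- shrink the chart of `X`
  have hmem₁ : (x' ≫ j' ≫ f).left s₀ ∈ j''.left.opensRange := by
    rw [← Category.assoc, hx', hxbf, ← hy'', comp_left_apply]
    exact ⟨_, rfl⟩
  obtain ⟨Z₁, a₁, j₁, hopen₁, f₁, haff₁, heq₁, hf₁eq, hf₁, hx₁⟩ :=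
    exists_chart_in_preimage a b f hf a' j' hj' a'' j'' hj'' x' hx'fix s₀ hmem₁
  haveI := hopen₁
  haveI := haff₁
  obtain ⟨j₁', hj₁'def⟩ : ∃ j₁' : Z₁ ⟶ X, j₁' = j₁ ≫ j' := ⟨_, rfl⟩
  haveI ho₁ : IsOpenImmersion j₁'.left := by
    rw [hj₁'def, Over.comp_left]
    infer_instance
  have hj₁' : IsEquivariant a₁ a j₁' := by
    rw [hj₁'def]
    exact heq₁.comp hj'
  have hc : f₁ ≫ j'' = j₁' ≫ f := by
    rw [hf₁, hj₁'def, Category.assoc]
  -- shrink the chart of `Y`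
  have hmemR : xb.left s₀ ∈ j₁'.left.opensRange := by
    obtain ⟨r, hr⟩ := hx₁
    refine ⟨r, ?_⟩
    rw [hj₁'def, comp_left_apply, hr, ← comp_left_apply, hx']
  obtain ⟨h₂, hh₂, hy₂, Hstar⟩ := exists_shrink_target a b f hf E1 E1' a'' j'' hj''
    j₁'.left.opensRange y'' hy''fix s₀ xb hxbfix (by rw [hxbf, hy'']) hmemR
  obtain ⟨ZX, ZY, jX, jY, fZ, hoX, hoY, hiso, hcomm, hrange, hyr⟩ :=
    chart_step a b f hf E1 E1' E2 E3 a₁ a'' j₁' j'' hj₁' hj'' f₁ hf₁eq hc h₂ hh₂ Hstar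
  refine ⟨ZX, ZY, jX, jY, fZ, hoX, hoY, hiso, hcomm, ?_, hrange⟩
  apply hyr y
  refine ⟨y''.left s₀, hy₂, ?_⟩
  rw [← comp_left_apply, hy'', comp_left_apply, hyκ]

/-- **S18959**: an equivariant morphism which is an isomorphism on fixed points, reflects fixed
points and is étale near the fixed points is an isomorphism. -/
theorem main18959 (X Y : Over S) (a : MonAct (AMonS S ℕ) X) (b : MonAct (AMonS S ℕ) Y)
    (hX : ∀ x : X.left, ∃ U : X.left.Opens, x ∈ U ∧ IsAffineOpen U ∧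
      (snd (AMonS S ℕ) X).left ⁻¹ᵁ U ≤ a.act.left ⁻¹ᵁ U)
    (hY : ∀ y : Y.left, ∃ U : Y.left.Opens, y ∈ U ∧ IsAffineOpen U ∧
      (snd (AMonS S ℕ) Y).left ⁻¹ᵁ U ≤ b.act.left ⁻¹ᵁ U)
    (f : X ⟶ Y) (hf : IsEquivariant a b f)
    (h1 : IsIso (fixedPsh.map f hf))
    (h2 : IsPullback (fixedPsh.map f hf) (fixedPshι a) (fixedPshι b) (yoneda.map f))
    (V : X.left.Opens) [Etale (V.ι ≫ f.left)]
    (h3 : ∀ (T : Over S) (x : (fixedPsh a).obj (op T)), x.1.left ⁻¹ᵁ V = ⊤) : IsIso f := by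
  have hbij : ∀ T : Over S, Function.Bijective ((fixedPsh.map f hf).app (op T)) := fun T =>
    (isIso_iff_bijective _).1 inferInstance
  have E1 : ∀ (T : Over S) (y : T ⟶ Y), IsFixed b y →
      ∃ x : T ⟶ X, IsFixed a x ∧ x ≫ f = y := by
    intro T y hy
    obtain ⟨z, hz⟩ := (hbij T).2 (⟨y, hy⟩ : (fixedPsh b).obj (op T))
    exact ⟨z.1, z.2, congrArg Subtype.val hz⟩
  have E1' : ∀ (T : Over S) (x₁ x₂ : T ⟶ X), IsFixed a x₁ → IsFixed a x₂ →
      x₁ ≫ f = x₂ ≫ f → x₁ = x₂ := by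
    intro T x₁ x₂ h₁ h₂ h
    have h4 := (hbij T).1 (a₁ := (⟨x₁, h₁⟩ : (fixedPsh a).obj (op T)))
      (a₂ := (⟨x₂, h₂⟩ : (fixedPsh a).obj (op T))) (Subtype.ext h)
    exact congrArg Subtype.val h4
  have E2 : ∀ (T : Over S) (x : T ⟶ X), IsFixed b (x ≫ f) → IsFixed a x := by
    intro T x hx
    have sq : IsPullback ((fixedPsh.map f hf).app (op T)) ((fixedPshι a).app (op T))
        ((fixedPshι b).app (op T)) ((yoneda.map f).app (op T)) :=
      h2.map ((evaluation _ _).obj (op T))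
    obtain ⟨z, -, hz2⟩ := Limits.Types.exists_of_isPullback sq
      (⟨x ≫ f, hx⟩ : (fixedPsh b).obj (op T)) x rfl
    have hzx : z.1 = x := hz2
    rw [← hzx]
    exact z.2
  haveI : Flat (V.ι ≫ f.left) := (Etale.iff_flat_and_formallyUnramified.1 inferInstance).1
  have E3 : ∀ (T : Over S) (x : T ⟶ X), IsFixed a x → ∀ t : T.left,
      Function.Injective (f.left.stalkMap (x.left t)).hom := by
    intro T x hx t
    have hV : x.left ⁻¹ᵁ V = ⊤ := h3 T (⟨x, hx⟩ : (fixedPsh a).obj (op T))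
    have hp : x.left t ∈ V := by
      have h4 : t ∈ x.left ⁻¹ᵁ V := by
        rw [hV]
        trivial
      exact h4
    have hr : x.left t ∈ Set.range V.ι := by
      rw [Scheme.Opens.range_ι]
      exact hp
    obtain ⟨p', hp'⟩ := hr
    rw [← hp']
    have h4 := stalkMap_injective_of_flat (V.ι ≫ f.left) p'
    have e := Scheme.Hom.stalkMap_comp V.ι f.left p'
    rw [e] at h4
    have h5 : Function.Injective (f.left.stalkMap (V.ι p') ≫ V.ι.stalkMap p').hom := h4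
    rw [CommRingCat.hom_comp, RingHom.coe_comp] at h5
    exact Function.Injective.of_comp h5
  have H := exists_local_chart a b hX hY f hf E1 E1' E2 E3
  haveI : IsIso f.left := by
    apply isIso_of_local_charts f.left
    intro y
    obtain ⟨ZX, ZY, jX, jY, fZ, hoX, hoY, hiso, hcomm, hy, hrange⟩ := H y
    haveI := hiso
    have hisoL : IsIso fZ.left := (inferInstance : IsIso ((Over.forget S).map fZ))
    refine ⟨ZX.left, ZY.left, jX.left, jY.left, fZ.left, hoX, hoY, hisoL, ?_, hy, hrange⟩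
    rw [← Over.comp_left, ← Over.comp_left, hcomm]
  haveI : IsIso ((Over.forget S).map f) := (inferInstance : IsIso f.left)
  exact isIso_of_reflects_iso f (Over.forget S)

end Final

end Groth.Agent.Helper2.MagnetLine
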