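import Groth.Prelude.Def_Magnet3
import Groth.Agent.Lib.Helper2.Magnet.Cat
import Groth.Agent.Lib.Helper2.Magnet.Dom
import Groth.Agent.Lib.Helper2.Magnet.AMonDom

/-!
# Attractors of separated schemes: monomorphisms and closed immersions (helper2)
-/

set_option autoImplicit false
set_option synthInstance.maxHeartbeats 400000
set_option maxHeartbeats 4000000
set_option linter.style.haveILetI false
set_option linter.unusedSectionVars false
set_option linter.unusedVariables false
set_option linter.unusedSimpArgs false
set_option linter.unnecessarySimpa false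

universe u
open CategoryTheory MonoidalCategory CartesianMonoidalCategory MonObj AlgebraicGeometry Opposite
open Magnet

namespace Groth.Agent.Helper2.MagnetMain

open Groth.Agent.Helper2.MagnetDom Groth.Agent.Helper2.MagnetCat

theorem main18284 (S : Scheme.{u}) (M : Type) [AddCommMonoid M]
    (X : Over S) [IsSeparated X.hom] (a : Magnet.MonAct (Magnet.AMonS S M) X)
    {N N' : AddSubmonoid M} (h : N ≤ N') (T : Over S) :
    Function.Injective (fun φ => (Magnet.attrMap a h).app (op T) φ) := by
  intro φ₁ φ₂ hφ
  haveI := isSchemeTheoreticallyDominant_whiskerRight S (AddSubmonoid.inclusion h)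
    (AddSubmonoid.inclusion_injective h) T
  apply Subtype.ext
  have h' : (AMonS.map S (AddSubmonoid.inclusion h) ▷ T) ≫ φ₁.1 =
      (AMonS.map S (AddSubmonoid.inclusion h) ▷ T) ≫ φ₂.1 := congrArg Subtype.val hφ
  exact eq_of_comp_eq_of_dominant _ _ _ h'

theorem main18285 (S : Scheme.{u}) (M : Type) [AddCommMonoid M]
    (X : Over S) [IsSeparated X.hom] (a : Magnet.MonAct (Magnet.AMonS S M) X)
    (N : AddSubmonoid M) (T : Over S) :
    Function.Injective (fun φ => (Magnet.attrToX a N).app (op T) φ) := by
  haveI := isSchemeTheoreticallyDominant_whiskerRight S N.subtype Subtype.val_injective T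
  exact evalAt_injective (AMonS.map S N.subtype) a T
    (fun φ₁ φ₂ h => eq_of_comp_eq_of_dominant _ _ _ h)

theorem main18286 (S : Scheme.{u}) (M : Type) [AddCommMonoid M]
    (N : AddSubmonoid M) (Y Z : Over S) (aY : Magnet.MonAct (Magnet.AMonS S M) Y)
    (aZ : Magnet.MonAct (Magnet.AMonS S M) Z) (f : Z ⟶ Y) [IsClosedImmersion f.left]
    (hf : Magnet.MonAct.IsEquivariant aZ aY f) :
    IsPullback (Magnet.MonAct.eqvHom.postcomp (Magnet.subAct S M N) f hf) (Magnet.attrToX aZ N)
      (Magnet.attrToX aY N) (yoneda.map f) := by
  haveI : Mono f.left := inferInstance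
  haveI : Mono f := Over.mono_of_mono_left f
  exact isPullback_postcomp_evalAt (AMonS.map S N.subtype) aY aZ f hf (fun T φ e h => by
    haveI := isSchemeTheoreticallyDominant_whiskerRight S N.subtype Subtype.val_injective T
    exact exists_lift_of_dominant _ f φ e h)

end Groth.Agent.Helper2.MagnetMain
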