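import Groth.Agent.Lib.Helper2.Magnet.Comul

/-!
# The functor of points of `A(N)_S` (helper2)

For `W` over `S`, the `W`-points of `A(N)_S` are the monoid homomorphisms
`N → (Γ(W), ·)`: `charOf` sends a point `g` to `n ↦ g^#(chi n)`; it is injective
(`charOf_injective`) and surjective (`exists_point`), natural in `W` (`charOf_comp`) and in `N`
(`charOf_map`), and multiplicative (`charOf_mul`).
-/

set_option autoImplicit false
set_option synthInstance.maxHeartbeats 400000
set_option maxHeartbeats 4000000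
set_option linter.style.haveILetI false
set_option linter.unusedSectionVars false
set_option linter.unusedVariables false
set_option linter.unusedSimpArgs false
set_option linter.unnecessarySimpa false

universe u
open CategoryTheory Limits MonoidalCategory CartesianMonoidalCategory MonObj AlgebraicGeometry Opposite
open Magnet Magnet.MonAct

namespace Groth.Agent.Helper2.MagnetPts

open Groth.Agent.Helper2.MagnetDom Groth.Agent.Helper2.MagnetRep Groth.Agent.Helper2.MagnetFun
  Groth.Agent.Helper2.MagnetLoc Groth.Agent.Helper2.MagnetComul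

theorem ulift_int_ringHom_ext {R : Type*} [Ring R] (f g : ULift.{u} ℤ →+* R) : f = g := by
  apply RingHom.ext
  intro x
  have hx : x = ((x.down : ℤ) : ULift.{u} ℤ) := by
    apply ULift.ext
    rw [ULift.down_intCast]
    simp
  rw [hx, map_intCast, map_intCast]

section

variable (S : Scheme.{u}) (N : Type) [AddCommMonoid N]

theorem chi_zero : chi S N 0 = 1 := by
  unfold chi
  have h : MonoidAlgebra.single (Multiplicative.ofAdd (0 : N)) (1 : ULift.{u} ℤ) = 1 := rfl
  rw [h, map_one, map_one]

theorem chi_add (n₁ n₂ : N) : chi S N (n₁ + n₂) = chi S N n₁ * chi S N n₂ := by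
  unfold chi
  have h : MonoidAlgebra.single (Multiplicative.ofAdd (n₁ + n₂)) (1 : ULift.{u} ℤ) =
      MonoidAlgebra.single (Multiplicative.ofAdd n₁) 1 *
        MonoidAlgebra.single (Multiplicative.ofAdd n₂) 1 := by
    rw [MonoidAlgebra.single_mul_single, _root_.one_mul]
    rfl
  rw [h, map_mul, map_mul]

/-- the character of a point of `A(N)_S` -/
noncomputable def charOf {W : Over S} (g : W ⟶ AMonS S N) :
    Multiplicative N →* Γ(W.left, ⊤) where
  toFun n := g.left.appTop (chi S N (Multiplicative.toAdd n))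
  map_one' := by rw [toAdd_one, chi_zero, map_one]
  map_mul' a b := by rw [toAdd_mul, chi_add, map_mul]

theorem charOf_apply {W : Over S} (g : W ⟶ AMonS S N) (n : Multiplicative N) :
    charOf S N g n = g.left.appTop (chi S N (Multiplicative.toAdd n)) := rfl

theorem charOf_comp {W W' : Over S} (v : W' ⟶ W) (g : W ⟶ AMonS S N) (n : Multiplicative N) :
    charOf S N (v ≫ g) n = v.left.appTop (charOf S N g n) := by
  rw [charOf_apply, charOf_apply, Over.comp_left, Scheme.Hom.comp_appTop]
  rfl

theorem charOf_mul {W : Over S} (g h : W ⟶ AMonS S N) (n : Multiplicative N) :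
    charOf S N (g * h) n = charOf S N g n * charOf S N h n :=
  chi_mul S N g h _

theorem charOf_injective {W : Over S} : Function.Injective (charOf S N (W := W)) := by
  intro g₁ g₂ h
  haveI : IsAffine (AMon (ULift.{u} ℤ) N).left := inferInstanceAs (IsAffine (Spec _))
  have hfst : g₁.left ≫ pG S N = g₂.left ≫ pG S N := by
    apply ext_of_isAffine
    rw [← cancel_epi (gIso N).inv]
    apply CommRingCat.hom_ext
    apply MonoidAlgebra.ringHom_ext
    · intro r
      exact DFunLike.congr_fun (ulift_int_ringHom_ext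
        (((gIso N).inv ≫ (g₁.left ≫ pG S N).appTop).hom.comp MonoidAlgebra.singleOneRingHom)
        (((gIso N).inv ≫ (g₂.left ≫ pG S N).appTop).hom.comp MonoidAlgebra.singleOneRingHom)) r
    · intro n
      have hn := DFunLike.congr_fun h n
      rw [charOf_apply, charOf_apply] at hn
      have e : ∀ g : W ⟶ AMonS S N,
          ((gIso N).inv ≫ (g.left ≫ pG S N).appTop).hom (MonoidAlgebra.single n 1) =
            g.left.appTop (chi S N (Multiplicative.toAdd n)) := by
        intro g
        rw [Scheme.Hom.comp_appTop]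
        rfl
      rw [e, e]
      exact hn
  have hsnd : g₁.left ≫ pullback.snd (AMon (ULift.{u} ℤ) N).hom (tau S) =
      g₂.left ≫ pullback.snd (AMon (ULift.{u} ℤ) N).hom (tau S) :=
    (Over.w g₁).trans (Over.w g₂).symm
  apply Over.OverMorphism.ext
  exact pullback.hom_ext hfst hsnd

theorem exists_point {W : Over S} (χ : Multiplicative N →* Γ(W.left, ⊤)) :
    ∃ g : W ⟶ AMonS S N, charOf S N g = χ := by
  let f₀ : ULift.{u} ℤ →+* Γ(W.left, ⊤) :=
    (Int.castRingHom _).comp (ULift.ringEquiv : ULift.{u} ℤ ≃+* ℤ).toRingHom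
  let ψ : MonoidAlgebra (ULift.{u} ℤ) (Multiplicative N) →+* Γ(W.left, ⊤) :=
    MonoidAlgebra.liftNCRingHom f₀ χ (fun _ _ => Commute.all _ _)
  obtain ⟨h, hh⟩ : ∃ h : W.left ⟶ (AMon (ULift.{u} ℤ) N).left,
      h.appTop = (gIso N).hom ≫ CommRingCat.ofHom ψ := by
    refine ⟨W.left.toSpecΓ ≫ Spec.map (CommRingCat.ofHom ψ), ?_⟩
    rw [Scheme.Hom.comp_appTop, Scheme.toSpecΓ_appTop]
    exact Scheme.ΓSpecIso_naturality _
  have hcond : h ≫ (AMon (ULift.{u} ℤ) N).hom = W.hom ≫ tau S :=
    specULiftZIsTerminal.hom_ext _ _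
  refine ⟨Over.homMk (pullback.lift h W.hom hcond) (pullback.lift_snd _ _ _), ?_⟩
  apply MonoidHom.ext
  intro n
  rw [charOf_apply]
  have e1 : pullback.lift h W.hom hcond ≫ pG S N = h := pullback.lift_fst _ _ _
  have e1' : (pG S N).appTop ≫ (pullback.lift h W.hom hcond).appTop = h.appTop := by
    rw [← Scheme.Hom.comp_appTop, e1]
  have e2 : (pullback.lift h W.hom hcond).appTop (chi S N (Multiplicative.toAdd n)) =
      h.appTop ((gIso N).inv (MonoidAlgebra.single n 1)) :=
    congr($e1' ((gIso N).inv (MonoidAlgebra.single n 1)))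
  change (pullback.lift h W.hom hcond).appTop (chi S N (Multiplicative.toAdd n)) = χ n
  rw [e2, hh]
  change ψ ((gIso N).hom ((gIso N).inv (MonoidAlgebra.single n 1))) = χ n
  have e3 : (gIso N).hom ((gIso N).inv (MonoidAlgebra.single n (1 : ULift.{u} ℤ))) =
      MonoidAlgebra.single n 1 := congr($((gIso N).inv_hom_id) _)
  rw [e3]
  change MonoidAlgebra.liftNCRingHom f₀ χ _ (MonoidAlgebra.single n 1) = χ n
  rw [MonoidAlgebra.liftNCRingHom_single, map_one, _root_.one_mul]

end

section Map

variable (S : Scheme.{u}) {N₁ N₂ : Type} [AddCommMonoid N₁] [AddCommMonoid N₂] (f : N₁ →+ N₂)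

theorem map_chi (n : N₁) : (AMonS.map S f).left.appTop (chi S N₁ n) = chi S N₂ (f n) := by
  have h1 : (AMonS.map S f).left ≫ pG S N₁ = pG S N₂ ≫ (AMon.map (ULift.{u} ℤ) f).left :=
    pullback.lift_fst _ _ _
  have key : (gIso N₁).inv ≫ (AMon.map (ULift.{u} ℤ) f).left.appTop =
      iotaHom f ≫ (gIso N₂).inv :=
    (Scheme.ΓSpecIso_inv_naturality (iotaHom f)).symm
  have h2 : (pG S N₁).appTop ≫ (AMonS.map S f).left.appTop =
      (AMon.map (ULift.{u} ℤ) f).left.appTop ≫ (pG S N₂).appTop := by
    rw [← Scheme.Hom.comp_appTop, h1, Scheme.Hom.comp_appTop]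
  unfold chi
  have h3 := congr($h2 ((gIso N₁).inv (MonoidAlgebra.single (Multiplicative.ofAdd n) 1)))
  refine h3.trans ?_
  have h4 := congr($key (MonoidAlgebra.single (Multiplicative.ofAdd n) 1))
  change (pG S N₂).appTop ((AMon.map (ULift.{u} ℤ) f).left.appTop
    ((gIso N₁).inv (MonoidAlgebra.single (Multiplicative.ofAdd n) 1))) = _
  have h5 : (AMon.map (ULift.{u} ℤ) f).left.appTop
      ((gIso N₁).inv (MonoidAlgebra.single (Multiplicative.ofAdd n) 1)) =
      (gIso N₂).inv (iotaHom f (MonoidAlgebra.single (Multiplicative.ofAdd n) 1)) := h4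
  rw [h5, iotaHom_apply, MonoidAlgebra.mapDomain_single]
  rfl

theorem charOf_map {W : Over S} (g : W ⟶ AMonS S N₂) (n : Multiplicative N₁) :
    charOf S N₁ (g ≫ AMonS.map S f) n = charOf S N₂ g (AddMonoidHom.toMultiplicative f n) := by
  rw [charOf_apply, charOf_apply, Over.comp_left, Scheme.Hom.comp_appTop]
  change g.left.appTop ((AMonS.map S f).left.appTop (chi S N₁ (Multiplicative.toAdd n))) = _
  rw [map_chi]
  rfl

end Map

end Groth.Agent.Helper2.MagnetPts
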