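import Groth.Agent.Lib.Helper2.Magnet.Grading
import Mathlib.AlgebraicGeometry.Morphisms.FinitePresentation

/-!
# Pure magnets, local part (helper2)

For `X` affine over an affine open of the base and of finite type over it, there is a finite set
of degrees `D` such that the ideal of the attractor of `N` only depends on `N ∩ D`
(`exists_degrees`); the image of the attractor in `X` on affine test schemes only depends on that
ideal (`range_transfer`).
-/

set_option autoImplicit false
set_option synthInstance.maxHeartbeats 400000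
set_option maxHeartbeats 4000000
set_option linter.style.haveILetI false
set_option linter.unusedSectionVars false
set_option linter.unusedVariables false
set_option linter.unusedSimpArgs false
set_option linter.unnecessarySimpa false

universe u
open CategoryTheory Limits MonoidalCategory CartesianMonoidalCategory MonObj AlgebraicGeometry Opposite
open Magnet Magnet.MonAct

namespace Groth.Agent.Helper2.MagnetPure

open Groth.Agent.Helper2.MagnetDom Groth.Agent.Helper2.MagnetFun Groth.Agent.Helper2.MagnetComul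
  Groth.Agent.Helper2.MagnetPts Groth.Agent.Helper2.MagnetLoc Groth.Agent.Helper2.MagnetGrading
  Groth.Agent.Helper2.MagnetCat

variable {S : Scheme.{u}} {M : Type} [AddCommMonoid M] {X : Over S} [IsAffine X.left]
  (a : MonAct (AMonS S M) X) {V₀ : Scheme.{u}} [IsAffine V₀] (ι₀ : V₀ ⟶ S) [Mono ι₀]
  (v₀ : X.left ⟶ V₀) (hv : v₀ ≫ ι₀ = X.hom)

include hv in
/-- a finite set of degrees controlling the ideals of all attractors -/
theorem exists_degrees [LocallyOfFiniteType v₀] :
    ∃ D : Finset M, ∀ N N' : AddSubmonoid M, N' ≤ N → (∀ d ∈ D, d ∈ N → d ∈ N') →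
      Ideal.span (genJ N' a) = Ideal.span (genJ N a) := by
  classical
  have hft : RingHom.FiniteType v₀.appTop.hom :=
    (HasRingHomProperty.iff_of_isAffine (P := @LocallyOfFiniteType)).1 inferInstance
  obtain ⟨s, hs⟩ : ∃ s : Finset Γ(X.left, ⊤),
      Subring.closure (Set.range v₀.appTop.hom ∪ (s : Set Γ(X.left, ⊤))) = ⊤ := by
    letI := v₀.appTop.hom.toAlgebra
    have hft' : Algebra.FiniteType Γ(V₀, ⊤) Γ(X.left, ⊤) := hft
    obtain ⟨s, hs⟩ := hft'.out
    refine ⟨s, ?_⟩
    have h1 := Algebra.adjoin_eq_ring_closure (R := Γ(V₀, ⊤)) (s : Set Γ(X.left, ⊤))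
    rw [hs, Algebra.top_toSubring] at h1
    exact h1.symm
  choose F hF using exists_finset_sum a
  obtain ⟨G, hGdef⟩ : ∃ G : Set Γ(X.left, ⊤), G = Set.range v₀.appTop.hom ∪
      {y | ∃ g ∈ s, ∃ m ∈ F g, y = coefL S M X m (a.act.left.appTop g)} := ⟨_, rfl⟩
  have hGtop : Subring.closure G = ⊤ := by
    rw [eq_top_iff, ← hs]
    apply Subring.closure_le.2
    rintro y (hy | hy)
    · apply Subring.subset_closure
      rw [hGdef]
      exact Or.inl hy
    · have h1 : ∑ m ∈ F y, coefL S M X m (a.act.left.appTop y) ∈ Subring.closure G :=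
        sum_mem (fun m hm => Subring.subset_closure (by
          rw [hGdef]
          exact Or.inr ⟨y, Finset.mem_coe.1 hy, m, hm, rfl⟩))
      rw [← hF y] at h1
      exact h1
  have hinv : ∀ r : Γ(V₀, ⊤), a.act.left.appTop (v₀.appTop r) = i2 S M X (v₀.appTop r) := by
    intro r
    have h1 : a.act.left ≫ v₀ = (snd (AMonS S M) X).left ≫ v₀ := by
      rw [← cancel_mono ι₀, Category.assoc, Category.assoc, hv, Over.w a.act,
        Over.w (snd (AMonS S M) X)]
    have h2 : v₀.appTop ≫ a.act.left.appTop = v₀.appTop ≫ (snd (AMonS S M) X).left.appTop := by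
      rw [← Scheme.Hom.comp_appTop, ← Scheme.Hom.comp_appTop, h1]
    exact congr($h2 r)
  refine ⟨s.biUnion F, fun N N' hle hND => ?_⟩
  refine span_genJ_eq a G hGtop (↑(s.biUnion F)) ?_ N N' hle
    (fun d hd => hND d (Finset.mem_coe.1 hd))
  intro g hg
  rw [hGdef] at hg
  rcases hg with ⟨r, rfl⟩ | ⟨g₀, hg₀, m, hm, rfl⟩
  · exact ⟨0, Or.inl rfl, isHomog_of_invariant a (hinv r)⟩
  · exact ⟨m, Or.inr (Finset.mem_coe.2 (Finset.mem_biUnion.2 ⟨g₀, hg₀, hm⟩)), isHomog_comp a m g₀⟩

include hv in
/-- a point of an affine test scheme killing the ideal of the attractor lies in its image -/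
theorem exists_attr_of_kills [IsSeparated X.hom] (N : AddSubmonoid M) (T : Over S)
    [IsAffine T.left] (x : T ⟶ X)
    (hk : ∀ y ∈ Ideal.span (genJ N a), x.left.appTop y = 0) :
    ∃ b : (attr a N).obj (op T), (attrToX a N).app (op T) b = x := by
  have hinj : Function.Injective N.subtype := fun x y h => Subtype.ext h
  obtain ⟨φZ, hφZ⟩ := exists_extension N a ι₀ v₀ hv T x hk
  have hcancel2 : ∀ f₁ f₂ : AMonS S M ⊗ (AMonS S N ⊗ T) ⟶ X,
      (AMonS S M ◁ (AMonS.map S N.subtype ▷ T)) ≫ f₁ =
        (AMonS S M ◁ (AMonS.map S N.subtype ▷ T)) ≫ f₂ → f₁ = f₂ := fun f₁ f₂ h => by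
    haveI := isSchemeTheoreticallyDominant_whiskerRight S N.subtype hinj T
    haveI := isAffineHom_map_whiskerRight S N.subtype T
    haveI := flat_AMonS_hom S M
    haveI := isSchemeTheoreticallyDominant_whiskerLeft_of_flat (AMonS S M)
      (AMonS.map S N.subtype ▷ T)
    exact eq_of_comp_eq_of_dominant (AMonS S M ◁ (AMonS.map S N.subtype ▷ T)) f₁ f₂ h
  exact ⟨⟨φZ, isEquivariant_of_precomp_eq_orbit (AMonS.map S N.subtype) a φZ x hφZ hcancel2⟩,
    evalAt_eq_of_precomp_eq_orbit (AMonS.map S N.subtype) a φZ x hφZ⟩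

include hv in
/-- the image of the attractor on affine test schemes only depends on its ideal -/
theorem range_transfer [IsSeparated X.hom] (N N' : AddSubmonoid M)
    (hspan : Ideal.span (genJ N' a) = Ideal.span (genJ N a))
    (T : Over S) [IsAffine T.left] (x : T ⟶ X)
    (hx : x ∈ Set.range (fun φ => (attrToX a N).app (op T) φ)) :
    x ∈ Set.range (fun φ => (attrToX a N').app (op T) φ) := by
  obtain ⟨φ, rfl⟩ := hx
  have horb := precomp_eq_orbit (AMonS.map S N.subtype) a φ.1 φ.2
  have hk := kills N a T φ.1 _ horb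
  rw [← hspan] at hk
  obtain ⟨b', hb'⟩ := exists_attr_of_kills a ι₀ v₀ hv N' T _ hk
  exact ⟨b', hb'⟩

end Groth.Agent.Helper2.MagnetPure
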