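import Groth.Prelude.Def_Magnet3
import Groth.Agent.Lib.Helper2.Magnet.PureLocal
import Groth.Agent.Lib.Helper2.Magnet.RepCover

/-!
# Pure magnets are finite in number (helper2)

`main19647`: for `S` quasi-compact, `X` affine and of finite presentation over `S` with an action
of `A(M)_S`, the set of pure magnets is finite.  There is a finite set `D` of degrees (the degrees
of homogeneous generators over a finite affine cover of `S`) such that the image of `X^N` in `X`
only depends on `N ∩ D`; so a pure magnet is generated by a subset of `D`.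
-/

set_option autoImplicit false
set_option synthInstance.maxHeartbeats 400000
set_option maxHeartbeats 4000000
set_option linter.style.haveILetI false
set_option linter.unusedSectionVars false
set_option linter.unusedVariables false
set_option linter.unusedSimpArgs false
set_option linter.unnecessarySimpa false

universe u
open CategoryTheory Limits MonoidalCategory CartesianMonoidalCategory MonObj AlgebraicGeometry Opposite
open Magnet Magnet.MonAct

namespace Groth.Agent.Helper2.MagnetPure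

open Groth.Agent.Lib.Helper5.LocRepF Groth.Agent.Helper2.MagnetOpen Groth.Agent.Helper2.MagnetSheaf
  Groth.Agent.Helper2.MagnetCat Groth.Agent.Helper2.MagnetRepCover Groth.Agent.Helper2.MagnetLoc
  Groth.Agent.Helper2.MagnetDom

theorem exists_cover_into {S T₀ : Scheme.{u}} (t : T₀ ⟶ S) (𝔱 : Set S.affineOpens)
    (h𝔱 : ∀ s : S, ∃ V ∈ 𝔱, s ∈ V.1) :
    ∃ (𝒱 : Scheme.OpenCover.{u} T₀) (Vof : 𝒱.I₀ → S.affineOpens),
      (∀ j, IsAffine (𝒱.X j)) ∧ (∀ j, Vof j ∈ 𝔱) ∧
        ∀ (j : 𝒱.I₀) (q : 𝒱.X j), t (𝒱.f j q) ∈ (Vof j).1 := by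
  choose V hV𝔱 hV using h𝔱
  have hW : ∀ p : T₀, ∃ W : T₀.Opens, IsAffineOpen W ∧ p ∈ W ∧ W.1 ⊆ t ⁻¹ᵁ (V (t p)).1 :=
    fun p => exists_isAffineOpen_mem_and_subset (x := p) (U := t ⁻¹ᵁ (V (t p)).1) (hV (t p))
  choose W hWaff hpW hWle using hW
  have hcov : TopologicalSpace.IsOpenCover W := by
    rw [TopologicalSpace.IsOpenCover, eq_top_iff]
    intro p _
    exact TopologicalSpace.Opens.mem_iSup.2 ⟨p, hpW p⟩
  refine ⟨T₀.openCoverOfIsOpenCover W hcov, fun p => V (t p), fun p => hWaff p,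
    fun p => hV𝔱 _, fun p q => ?_⟩
  change t ((W p).ι q) ∈ (V (t p)).1
  have h1 : (W p).ι q ∈ Set.range (W p).ι := ⟨q, rfl⟩
  rw [Scheme.Opens.range_ι] at h1
  exact hWle p h1

variable {S : Scheme.{u}} {M : Type} [AddCommMonoid M]

/-- the piece of `X` over an affine open of the base -/
abbrev XV (X : Over S) (V : S.affineOpens) : Over S := Over.mk ((X.hom ⁻¹ᵁ V.1).ι ≫ X.hom)

/-- its inclusion -/
abbrev jU (X : Over S) (V : S.affineOpens) : XV X V ⟶ X := Over.homMk (X.hom ⁻¹ᵁ V.1).ι rfl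

theorem attrToX_map {X : Over S} (a : MonAct (AMonS S M) X) (L : AddSubmonoid M) {T T' : Over S}
    (v : T' ⟶ T) (b : (attr a L).obj (op T)) :
    (attrToX a L).app (op T') ((attr a L).map v.op b) = v ≫ (attrToX a L).app (op T) b := by
  change lift (toUnit T' ≫ η[AMonS S L]) (𝟙 T') ≫ (AMonS S L ◁ v) ≫ b.1 =
    v ≫ lift (toUnit T ≫ η[AMonS S L]) (𝟙 T) ≫ b.1
  rw [← Category.assoc, lift_unit_whiskerLeft, Category.assoc]

theorem attrToX_injective {X : Over S} [IsSeparated X.hom] (a : MonAct (AMonS S M) X)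
    (L : AddSubmonoid M) (T : Over S) :
    Function.Injective (fun φ => (attrToX a L).app (op T) φ) := by
  have hinj : Function.Injective L.subtype := fun x y h => Subtype.ext h
  refine evalAt_injective (AMonS.map S L.subtype) a T (fun φ₁ φ₂ h => ?_)
  haveI := isSchemeTheoreticallyDominant_whiskerRight S L.subtype hinj T
  exact eq_of_comp_eq_of_dominant (AMonS.map S L.subtype ▷ T) φ₁ φ₂ h

theorem range_attrToX_mono {X : Over S} (a : MonAct (AMonS S M) X) {N' N : AddSubmonoid M}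
    (h : N' ≤ N) (T : Over S) :
    Set.range (fun φ => (attrToX a N').app (op T) φ) ⊆
      Set.range (fun φ => (attrToX a N).app (op T) φ) := by
  rintro _ ⟨φ, rfl⟩
  refine ⟨(attrMap a h).app (op T) φ, ?_⟩
  change lift (toUnit T ≫ η[AMonS S N]) (𝟙 T) ≫
    (AMonS.map S (AddSubmonoid.inclusion h) ▷ T) ≫ φ.1 =
    lift (toUnit T ≫ η[AMonS S N']) (𝟙 T) ≫ φ.1
  rw [lift_whiskerRight_assoc, Category.assoc, IsMonHom.one_hom]

/-- transfer of the image of the attractor for test schemes lying over one affine open -/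
theorem local_step {X : Over S} (a : MonAct (AMonS S M) X) (V : S.affineOpens)
    (aU : MonAct (AMonS S M) (XV X V)) (haU : IsEquivariant aU a (jU X V))
    (N N' : AddSubmonoid M) (T : Over S)
    (hloc : ∀ x' : T ⟶ XV X V,
      x' ∈ Set.range (fun φ => (attrToX aU N).app (op T) φ) →
      x' ∈ Set.range (fun φ => (attrToX aU N').app (op T) φ))
    (hTV : ∀ q : T.left, T.hom q ∈ V.1) (b : (attr a N).obj (op T)) :
    ∃ b' : (attr a N').obj (op T),
      (attrToX a N').app (op T) b' = (attrToX a N).app (op T) b := by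
  have hjl : (jU X V).left = (X.hom ⁻¹ᵁ V.1).ι := rfl
  haveI hopen : IsOpenImmersion (jU X V).left := by rw [hjl]; infer_instance
  haveI : Mono (jU X V).left := inferInstance
  haveI hmono : Mono (jU X V) := Over.mono_of_mono_left (jU X V)
  have hrU : Set.range (jU X V).left = ((X.hom ⁻¹ᵁ V.1 : X.left.Opens) : Set X.left) := by
    rw [hjl]; exact Scheme.Opens.range_ι _
  have hrange : Set.range b.1.left ⊆ Set.range (jU X V).left := by
    rintro _ ⟨q, rfl⟩
    rw [hrU]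
    change X.hom (b.1.left q) ∈ V.1
    have h3 : b.1.left ≫ X.hom = (snd (AMonS S N) T).left ≫ T.hom := by
      rw [Over.w b.1, Over.w (snd (AMonS S N) T)]
    rw [← Scheme.Hom.comp_apply, h3, Scheme.Hom.comp_apply]
    exact hTV _
  let χ : AMonS S N ⊗ T ⟶ XV X V :=
    Over.homMk (IsOpenImmersion.lift (jU X V).left b.1.left hrange) (by
      rw [← Over.w (jU X V), ← Category.assoc, IsOpenImmersion.lift_fac, Over.w])
  have hχ : χ ≫ jU X V = b.1 := by
    apply Over.OverMorphism.ext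
    rw [Over.comp_left]
    exact IsOpenImmersion.lift_fac _ _ _
  have hχeq : IsEquivariant ((subAct S M N).prod (trivial (AMonS S M) T)) aU χ :=
    isEquivariant_of_comp_mono (jU X V) haU χ b.1 hχ b.2
  obtain ⟨ψ, hψ⟩ := hloc ((attrToX aU N).app (op T) ⟨χ, hχeq⟩) ⟨⟨χ, hχeq⟩, rfl⟩
  refine ⟨(eqvHom.postcomp (subAct S M N') (jU X V) haU).app (op T) ψ, ?_⟩
  change lift (toUnit T ≫ η[AMonS S N']) (𝟙 T) ≫ ψ.1 ≫ jU X V =
    lift (toUnit T ≫ η[AMonS S N]) (𝟙 T) ≫ b.1
  have hψ' : lift (toUnit T ≫ η[AMonS S N']) (𝟙 T) ≫ ψ.1 =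
      lift (toUnit T ≫ η[AMonS S N]) (𝟙 T) ≫ χ := hψ
  rw [← Category.assoc, hψ', Category.assoc, hχ]

/-- the image of the attractor can be compared locally on the base and on the test scheme -/
theorem range_subset_of_local {X : Over S} [IsAffineHom X.hom] (a : MonAct (AMonS S M) X)
    (aU : ∀ V : S.affineOpens, MonAct (AMonS S M) (XV X V))
    (haU : ∀ V, IsEquivariant (aU V) a (jU X V))
    (N N' : AddSubmonoid M) (𝔱 : Set S.affineOpens) (h𝔱 : ∀ s : S, ∃ V ∈ 𝔱, s ∈ V.1)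
    (hloc : ∀ V ∈ 𝔱, ∀ (T : Over S), IsAffine T.left → ∀ x' : T ⟶ XV X V,
      x' ∈ Set.range (fun φ => (attrToX (aU V) N).app (op T) φ) →
      x' ∈ Set.range (fun φ => (attrToX (aU V) N').app (op T) φ))
    {T₀ : Scheme.{u}} (t : T₀ ⟶ S) (x : Over.mk t ⟶ X)
    (hx : x ∈ Set.range (fun φ => (attrToX a N).app (op (Over.mk t)) φ)) :
    x ∈ Set.range (fun φ => (attrToX a N').app (op (Over.mk t)) φ) := by
  obtain ⟨φ, rfl⟩ := hx
  obtain ⟨𝒱, Vof, h𝒱aff, hVof𝔱, hVof⟩ := exists_cover_into t 𝔱 h𝔱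
  have hstep : ∀ j : 𝒱.I₀, ∃ b' : (attr a N').obj (op (Over.mk (𝒱.f j ≫ t))),
      (attrToX a N').app (op (Over.mk (𝒱.f j ≫ t))) b' =
        oHom (𝒱.f j) t ≫ (attrToX a N).app (op (Over.mk t)) φ := by
    intro j
    obtain ⟨b', hb'⟩ := local_step a (Vof j) (aU (Vof j)) (haU (Vof j)) N N'
      (Over.mk (𝒱.f j ≫ t))
      (fun x' hx' => hloc (Vof j) (hVof𝔱 j) _ (h𝒱aff j) x' hx')
      (fun q => by
        change (𝒱.f j ≫ t) q ∈ (Vof j).1
        rw [Scheme.Hom.comp_apply]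
        exact hVof j q)
      ((attr a N).map (oHom (𝒱.f j) t).op φ)
    refine ⟨b', ?_⟩
    rw [hb', attrToX_map]
  choose b' hb' using hstep
  haveI : IsSeparated X.hom := inferInstance
  obtain ⟨β, hβ⟩ := eqvHom_glue (subAct S M N') a t 𝒱 b' (by
    intro i j T₁ a₁ a₂ h
    apply attrToX_injective a N' _
    change (attrToX a N').app _ ((attr a N').map _ (b' i)) =
      (attrToX a N').app _ ((attr a N').map _ (b' j))
    rw [attrToX_map, attrToX_map, hb', hb']
    have hgeq : oHom a₁ (𝒱.f i ≫ t) ≫ oHom (𝒱.f i) t =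
        (castHom (by rw [← Category.assoc, h, Category.assoc]) ≫ oHom a₂ (𝒱.f j ≫ t) :
          Over.mk (a₁ ≫ 𝒱.f i ≫ t) ⟶ _) ≫ oHom (𝒱.f j) t := by
      apply Over.OverMorphism.ext
      simp [h]
    exact (Category.assoc _ _ _).symm.trans
      ((congrArg (fun g => g ≫ (attrToX a N).app (op (Over.mk t)) φ) hgeq).trans
        (Category.assoc _ _ _)))
  refine ⟨β, ?_⟩
  change (attrToX a N').app (op (Over.mk t)) β = (attrToX a N).app (op (Over.mk t)) φ
  refine (baseFam t 𝒱).hom_ext _ _ (fun j => ?_)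
  rw [← attrToX_map a N' (oHom (𝒱.f j) t) β, hβ j, hb' j]

theorem main19647 (S : Scheme.{u}) [CompactSpace S] (M : Type) [AddCommMonoid M]
    {X : Over S} [IsAffineHom X.hom] [LocallyOfFinitePresentation X.hom]
    (a : MonAct (AMonS S M) X) :
    Set.Finite {N : AddSubmonoid M | ∀ L : AddSubmonoid M,
      (∀ T : Over S, Set.range (fun φ => (attrToX a N).app (op T) φ) =
        Set.range (fun φ => (attrToX a L).app (op T) φ)) → N ≤ L} := by
  classical
  have hstab : ∀ V : S.affineOpens,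
      (snd (AMonS S M) X).left ⁻¹ᵁ (X.hom ⁻¹ᵁ V.1) ≤ a.act.left ⁻¹ᵁ (X.hom ⁻¹ᵁ V.1) := fun V => by
    have e1 : (snd (AMonS S M) X).left ⁻¹ᵁ (X.hom ⁻¹ᵁ V.1) = (AMonS S M ⊗ X).hom ⁻¹ᵁ V.1 := by
      rw [← Scheme.Hom.comp_preimage, Over.w]
    have e2 : a.act.left ⁻¹ᵁ (X.hom ⁻¹ᵁ V.1) = (AMonS S M ⊗ X).hom ⁻¹ᵁ V.1 := by
      rw [← Scheme.Hom.comp_preimage, Over.w]
    rw [e1, e2]
  have hdata : ∀ V : S.affineOpens, ∃ (aU : MonAct (AMonS S M) (XV X V)) (D : Finset M),
      IsEquivariant aU a (jU X V) ∧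
      ∀ N N' : AddSubmonoid M, N' ≤ N → (∀ d ∈ D, d ∈ N → d ∈ N') →
        ∀ (T : Over S), IsAffine T.left → ∀ x' : T ⟶ XV X V,
          x' ∈ Set.range (fun φ => (attrToX aU N).app (op T) φ) →
          x' ∈ Set.range (fun φ => (attrToX aU N').app (op T) φ) := by
    intro V
    obtain ⟨aU, haU⟩ := exists_action_of_stable_open a (X.hom ⁻¹ᵁ V.1) (hstab V)
    haveI : IsAffine (XV X V).left := V.2.preimage X.hom
    haveI : IsSeparated (XV X V).hom := by
      change IsSeparated ((X.hom ⁻¹ᵁ V.1).ι ≫ X.hom)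
      infer_instance
    haveI : IsAffine (V.1 : Scheme.{u}) := V.2
    have hrange : Set.range ((X.hom ⁻¹ᵁ V.1).ι ≫ X.hom) ⊆ Set.range V.1.ι := by
      rintro _ ⟨p, rfl⟩
      rw [Scheme.Opens.range_ι, Scheme.Hom.comp_apply]
      have hp : (X.hom ⁻¹ᵁ V.1).ι p ∈ Set.range (X.hom ⁻¹ᵁ V.1).ι := ⟨p, rfl⟩
      rw [Scheme.Opens.range_ι] at hp
      exact hp
    obtain ⟨v₀, hv⟩ : ∃ v₀ : (XV X V).left ⟶ (V.1 : Scheme.{u}), v₀ ≫ V.1.ι = (XV X V).hom :=
      ⟨IsOpenImmersion.lift V.1.ι ((X.hom ⁻¹ᵁ V.1).ι ≫ X.hom) hrange,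
        IsOpenImmersion.lift_fac _ _ _⟩
    haveI : LocallyOfFiniteType v₀ := by
      haveI : LocallyOfFiniteType (v₀ ≫ V.1.ι) := by
        rw [hv]
        change LocallyOfFiniteType ((X.hom ⁻¹ᵁ V.1).ι ≫ X.hom)
        infer_instance
      exact locallyOfFiniteType_of_comp v₀ V.1.ι
    obtain ⟨D, hD⟩ := exists_degrees aU V.1.ι v₀ hv
    refine ⟨aU, D, haU, fun N N' hle hND T hT x' hx' => ?_⟩
    haveI := hT
    exact range_transfer aU V.1.ι v₀ hv N N' (hD N N' hle hND) T x' hx'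
  choose aU D haU hloc using hdata
  obtain ⟨𝔱, h𝔱⟩ := TopologicalSpace.IsOpenCover.exists_finite_of_compactSpace
    (show TopologicalSpace.IsOpenCover (fun V : S.affineOpens => (V : S.Opens)) from iSup_affineOpens_eq_top S)
  have hcov : ∀ s : S, ∃ V ∈ (𝔱 : Set S.affineOpens), s ∈ V.1 := by
    intro s
    obtain ⟨i, hi⟩ := h𝔱.exists_mem s
    exact ⟨i.1, Finset.mem_coe.2 i.2, hi⟩
  have key : ∀ (N : AddSubmonoid M) (T : Over S),
      Set.range (fun φ => (attrToX a N).app (op T) φ) =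
        Set.range (fun φ => (attrToX a
          (AddSubmonoid.closure ((N : Set M) ∩ ↑(𝔱.biUnion D)))).app (op T) φ) := by
    intro N T
    have hle : AddSubmonoid.closure ((N : Set M) ∩ ↑(𝔱.biUnion D)) ≤ N :=
      AddSubmonoid.closure_le.2 Set.inter_subset_left
    apply Set.Subset.antisymm
    · intro x hx
      exact range_subset_of_local a aU haU N _ (↑𝔱) hcov
        (fun V hV => hloc V N _ hle (fun d hd hdN => AddSubmonoid.subset_closure
          ⟨hdN, Finset.mem_coe.2 (Finset.mem_biUnion.2 ⟨V, Finset.mem_coe.1 hV, hd⟩)⟩))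
        T.hom x hx
    · exact range_attrToX_mono a hle T
  refine Set.Finite.subset ((Set.Finite.finite_subsets (𝔱.biUnion D).finite_toSet).image
    (fun s => AddSubmonoid.closure s)) ?_
  intro N hN
  refine ⟨(N : Set M) ∩ ↑(𝔱.biUnion D), Set.inter_subset_right, ?_⟩
  change AddSubmonoid.closure ((N : Set M) ∩ ↑(𝔱.biUnion D)) = N
  apply le_antisymm
  · exact AddSubmonoid.closure_le.2 Set.inter_subset_left
  · exact hN _ (key N)

end Groth.Agent.Helper2.MagnetPure
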