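import Groth.Agent.Lib.Helper2.Magnet.RepAlg

/-!
# Functionals on pushouts of commutative rings over a general base (helper2)

Generalisation of `RepAlg` from a field `k` to an arbitrary base ring `R₀`: functionals
`P → R` on a pushout `P = A ⊗[R₀] R` induced by `R₀`-linear functionals `A → R₀`, and a range
criterion for `A_M ⊗ R → A_G ⊗ R` in terms of an explicit family of functionals complementing a
linear retraction.
-/

set_option autoImplicit false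
set_option synthInstance.maxHeartbeats 400000
set_option maxHeartbeats 4000000
set_option linter.style.haveILetI false
set_option linter.unusedSectionVars false
set_option linter.unusedVariables false
set_option linter.unusedSimpArgs false
set_option linter.unnecessarySimpa false

universe u
open CategoryTheory Limits TensorProduct

namespace Groth.Agent.Helper2.MagnetRep2

open Groth.Agent.Helper2.MagnetRep

theorem exists_functional' {R₀ A R P : CommRingCat.{u}} {a : R₀ ⟶ A} {r : R₀ ⟶ R} {i₁ : A ⟶ P}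
    {i₂ : R ⟶ P} (h : IsPushout a r i₁ i₂) (l : A →+ R₀)
    (hl : ∀ (c : R₀) (x : A), l (a c * x) = c * l x) :
    ∃ L : P →+ R, ∀ (x : A) (s : R), L (i₁ x * i₂ s) = r (l x) * s := by
  letI : Algebra R₀ A := a.hom.toAlgebra
  letI : Algebra R₀ R := r.hom.toAlgebra
  obtain ⟨e, he1, he2, he3⟩ := tensor_model (R₀ := R₀) h rfl rfl
  let lL : A →ₗ[R₀] R₀ :=
    { toFun := l
      map_add' := map_add l
      map_smul' := fun c x => by
        simp only [RingHom.id_apply, smul_eq_mul]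
        have : c • x = a c * x := Algebra.smul_def c x
        rw [this]
        exact hl c x }
  let L₀ : A ⊗[R₀] R →ₗ[R₀] R := (TensorProduct.lid R₀ R).toLinearMap ∘ₗ lL.rTensor R
  refine ⟨L₀.toAddMonoidHom.comp e.hom.hom.toAddMonoidHom, fun x s => ?_⟩
  change L₀ (e.hom (i₁ x * i₂ s)) = _
  rw [map_mul, he1, he2, Algebra.TensorProduct.tmul_mul_tmul, mul_one, one_mul]
  change TensorProduct.lid R₀ R (lL.rTensor R (x ⊗ₜ[R₀] s)) = _
  rw [LinearMap.rTensor_tmul, TensorProduct.lid_tmul, Algebra.smul_def]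
  rfl

theorem functional_comp_eq_zero' {R₀ AM AG R PM PG : CommRingCat.{u}}
    {m₀ : R₀ ⟶ AM} {r₀ : R₀ ⟶ R}
    {iM₁ : AM ⟶ PM} {iM₂ : R ⟶ PM} {iG₁ : AG ⟶ PG} {iG₂ : R ⟶ PG}
    (hM : IsPushout m₀ r₀ iM₁ iM₂)
    (ι : AM ⟶ AG) (θ : PM ⟶ PG) (h1 : iM₁ ≫ θ = ι ≫ iG₁) (h2 : iM₂ ≫ θ = iG₂)
    (l : AG →+ R₀) (hann : ∀ y : AM, l (ι y) = 0) (L : PG →+ R)
    (hL : ∀ (x : AG) (s : R), L (iG₁ x * iG₂ s) = r₀ (l x) * s) (q : PM) : L (θ q) = 0 := by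
  have h0 : L.comp θ.hom.toAddMonoidHom = 0 := addHom_ext hM _ _ (fun y s => by
    change L (θ (iM₁ y * iM₂ s)) = 0
    have e1 : θ (iM₁ y) = iG₁ (ι y) := congr($h1 y)
    have e2 : θ (iM₂ s) = iG₂ s := congr($h2 s)
    rw [map_mul, e1, e2, hL, hann, map_zero, zero_mul])
  exact DFunLike.congr_fun h0 q

theorem functional_natural' {R₀ A R R' P P' : CommRingCat.{u}}
    {a : R₀ ⟶ A} {r : R₀ ⟶ R} {r' : R₀ ⟶ R'}
    {i₁ : A ⟶ P} {i₂ : R ⟶ P} {i₁' : A ⟶ P'} {i₂' : R' ⟶ P'}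
    (h : IsPushout a r i₁ i₂) (f : R ⟶ R') (hf : r ≫ f = r') (g : P ⟶ P')
    (hg1 : i₁ ≫ g = i₁') (hg2 : i₂ ≫ g = f ≫ i₂')
    (l : A →+ R₀) (L : P →+ R) (hL : ∀ (x : A) (s : R), L (i₁ x * i₂ s) = r (l x) * s)
    (L' : P' →+ R') (hL' : ∀ (x : A) (s : R'), L' (i₁' x * i₂' s) = r' (l x) * s) (p : P) :
    L' (g p) = f (L p) := by
  have h0 : L'.comp g.hom.toAddMonoidHom = f.hom.toAddMonoidHom.comp L :=
    addHom_ext h _ _ (fun x s => by
      change L' (g (i₁ x * i₂ s)) = f (L (i₁ x * i₂ s))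
      have e1 : g (i₁ x) = i₁' x := congr($hg1 x)
      have e2 : g (i₂ s) = i₂' (f s) := congr($hg2 s)
      have e3 : f (r (l x)) = r' (l x) := congr($hf (l x))
      have e4 : g (i₁ x * i₂ s) = i₁' x * i₂' (f s) := by rw [map_mul, e1, e2]
      rw [e4, hL', hL, map_mul, e3])
  exact DFunLike.congr_fun h0 p

theorem exists_retraction_hom {R₀ AM AG R PM PG : CommRingCat.{u}}
    {m₀ : R₀ ⟶ AM} {g₀ : R₀ ⟶ AG} {r₀ : R₀ ⟶ R}
    {iM₁ : AM ⟶ PM} {iM₂ : R ⟶ PM} {iG₁ : AG ⟶ PG} {iG₂ : R ⟶ PG}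
    (hM : IsPushout m₀ r₀ iM₁ iM₂) (hG : IsPushout g₀ r₀ iG₁ iG₂)
    (ρ : AG →+ AM) (hρ : ∀ (c' : R₀) (x : AG), ρ (g₀ c' * x) = m₀ c' * ρ x) :
    ∃ ρ' : PG →+ PM, ∀ (x : AG) (s : R), ρ' (iG₁ x * iG₂ s) = iM₁ (ρ x) * iM₂ s := by
  letI : Algebra R₀ AM := m₀.hom.toAlgebra
  letI : Algebra R₀ AG := g₀.hom.toAlgebra
  letI : Algebra R₀ R := r₀.hom.toAlgebra
  obtain ⟨eM, eM1, eM2, eM3⟩ := tensor_model (R₀ := R₀) hM rfl rfl
  obtain ⟨eG, eG1, eG2, eG3⟩ := tensor_model (R₀ := R₀) hG rfl rfl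
  let ρL : AG →ₗ[R₀] AM :=
    { toFun := ρ
      map_add' := map_add ρ
      map_smul' := fun c x => by
        simp only [RingHom.id_apply]
        have e1 : c • x = g₀ c * x := Algebra.smul_def c x
        have e2 : c • (ρ x) = m₀ c * ρ x := Algebra.smul_def c (ρ x)
        rw [e1, e2]
        exact hρ c x }
  refine ⟨eM.inv.hom.toAddMonoidHom.comp
    ((ρL.rTensor R).toAddMonoidHom.comp eG.hom.hom.toAddMonoidHom), fun x s => ?_⟩
  change eM.inv (ρL.rTensor R (eG.hom (iG₁ x * iG₂ s))) = _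
  rw [map_mul, eG1, eG2, Algebra.TensorProduct.tmul_mul_tmul, mul_one, one_mul,
    LinearMap.rTensor_tmul]
  exact eM3 (ρ x) s

theorem mem_range_of_family {R₀ AM AG R PM PG : CommRingCat.{u}}
    {m₀ : R₀ ⟶ AM} {g₀ : R₀ ⟶ AG} {r₀ : R₀ ⟶ R}
    {iM₁ : AM ⟶ PM} {iM₂ : R ⟶ PM} {iG₁ : AG ⟶ PG} {iG₂ : R ⟶ PG}
    (hM : IsPushout m₀ r₀ iM₁ iM₂) (hG : IsPushout g₀ r₀ iG₁ iG₂)
    (ι : AM ⟶ AG) (θ : PM ⟶ PG) (h1 : iM₁ ≫ θ = ι ≫ iG₁) (h2 : iM₂ ≫ θ = iG₂)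
    {J : Type} (l : J → AG →+ R₀) (c : J → AG) (ρ : AG →+ AM)
    (hρ : ∀ (c' : R₀) (x : AG), ρ (g₀ c' * x) = m₀ c' * ρ x)
    (hdec : ∀ x : AG, ∃ F : Finset J, (∀ j, j ∉ F → l j x = 0) ∧
      x = ι (ρ x) + ∑ j ∈ F, g₀ (l j x) * c j)
    (L : J → PG →+ R)
    (hL : ∀ (j : J) (x : AG) (s : R), L j (iG₁ x * iG₂ s) = r₀ (l j x) * s)
    (p : PG) (hp : ∀ j, L j p = 0) : ∃ q : PM, θ q = p := by
  classical
  obtain ⟨ρ', hρ'⟩ := exists_retraction_hom hM hG ρ hρ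
  have hw : ∀ c' : R₀, iG₁ (g₀ c') = iG₂ (r₀ c') := fun c' => congr($(hG.w) c')
  have key : ∀ p : PG, ∃ F : Finset J, (∀ j, j ∉ F → L j p = 0) ∧
      p = θ (ρ' p) + ∑ j ∈ F, iG₂ (L j p) * iG₁ (c j) := by
    intro p
    refine pushout_induction hG (motive := fun p => ∃ F : Finset J, (∀ j, j ∉ F → L j p = 0) ∧
      p = θ (ρ' p) + ∑ j ∈ F, iG₂ (L j p) * iG₁ (c j)) ?_ ?_ p
    · intro x s
      obtain ⟨F, hF0, hx⟩ := hdec x
      refine ⟨F, fun j hj => by rw [hL, hF0 j hj, map_zero, zero_mul], ?_⟩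
      have e1 : θ (ρ' (iG₁ x * iG₂ s)) = iG₁ (ι (ρ x)) * iG₂ s := by
        rw [hρ', map_mul]
        have a1 : θ (iM₁ (ρ x)) = iG₁ (ι (ρ x)) := congr($h1 (ρ x))
        have a2 : θ (iM₂ s) = iG₂ s := congr($h2 s)
        rw [a1, a2]
      have e2 : ∀ j ∈ F, iG₂ (L j (iG₁ x * iG₂ s)) * iG₁ (c j) =
          iG₁ (g₀ (l j x) * c j) * iG₂ s := by
        intro j _
        rw [hL, map_mul, map_mul, hw]
        ring
      have e3 : iG₁ (∑ j ∈ F, g₀ (l j x) * c j) = ∑ j ∈ F, iG₁ (g₀ (l j x) * c j) :=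
        map_sum _ _ _
      rw [e1, Finset.sum_congr rfl e2, ← Finset.sum_mul, ← e3, ← add_mul, ← map_add, ← hx]
    · rintro p q ⟨Fp, hp0, hpe⟩ ⟨Fq, hq0, hqe⟩
      refine ⟨Fp ∪ Fq, fun j hj => ?_, ?_⟩
      · rw [Finset.mem_union, not_or] at hj
        rw [map_add, hp0 j hj.1, hq0 j hj.2, add_zero]
      · have s1 : ∑ j ∈ Fp ∪ Fq, iG₂ (L j p) * iG₁ (c j) = ∑ j ∈ Fp, iG₂ (L j p) * iG₁ (c j) :=
          (Finset.sum_subset Finset.subset_union_left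
            (fun j _ hj => by rw [hp0 j hj, map_zero, zero_mul])).symm
        have s2 : ∑ j ∈ Fp ∪ Fq, iG₂ (L j q) * iG₁ (c j) = ∑ j ∈ Fq, iG₂ (L j q) * iG₁ (c j) :=
          (Finset.sum_subset Finset.subset_union_right
            (fun j _ hj => by rw [hq0 j hj, map_zero, zero_mul])).symm
        have s3 : ∑ j ∈ Fp ∪ Fq, iG₂ (L j (p + q)) * iG₁ (c j) =
            ∑ j ∈ Fp ∪ Fq, iG₂ (L j p) * iG₁ (c j) + ∑ j ∈ Fp ∪ Fq, iG₂ (L j q) * iG₁ (c j) := by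
          rw [← Finset.sum_add_distrib]
          refine Finset.sum_congr rfl (fun j _ => ?_)
          rw [map_add, map_add, add_mul]
        rw [s3, s1, s2, map_add, map_add]
        conv_lhs => rw [hpe, hqe]
        abel
  obtain ⟨F, -, hpF⟩ := key p
  refine ⟨ρ' p, ?_⟩
  have hz : ∑ j ∈ F, iG₂ (L j p) * iG₁ (c j) = 0 :=
    Finset.sum_eq_zero (fun j _ => by rw [hp j, map_zero, zero_mul])
  rw [hz, add_zero] at hpF
  exact hpF.symm

end Groth.Agent.Helper2.MagnetRep2
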