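import Groth.Agent.Lib.Helper2.Magnet.Pts
import Groth.Agent.Lib.Helper2.Magnet.Comap
import Mathlib.AlgebraicGeometry.AffineTransitionLimit

/-!
# Attractors of directed unions of magnets (helper2)

`A(⋃ N_i)_S × T` is the limit of the `A(N_i)_S × T` (functor of points: compatible characters glue),
so for `X` locally of finite presentation over `S` and `T` affine, every equivariant map
`A(⋃ N_i) × T ⟶ X` factors through some `A(N_i) × T`, equivariantly.
-/

set_option autoImplicit false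
set_option synthInstance.maxHeartbeats 400000
set_option maxHeartbeats 4000000
set_option linter.style.haveILetI false
set_option linter.unusedSectionVars false
set_option linter.unusedVariables false
set_option linter.unusedSimpArgs false
set_option linter.unnecessarySimpa false

universe u
open CategoryTheory Limits MonoidalCategory CartesianMonoidalCategory MonObj AlgebraicGeometry Opposite
open Magnet Magnet.MonAct

namespace Groth.Agent.Helper2.MagnetUnion

open Groth.Agent.Helper2.MagnetDom Groth.Agent.Helper2.MagnetCat Groth.Agent.Helper2.MagnetRep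
  Groth.Agent.Helper2.MagnetFun Groth.Agent.Helper2.MagnetLoc Groth.Agent.Helper2.MagnetComul
  Groth.Agent.Helper2.MagnetPts Groth.Agent.Helper2.MagnetComap

section Glue

theorem exists_glue {M : Type} [AddCommMonoid M] {J : Type} [Preorder J] [IsDirected J (· ≤ ·)]
    [Nonempty J] (N : J → AddSubmonoid M) (hN : Monotone N) {R : Type*} [CommMonoid R]
    (χ : ∀ i, Multiplicative ↥(N i) →* R)
    (hχ : ∀ (i j : J) (h : i ≤ j) (n : ↥(N i)), χ i (Multiplicative.ofAdd n) =
      χ j (Multiplicative.ofAdd (AddSubmonoid.inclusion (hN h) n))) :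
    ∃ χ' : Multiplicative ↥(⨆ i, N i) →* R, ∀ (i : J) (n : ↥(N i)),
      χ' (Multiplicative.ofAdd (AddSubmonoid.inclusion (le_iSup N i) n)) =
        χ i (Multiplicative.ofAdd n) := by
  classical
  have hdir : Directed (· ≤ ·) N := hN.directed_le
  have hmem : ∀ n : ↥(⨆ i, N i), ∃ i, (n : M) ∈ N i := fun n =>
    (AddSubmonoid.mem_iSup_of_directed hdir).1 n.2
  choose idx hidx using hmem
  have key : ∀ (i j : J) (m : M) (hi : m ∈ N i) (hj : m ∈ N j),
      χ i (Multiplicative.ofAdd ⟨m, hi⟩) = χ j (Multiplicative.ofAdd ⟨m, hj⟩) := by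
    intro i j m hi hj
    obtain ⟨k, hik, hjk⟩ := directed_of (· ≤ ·) i j
    rw [hχ i k hik ⟨m, hi⟩, hχ j k hjk ⟨m, hj⟩]
    rfl
  obtain ⟨F, hFdef⟩ : ∃ F : Multiplicative ↥(⨆ i, N i) → R, ∀ n, F n =
      χ (idx (Multiplicative.toAdd n)) (Multiplicative.ofAdd
        ⟨((Multiplicative.toAdd n : ↥(⨆ i, N i)) : M), hidx _⟩) := ⟨_, fun _ => rfl⟩
  have hF : ∀ (n : Multiplicative ↥(⨆ i, N i)) (i : J)
      (hi : ((Multiplicative.toAdd n : ↥(⨆ i, N i)) : M) ∈ N i),
      F n = χ i (Multiplicative.ofAdd ⟨_, hi⟩) := fun n i hi => (hFdef n).trans (key _ _ _ _ _)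
  refine ⟨{ toFun := F, map_one' := ?_, map_mul' := ?_ }, ?_⟩
  · obtain ⟨i⟩ := ‹Nonempty J›
    refine (hF 1 i (N i).zero_mem).trans ?_
    exact (χ i).map_one
  · intro a b
    obtain ⟨k, hak, hbk⟩ :=
      directed_of (· ≤ ·) (idx (Multiplicative.toAdd a)) (idx (Multiplicative.toAdd b))
    have ha : ((Multiplicative.toAdd a : ↥(⨆ i, N i)) : M) ∈ N k := hN hak (hidx _)
    have hb : ((Multiplicative.toAdd b : ↥(⨆ i, N i)) : M) ∈ N k := hN hbk (hidx _)
    rw [hF a k ha, hF b k hb]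
    refine (hF (a * b) k ((N k).add_mem ha hb)).trans ?_
    exact map_mul (χ k) (Multiplicative.ofAdd ⟨_, ha⟩) (Multiplicative.ofAdd ⟨_, hb⟩)
  · intro i n
    exact hF (Multiplicative.ofAdd (AddSubmonoid.inclusion (le_iSup N i) n)) i n.2

end Glue

section Limit

variable (S : Scheme.{u}) {M : Type} [AddCommMonoid M]

theorem map_inclusion_comp {A B C : AddSubmonoid M} (h₁ : A ≤ B) (h₂ : B ≤ C) :
    AMonS.map S (AddSubmonoid.inclusion h₂) ≫ AMonS.map S (AddSubmonoid.inclusion h₁) =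
      AMonS.map S (AddSubmonoid.inclusion (h₁.trans h₂)) := by
  have e : (AddSubmonoid.inclusion h₂).comp (AddSubmonoid.inclusion h₁) =
      AddSubmonoid.inclusion (h₁.trans h₂) := AddMonoidHom.ext fun _ => rfl
  rw [← AMonS.map_comp, e]

theorem map_subtype_comp {A B : AddSubmonoid M} (h₁ : A ≤ B) :
    AMonS.map S B.subtype ≫ AMonS.map S (AddSubmonoid.inclusion h₁) = AMonS.map S A.subtype := by
  have e : B.subtype.comp (AddSubmonoid.inclusion h₁) = A.subtype :=
    AddMonoidHom.ext fun _ => rfl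
  rw [← AMonS.map_comp, e]

theorem map_inclusion_refl {A : AddSubmonoid M} (h : A ≤ A) :
    AMonS.map S (AddSubmonoid.inclusion h) = 𝟙 _ := by
  have e : AddSubmonoid.inclusion h = AddMonoidHom.id ↥A := AddMonoidHom.ext fun _ => rfl
  rw [e, AMonS_map_id]

variable {J : Type} [Preorder J] [IsDirected J (· ≤ ·)] [Nonempty J]
  (N : J → AddSubmonoid M) (hN : Monotone N)

theorem exists_point_iSup {W : Over S} (g : ∀ i, W ⟶ AMonS S ↥(N i))
    (hg : ∀ (i j : J) (h : i ≤ j), g j ≫ AMonS.map S (AddSubmonoid.inclusion (hN h)) = g i) :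
    ∃ g' : W ⟶ AMonS S ↥(⨆ i, N i),
      ∀ i, g' ≫ AMonS.map S (AddSubmonoid.inclusion (le_iSup N i)) = g i := by
  obtain ⟨χ', hχ'⟩ := exists_glue N hN (fun i => charOf S ↥(N i) (g i)) (by
    intro i j h n
    change charOf S ↥(N i) (g i) (Multiplicative.ofAdd n) =
      charOf S ↥(N j) (g j) (Multiplicative.ofAdd (AddSubmonoid.inclusion (hN h) n))
    rw [← hg i j h, charOf_map]
    rfl)
  obtain ⟨g', hg'⟩ := exists_point S ↥(⨆ i, N i) χ'
  refine ⟨g', fun i => ?_⟩
  apply charOf_injective S ↥(N i)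
  apply MonoidHom.ext
  intro n
  rw [charOf_map, hg']
  exact hχ' i (Multiplicative.toAdd n)

include hN in
theorem point_iSup_ext {W : Over S} (g₁ g₂ : W ⟶ AMonS S ↥(⨆ i, N i))
    (h : ∀ i, g₁ ≫ AMonS.map S (AddSubmonoid.inclusion (le_iSup N i)) =
      g₂ ≫ AMonS.map S (AddSubmonoid.inclusion (le_iSup N i))) : g₁ = g₂ := by
  apply charOf_injective S ↥(⨆ i, N i)
  apply MonoidHom.ext
  intro n
  obtain ⟨i, hi⟩ := (AddSubmonoid.mem_iSup_of_directed hN.directed_le).1 (Multiplicative.toAdd n).2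
  have h1 : charOf S ↥(N i) (g₁ ≫ AMonS.map S (AddSubmonoid.inclusion (le_iSup N i)))
      (Multiplicative.ofAdd ⟨_, hi⟩) =
      charOf S ↥(N i) (g₂ ≫ AMonS.map S (AddSubmonoid.inclusion (le_iSup N i)))
        (Multiplicative.ofAdd ⟨_, hi⟩) := by rw [h i]
  rw [charOf_map, charOf_map] at h1
  exact h1

theorem existsUnique_lift_iSup (T : Over S) {W : Over S} (w : ∀ i, W ⟶ AMonS S ↥(N i) ⊗ T)
    (hw : ∀ (i j : J) (h : i ≤ j),
      w j ≫ (AMonS.map S (AddSubmonoid.inclusion (hN h)) ▷ T) = w i) :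
    ∃! l : W ⟶ AMonS S ↥(⨆ i, N i) ⊗ T,
      ∀ i, l ≫ (AMonS.map S (AddSubmonoid.inclusion (le_iSup N i)) ▷ T) = w i := by
  have hfst : ∀ (i j : J) (h : i ≤ j),
      (w j ≫ fst _ _) ≫ AMonS.map S (AddSubmonoid.inclusion (hN h)) = w i ≫ fst _ _ := by
    intro i j h
    rw [← hw i j h, Category.assoc, Category.assoc, whiskerRight_fst]
  have hsnd : ∀ (i j : J) (h : i ≤ j), w j ≫ snd _ _ = w i ≫ snd _ _ := by
    intro i j h
    rw [← hw i j h, Category.assoc, whiskerRight_snd]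
  have hsnd' : ∀ i j : J, w i ≫ snd _ _ = w j ≫ snd _ _ := by
    intro i j
    obtain ⟨k, hik, hjk⟩ := directed_of (· ≤ ·) i j
    rw [← hsnd i k hik, ← hsnd j k hjk]
  obtain ⟨g', hg'⟩ := exists_point_iSup S N hN (fun i => w i ≫ fst _ _) hfst
  have hg'' : ∀ i, g' ≫ AMonS.map S (AddSubmonoid.inclusion (le_iSup N i)) = w i ≫ fst _ _ := hg'
  obtain ⟨i₀⟩ := ‹Nonempty J›
  refine ⟨lift g' (w i₀ ≫ snd _ _), fun i => ?_, fun l' hl' => ?_⟩
  · rw [lift_whiskerRight, hg'' i, hsnd' i₀ i]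
    exact lift_comp_fst_snd (w i)
  · apply CartesianMonoidalCategory.hom_ext
    · rw [lift_fst]
      apply point_iSup_ext S N hN
      intro i
      rw [hg'' i, Category.assoc, ← whiskerRight_fst, ← Category.assoc, hl' i]
    · rw [lift_snd, ← hl' i₀, Category.assoc, whiskerRight_snd]

theorem existsUnique_lift_scheme (T : Over S) {W₀ : Scheme.{u}}
    (q : ∀ i, W₀ ⟶ (AMonS S ↥(N i) ⊗ T).left)
    (hq : ∀ (i j : J) (h : i ≤ j),
      q j ≫ (AMonS.map S (AddSubmonoid.inclusion (hN h)) ▷ T).left = q i) :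
    ∃! l : W₀ ⟶ (AMonS S ↥(⨆ i, N i) ⊗ T).left,
      ∀ i, l ≫ (AMonS.map S (AddSubmonoid.inclusion (le_iSup N i)) ▷ T).left = q i := by
  obtain ⟨i₀⟩ := ‹Nonempty J›
  have hstr : ∀ (i j : J) (h : i ≤ j),
      q j ≫ (AMonS S ↥(N j) ⊗ T).hom = q i ≫ (AMonS S ↥(N i) ⊗ T).hom := by
    intro i j h
    rw [← hq i j h, Category.assoc, Over.w]
  have hstr' : ∀ i : J,
      q i ≫ (AMonS S ↥(N i) ⊗ T).hom = q i₀ ≫ (AMonS S ↥(N i₀) ⊗ T).hom := by
    intro i
    obtain ⟨k, hik, h0k⟩ := directed_of (· ≤ ·) i i₀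
    rw [← hstr i k hik, ← hstr i₀ k h0k]
  obtain ⟨W, hW⟩ : ∃ W : Over S, W = Over.mk (q i₀ ≫ (AMonS S ↥(N i₀) ⊗ T).hom) := ⟨_, rfl⟩
  subst hW
  obtain ⟨w, hwdef⟩ : ∃ w : ∀ i, Over.mk (q i₀ ≫ (AMonS S ↥(N i₀) ⊗ T).hom) ⟶
      AMonS S ↥(N i) ⊗ T, ∀ i, (w i).left = q i :=
    ⟨fun i => Over.homMk (q i) (hstr' i), fun _ => rfl⟩
  have hw : ∀ (i j : J) (h : i ≤ j),
      w j ≫ (AMonS.map S (AddSubmonoid.inclusion (hN h)) ▷ T) = w i := by
    intro i j h
    apply Over.OverMorphism.ext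
    rw [Over.comp_left, hwdef, hwdef]
    exact hq i j h
  obtain ⟨l, hl, hu⟩ := existsUnique_lift_iSup S N hN T w hw
  refine ⟨l.left, fun i => ?_, fun l' hl' => ?_⟩
  · rw [← Over.comp_left, hl i, hwdef]
  · have hl'w : l' ≫ (AMonS S ↥(⨆ i, N i) ⊗ T).hom =
        q i₀ ≫ (AMonS S ↥(N i₀) ⊗ T).hom := by
      rw [← hl' i₀, Category.assoc, Over.w]
    have h2 := hu (Over.homMk l' hl'w) (fun i => by
      apply Over.OverMorphism.ext
      rw [Over.comp_left, hwdef]
      exact hl' i)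
    exact congrArg (fun f => f.left) h2

section Diagram

variable (T : Over S)

theorem down_le {a b : ULift.{u} J} (h : a ≤ b) : a.down ≤ b.down := h

/-- the diagram `i ↦ A(N_i)_S × T` -/
noncomputable def diag : (ULift.{u} J)ᵒᵖ ⥤ Scheme.{u} where
  obj i := (AMonS S ↥(N i.unop.down) ⊗ T).left
  map {i j} f :=
    (AMonS.map S (AddSubmonoid.inclusion (hN (down_le (leOfHom f.unop)))) ▷ T).left
  map_id i := by
    rw [map_inclusion_refl, id_whiskerRight]
    rfl
  map_comp {i j k} f g := by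
    rw [← Over.comp_left, ← comp_whiskerRight, map_inclusion_comp]

/-- the structure maps of the diagram -/
noncomputable def diagStr : diag S N hN T ⟶ (Functor.const _).obj S where
  app i := (AMonS S ↥(N i.unop.down) ⊗ T).hom
  naturality i j f := by
    change (AMonS.map S (AddSubmonoid.inclusion (hN (down_le (leOfHom f.unop)))) ▷ T).left ≫
      (AMonS S ↥(N j.unop.down) ⊗ T).hom = (AMonS S ↥(N i.unop.down) ⊗ T).hom ≫ 𝟙 S
    rw [Category.comp_id, Over.w]

/-- the limit cone -/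
noncomputable def limCone : Cone (diag S N hN T) where
  pt := (AMonS S ↥(⨆ i, N i) ⊗ T).left
  π :=
    { app := fun i => (AMonS.map S (AddSubmonoid.inclusion (le_iSup N i.unop.down)) ▷ T).left
      naturality := fun i j f => by
        change 𝟙 _ ≫ (AMonS.map S (AddSubmonoid.inclusion (le_iSup N j.unop.down)) ▷ T).left =
          (AMonS.map S (AddSubmonoid.inclusion (le_iSup N i.unop.down)) ▷ T).left ≫
            (AMonS.map S (AddSubmonoid.inclusion (hN (down_le (leOfHom f.unop)))) ▷ T).left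
        rw [Category.id_comp, ← Over.comp_left, ← comp_whiskerRight, map_inclusion_comp] }

theorem isLimit_limCone : Nonempty (IsLimit (limCone S N hN T)) := by
  refine ⟨IsLimit.ofExistsUnique fun s => ?_⟩
  have hq : ∀ (i j : J) (h : i ≤ j),
      s.π.app (op (ULift.up j)) ≫ (AMonS.map S (AddSubmonoid.inclusion (hN h)) ▷ T).left =
        s.π.app (op (ULift.up i)) := by
    intro i j h
    exact s.w (homOfLE (show (ULift.up i : ULift.{u} J) ≤ ULift.up j from h)).op
  obtain ⟨l, hl, hu⟩ := existsUnique_lift_scheme S N hN T (W₀ := s.pt)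
    (fun i => s.π.app (op (ULift.up i))) hq
  exact ⟨l, fun i => hl i.unop.down, fun l' hl' => hu l' fun i => hl' (op (ULift.up i))⟩

end Diagram

end Limit

theorem main18290 (S : Scheme.{u}) (M : Type) [AddCommMonoid M]
    (X : Over S) [IsSeparated X.hom] [LocallyOfFinitePresentation X.hom]
    (a : Magnet.MonAct (Magnet.AMonS S M) X) {J : Type} [Preorder J] [IsDirected J (· ≤ ·)]
    [Nonempty J] (N : J → AddSubmonoid M) (hN : Monotone N) (T : Over S) [IsAffine T.left]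
    (φ : (Magnet.attr a (⨆ i, N i)).obj (op T)) :
    ∃ (i : J) (ψ : (Magnet.attr a (N i)).obj (op T)),
      (Magnet.attrMap a (le_iSup N i)).app (op T) ψ = φ := by
  haveI : IsDirected (ULift.{u} J) (· ≤ ·) := ⟨fun a b => by
    obtain ⟨c, h1, h2⟩ := directed_of (· ≤ ·) a.down b.down
    exact ⟨ULift.up c, h1, h2⟩⟩
  haveI : Nonempty (ULift.{u} J) := ⟨ULift.up (Classical.arbitrary J)⟩
  haveI : IsCofiltered (ULift.{u} J)ᵒᵖ := inferInstance
  obtain ⟨hc⟩ := isLimit_limCone S N hN T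
  haveI : ∀ {i j : (ULift.{u} J)ᵒᵖ} (f : i ⟶ j), IsAffineHom ((diag S N hN T).map f) :=
    fun f => isAffineHom_map_whiskerRight S _ T
  haveI hAff : ∀ i, IsAffine ((diag S N hN T).obj i) := fun i => isAffine_tensor S _ T
  haveI : ∀ i, CompactSpace ((diag S N hN T).obj i) := fun i => inferInstance
  haveI : ∀ i, QuasiSeparatedSpace ((diag S N hN T).obj i) := fun i => inferInstance
  have ha : (limCone S N hN T).π ≫ diagStr S N hN T =
      (Functor.const _).map (φ.1.left ≫ X.hom) := by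
    apply NatTrans.ext
    funext i
    change (AMonS.map S (AddSubmonoid.inclusion (le_iSup N i.unop.down)) ▷ T).left ≫
      (AMonS S ↥(N i.unop.down) ⊗ T).hom = φ.1.left ≫ X.hom
    rw [Over.w, Over.w]
  obtain ⟨i, g, hg1, hg2⟩ := Scheme.exists_π_app_comp_eq_of_locallyOfFinitePresentation
    (diag S N hN T) (diagStr S N hN T) X.hom (limCone S N hN T) hc φ.1.left ha
  obtain ⟨ψ₀, hψ₀⟩ : ∃ ψ₀ : AMonS S ↥(N i.unop.down) ⊗ T ⟶ X, ψ₀.left = g :=
    ⟨Over.homMk g hg2, rfl⟩
  have hcomp : (AMonS.map S (AddSubmonoid.inclusion (le_iSup N i.unop.down)) ▷ T) ≫ ψ₀ = φ.1 := by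
    apply Over.OverMorphism.ext
    rw [Over.comp_left, hψ₀]
    exact hg1
  have hinj : Function.Injective (N i.unop.down).subtype := fun x y h => Subtype.ext h
  have horb := precomp_eq_orbit (AMonS.map S (⨆ i, N i).subtype) a φ.1 φ.2
  have hι : AMonS.map S (⨆ i, N i).subtype ≫
      AMonS.map S (AddSubmonoid.inclusion (le_iSup N i.unop.down)) =
        AMonS.map S (N i.unop.down).subtype := map_subtype_comp S _
  have hpre : (AMonS.map S (N i.unop.down).subtype ▷ T) ≫ ψ₀ =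
      (AMonS S M ◁ (lift (toUnit T ≫ η[AMonS S ↥(⨆ i, N i)]) (𝟙 T) ≫ φ.1)) ≫ a.act := by
    rw [← hι, comp_whiskerRight, Category.assoc, hcomp]
    exact horb
  have hcancel2 : ∀ f₁ f₂ : AMonS S M ⊗ (AMonS S ↥(N i.unop.down) ⊗ T) ⟶ X,
      (AMonS S M ◁ (AMonS.map S (N i.unop.down).subtype ▷ T)) ≫ f₁ =
        (AMonS S M ◁ (AMonS.map S (N i.unop.down).subtype ▷ T)) ≫ f₂ → f₁ = f₂ :=
    fun f₁ f₂ h => by
      haveI := isSchemeTheoreticallyDominant_whiskerRight S (N i.unop.down).subtype hinj T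
      haveI := isAffineHom_map_whiskerRight S (N i.unop.down).subtype T
      haveI := flat_AMonS_hom S M
      haveI := isSchemeTheoreticallyDominant_whiskerLeft_of_flat (AMonS S M)
        (AMonS.map S (N i.unop.down).subtype ▷ T)
      exact eq_of_comp_eq_of_dominant
        (AMonS S M ◁ (AMonS.map S (N i.unop.down).subtype ▷ T)) f₁ f₂ h
  refine ⟨i.unop.down, ⟨ψ₀, isEquivariant_of_precomp_eq_orbit
    (AMonS.map S (N i.unop.down).subtype) a ψ₀ _ hpre hcancel2⟩, ?_⟩
  apply Subtype.ext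
  exact hcomp

end Groth.Agent.Helper2.MagnetUnion
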